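import Mathlib
import Cfsg.Agent.OddHalf.SL.Defs

/-!
# ODD, D4: `K = E_6(2), E_7(2), E_8(2)`: the interface (helper503; text: helper305 #11622)

* `XS x S` : the subgroup generated by the root elements `x c`, `c ∈ S`;
* `RE B Φ x ht` : root elements over the field of two elements, simply laced (`ht` an additive function on the root
  lattice which is injective and nowhere zero on the roots; positive roots: `0 < ht c`);
* `RA B Φ x ht ρ Fl` : the facts on Sylow 2-subgroups, `O_2` of centralisers of root elements and automorphisms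
  (`Fl τ` : the diagram automorphisms).
-/

set_option autoImplicit false

namespace Cfsg.Agent.OddHalf.D4.En2

open Subgroup Cfsg.Agent.OddHalf.SL.Defs

variable {L Y : Type*} [AddCommGroup L] [Group Y]

/-- the subgroup generated by the root elements of `S` -/
def XS (x : L → Y) (S : Set L) : Subgroup Y := closure (x '' S)

/-- positive roots -/
def Pos (Φ : Set L) (ht : L →+ ℤ) : Set L := {c | c ∈ Φ ∧ 0 < ht c}

/-- closed sets of roots -/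
def Closed (B : L → L → ℤ) (S : Set L) : Prop := ∀ a ∈ S, ∀ b ∈ S, B a b = -1 → a + b ∈ S

/-- Root elements over the field of two elements, simply laced. -/
structure RE (B : L → L → ℤ) (Φ : Set L) (x : L → Y) (ht : L →+ ℤ) : Prop where
  rt : Roots B Φ
  orth : ∀ r ∈ Φ, ∀ s ∈ Φ, B r s = 0 → ∃ a ∈ Φ, B a r = 1 ∧ B a s = -1
  tri : ∀ r ∈ Φ, ∀ s ∈ Φ, B r s = 1 → ∃ m ∈ Φ, B m r = 1 ∧ B m s = 1
  /-- `b` adjacent to the orthogonal roots `r`, `s`: there is `c` at 60 degrees to all three -/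
  quad : ∀ r ∈ Φ, ∀ s ∈ Φ, ∀ b ∈ Φ, B r s = 0 → B b r = 1 → B b s = 1 → ∃ c ∈ Φ, B c r = 1 ∧ B c s = 1 ∧ B c b = 1
  ht0 : ∀ a ∈ Φ, ht a ≠ 0
  hti : ∀ a ∈ Φ, ∀ b ∈ Φ, ht a = ht b → a = b
  gen : XS x Φ = ⊤
  sq : ∀ a ∈ Φ, x a * x a = 1
  ne : ∀ a ∈ Φ, x a ≠ 1
  comm : ∀ a ∈ Φ, ∀ b ∈ Φ, 0 ≤ B a b → x a * x b = x b * x a
  add : ∀ a ∈ Φ, ∀ b ∈ Φ, B a b = -1 → x a * x b * x a = x b * x (a + b)
  braid : ∀ a ∈ Φ, x a * x (-a) * x a = x (-a) * x a * x (-a)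
  /-- centralisers of root elements (the torus is trivial over the field of two elements) -/
  cent : ∀ a ∈ Φ, ∀ g : Y, g * x a = x a * g → g ∈ XS x {c | c ∈ Φ ∧ 0 ≤ B c a}
  /-- intersections of parabolic subgroups -/
  inter : ∀ (g : Y) (F : List (L →+ ℤ)), (∀ f ∈ F, g ∈ XS x {c | c ∈ Φ ∧ 0 ≤ f c}) →
    g ∈ XS x {c | c ∈ Φ ∧ ∀ f ∈ F, 0 ≤ f c}
  /-- unique expression in the positive unipotent subgroup -/
  inf : ∀ S T : Set L, S ⊆ Pos Φ ht → T ⊆ Pos Φ ht → Closed B S → Closed B T → XS x S ⊓ XS x T ≤ XS x (S ∩ T)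

/-- Sylow 2-subgroups, `O_2` of centralisers, automorphisms. -/
structure RA (B : L → L → ℤ) (Φ : Set L) (x : L → Y) (ht : L →+ ℤ) (ρ : L) (Fl : (L →+ L) → Prop) : Prop where
  ρmem : ρ ∈ Φ
  high : ∀ c ∈ Φ, 0 < ht c → 0 ≤ B c ρ
  syl : ∃ S : Sylow 2 Y, (S : Subgroup Y) = XS x (Pos Φ ht)
  norm : ∀ g : Y, (∀ u ∈ XS x (Pos Φ ht), g * u * g⁻¹ ∈ XS x (Pos Φ ht)) → g ∈ XS x (Pos Φ ht)
  core : ∀ a ∈ Φ, ∀ P : Subgroup Y, IsPGroup 2 ↥P → (∀ p ∈ P, p * x a = x a * p) →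
    (∀ c, c * x a = x a * c → ∀ p ∈ P, c * p * c⁻¹ ∈ P) → P ≤ XS x {c | c ∈ Φ ∧ 0 < B c a}
  auto : ∀ β : MulAut Y, (∀ u ∈ XS x (Pos Φ ht), β u ∈ XS x (Pos Φ ht)) →
    ∃ s ∈ XS x (Pos Φ ht), ∃ τ : L →+ L, Fl τ ∧ ∀ c ∈ Φ, β (x c) = s * x (τ c) * s⁻¹

end Cfsg.Agent.OddHalf.D4.En2
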