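import Mathlib
import Cfsg.Agent.OddHalf.D4.En2.Base

/-!
# ODD, D4, `E_n(2)`: elementary lemmas on root elements over the field of two elements
-/

set_option autoImplicit false
set_option linter.unusedSectionVars false

namespace Cfsg.Agent.OddHalf.D4.En2

open Subgroup Cfsg.Agent.OddHalf.SL.Defs

variable {L Y : Type*} [AddCommGroup L] [Group Y]
variable {B : L → L → ℤ} {Φ : Set L} {x : L → Y} {ht : L →+ ℤ}

theorem mem_XS {S : Set L} {c : L} (hc : c ∈ S) : x c ∈ XS x S := subset_closure ⟨c, hc, rfl⟩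

theorem XS_mono {S T : Set L} (h : S ⊆ T) : XS x S ≤ XS x T := closure_mono (Set.image_mono h)

theorem XS_le {S : Set L} {H : Subgroup Y} (h : ∀ c ∈ S, x c ∈ H) : XS x S ≤ H := by
  unfold XS
  rw [closure_le]
  rintro _ ⟨c, hc, rfl⟩
  exact h c hc

/-- `⟨·, r⟩` as an additive map -/
def fB (rt : Roots B Φ) (r : L) : L →+ ℤ := AddMonoidHom.mk' (fun c => B c r) fun a b => rt.add_left a b r

@[simp] theorem fB_apply (rt : Roots B Φ) (r c : L) : fB rt r c = B c r := rfl

/-- commuting with all of `XS x S` -/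
theorem comm_XS {S : Set L} {g : Y} (h : ∀ c ∈ S, g * x c = x c * g) {u : Y} (hu : u ∈ XS x S) : g * u = u * g := by
  have h1 : XS x S ≤ centralizer ({g} : Set Y) := XS_le fun c hc => by
    rw [mem_centralizer_singleton_iff]; exact (h c hc).symm
  exact (mem_centralizer_singleton_iff.mp (h1 hu)).symm

/-- conjugation by an involution into a subgroup -/
theorem conj_mem_XS {S : Set L} {H : Subgroup Y} {g : Y} (h : ∀ c ∈ S, g * x c * g⁻¹ ∈ H) {u : Y} (hu : u ∈ XS x S) :
    g * u * g⁻¹ ∈ H := by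
  have h1 : XS x S ≤ H.comap (MulAut.conj g).toMonoidHom := XS_le fun c hc => h c hc
  exact h1 hu

namespace RE

variable (h : RE B Φ x ht)
include h

theorem inv {a : L} (ha : a ∈ Φ) : (x a)⁻¹ = x a := inv_eq_of_mul_eq_one_left (h.sq a ha)

theorem cancel {a : L} (ha : a ∈ Φ) (g : Y) : x a * (x a * g) = g := by rw [← mul_assoc, h.sq a ha, one_mul]

theorem cancel' {a : L} (ha : a ∈ Φ) (g : Y) : g * x a * x a = g := by rw [mul_assoc, h.sq a ha, mul_one]

theorem conj_pos {a b : L} (ha : a ∈ Φ) (hb : b ∈ Φ) (hab : 0 ≤ B a b) : x a * x b * (x a)⁻¹ = x b := by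
  rw [h.comm a ha b hb hab]; group

theorem conj_neg {a b : L} (ha : a ∈ Φ) (hb : b ∈ Φ) (hab : B a b = -1) : x a * x b * (x a)⁻¹ = x b * x (a + b) := by
  rw [h.inv ha, h.add a ha b hb hab]

theorem self {a : L} (ha : a ∈ Φ) : B a a = 2 := h.rt.two a ha

theorem ne_neg {a : L} (ha : a ∈ Φ) : a ≠ -a := by
  intro h0
  have h1 := h.self ha
  have h2 : B a (-a) = -2 := by rw [h.rt.neg_right, h1]
  rw [← h0, h1] at h2
  omega

/-- the value of `B` on roots -/
theorem cases {a b : L} (ha : a ∈ Φ) (hb : b ∈ Φ) : B a b = -2 ∨ B a b = -1 ∨ B a b = 0 ∨ B a b = 1 ∨ B a b = 2 := by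
  have h1 := h.rt.le a ha b hb
  have h2 := h.rt.ge ha hb
  omega

/-- `x a` normalises `XS x T` if `T` is stable under adding `a`. -/
theorem conj_XS {T : Set L} {a : L} (ha : a ∈ Φ) (hT : T ⊆ Φ) (hna : -a ∉ T) (hadd : ∀ c ∈ T, B a c = -1 → a + c ∈ T)
    {u : Y} (hu : u ∈ XS x T) : x a * u * (x a)⁻¹ ∈ XS x T := by
  apply conj_mem_XS (fun c hc => ?_) hu
  have hcΦ := hT hc
  rcases h.cases ha hcΦ with h1 | h1 | h1
  · exfalso
    have h2 : a = -c := h.rt.eq_neg ha hcΦ h1
    apply hna
    rw [h2, neg_neg]; exact hc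
  · rw [h.conj_neg ha hcΦ h1]
    exact mul_mem (mem_XS hc) (mem_XS (hadd c hc h1))
  · rw [h.conj_pos ha hcΦ (by omega)]
    exact mem_XS hc

/-- normalised subgroup: splitting off a factor -/
theorem mem_insert {T : Set L} {b : L} (hb : b ∈ Φ) (hn : ∀ u ∈ XS x T, x b * u * (x b)⁻¹ ∈ XS x T) {w : Y}
    (hw : w ∈ XS x (insert b T)) : w ∈ XS x T ∨ x b * w ∈ XS x T := by
  have hn' : ∀ u ∈ XS x T, x b * u * x b ∈ XS x T := by
    intro u hu
    have := hn u hu
    rwa [h.inv hb] at this
  unfold XS at hw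
  induction hw using closure_induction with
  | mem y hy =>
    obtain ⟨c, hc, rfl⟩ := hy
    rcases hc with rfl | hc
    · right; rw [h.sq _ hb]; exact one_mem _
    · left; exact mem_XS hc
  | one => left; exact one_mem _
  | mul y z _ _ hy hz =>
    rcases hy with hy | hy <;> rcases hz with hz | hz
    · left; exact mul_mem hy hz
    · right
      have h1 : x b * (y * z) = (x b * y * x b) * (x b * z) := by
        have := h.sq b hb
        calc x b * (y * z) = x b * y * 1 * z := by group
          _ = _ := by rw [← this]; group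
      rw [h1]; exact mul_mem (hn' y hy) hz
    · right
      rw [← mul_assoc]; exact mul_mem hy hz
    · left
      have h1 : y * z = (x b * (x b * y) * x b) * (x b * z) := by
        rw [h.cancel hb]
        calc y * z = y * 1 * z := by group
          _ = y * (x b * x b) * z := by rw [h.sq b hb]
          _ = _ := by group
      rw [h1]; exact mul_mem (hn' _ hy) hz
  | inv y _ hy =>
    rcases hy with hy | hy
    · left; exact inv_mem hy
    · right
      have h1 : x b * y⁻¹ = x b * (x b * y)⁻¹ * x b := by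
        rw [mul_inv_rev, h.inv hb]
        rw [mul_assoc, mul_assoc, h.sq b hb, mul_one]
      rw [h1]; exact hn' _ (inv_mem hy)

/-- The positive roots: adding a positive root. -/
theorem closed_pos : Closed B (Pos Φ ht) := by
  rintro a ⟨ha, ha0⟩ b ⟨hb, hb0⟩ hab
  exact ⟨h.rt.add a ha b hb hab, by rw [map_add]; omega⟩

theorem inter_mem {S : Set L} {F : List (L →+ ℤ)} {g : Y} (hg : ∀ f ∈ F, g ∈ XS x {c | c ∈ Φ ∧ 0 ≤ f c})
    (hS : ∀ c ∈ Φ, (∀ f ∈ F, 0 ≤ f c) → c ∈ S) : g ∈ XS x S :=
  XS_mono (fun c hc => hS c hc.1 hc.2) (h.inter g F hg)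

/-- a positive root element is not generated by higher ones -/
theorem notMem_of_notMem {S : Set L} (hS : S ⊆ Pos Φ ht) (hc : Closed B S) {b : L} (hb : b ∈ Pos Φ ht) (hbS : b ∉ S) :
    x b ∉ XS x S := by
  intro h0
  have h1 : XS x ({b} : Set L) ⊓ XS x S ≤ XS x (({b} : Set L) ∩ S) := by
    apply h.inf _ _ _ hS _ hc
    · rintro c hc
      rw [Set.mem_singleton_iff] at hc
      rw [hc]; exact hb
    · intro a ha c hc hac
      rw [Set.mem_singleton_iff] at ha hc
      subst ha hc
      rw [h.self hb.1] at hac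
      omega
  have h2 : x b ∈ XS x (({b} : Set L) ∩ S) := h1 ⟨mem_XS rfl, h0⟩
  have h3 : ({b} : Set L) ∩ S = ∅ := by
    ext c
    simp only [Set.mem_inter_iff, Set.mem_singleton_iff, Set.mem_empty_iff_false, iff_false, not_and]
    rintro rfl
    exact hbS
  rw [h3] at h2
  unfold XS at h2
  rw [Set.image_empty, Subgroup.closure_empty, mem_bot] at h2
  exact h.ne b hb.1 h2

end RE

/-! ### Products over lists of pairwise orthogonal roots -/

/-- product of root elements -/
def pr (x : L → Y) (F : List L) : Y := (F.map x).prod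

/-- pairwise orthogonal roots -/
structure Ort (B : L → L → ℤ) (Φ : Set L) (F : List L) : Prop where
  mem : ∀ a ∈ F, a ∈ Φ
  pw : F.Pairwise fun a b => B a b = 0

@[simp] theorem pr_nil : pr x ([] : List L) = 1 := rfl

@[simp] theorem pr_cons (a : L) (F : List L) : pr x (a :: F) = x a * pr x F := by
  unfold pr; rw [List.map_cons, List.prod_cons]

@[simp] theorem pr_append (F F' : List L) : pr x (F ++ F') = pr x F * pr x F' := by
  unfold pr; rw [List.map_append, List.prod_append]

namespace Ort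

theorem nil : Ort B Φ ([] : List L) := ⟨by simp, List.Pairwise.nil⟩

theorem tail {a : L} {F : List L} (h : Ort B Φ (a :: F)) : Ort B Φ F :=
  ⟨fun b hb => h.mem b (List.mem_cons_of_mem _ hb), (List.pairwise_cons.mp h.pw).2⟩

theorem head {a : L} {F : List L} (h : Ort B Φ (a :: F)) : a ∈ Φ := h.mem a List.mem_cons_self

theorem orth {a : L} {F : List L} (h : Ort B Φ (a :: F)) : ∀ b ∈ F, B a b = 0 := (List.pairwise_cons.mp h.pw).1

theorem cons {a : L} {F : List L} (ha : a ∈ Φ) (h : Ort B Φ F) (ho : ∀ b ∈ F, B a b = 0) : Ort B Φ (a :: F) := by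
  refine ⟨fun b hb => ?_, List.pairwise_cons.mpr ⟨ho, h.pw⟩⟩
  rcases List.mem_cons.mp hb with rfl | hb
  · exact ha
  · exact h.mem b hb

theorem perm (rt : Roots B Φ) {F F' : List L} (h : Ort B Φ F) (hp : F.Perm F') : Ort B Φ F' :=
  ⟨fun a ha => h.mem a (hp.mem_iff.mpr ha), (hp.pairwise_iff (fun {a b} hab => by rw [rt.symm]; exact hab)).mp h.pw⟩

theorem sublist {F F' : List L} (h : Ort B Φ F) (hp : F'.Sublist F) : Ort B Φ F' :=
  ⟨fun a ha => h.mem a (hp.subset ha), h.pw.sublist hp⟩

theorem nodup (rt : Roots B Φ) {F : List L} (h : Ort B Φ F) : F.Nodup := by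
  unfold List.Nodup
  apply h.pw.imp_of_mem
  intro a b ha _ hab
  rintro rfl
  rw [rt.two a (h.mem a ha)] at hab
  omega

theorem eq_zero (rt : Roots B Φ) {F : List L} (h : Ort B Φ F) {a b : L} (ha : a ∈ F) (hb : b ∈ F) (hab : a ≠ b) :
    B a b = 0 := by
  induction F with
  | nil => exact absurd ha (by simp)
  | cons c F ih =>
    rcases List.mem_cons.mp ha with ha' | ha'
    · rcases List.mem_cons.mp hb with hb' | hb'
      · exact absurd (ha'.trans hb'.symm) hab
      · rw [ha']; exact h.orth b hb'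
    · rcases List.mem_cons.mp hb with hb' | hb'
      · rw [hb', rt.symm]; exact h.orth a ha'
      · exact ih h.tail ha' hb'

end Ort

namespace RE

variable (h : RE B Φ x ht)
include h

theorem pr_perm {F F' : List L} (hF : Ort B Φ F) (hp : F.Perm F') : pr x F = pr x F' := by
  unfold pr
  apply (hp.map x).prod_eq'
  rw [List.pairwise_map]
  apply hF.pw.imp_of_mem
  intro a b ha hb hab
  exact h.comm a (hF.mem a ha) b (hF.mem b hb) (by omega)

omit h in
theorem comm_pr {g : Y} {F : List L} (hF : ∀ a ∈ F, g * x a = x a * g) : g * pr x F = pr x F * g := by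
  induction F with
  | nil => simp
  | cons a F ih =>
    rw [pr_cons, ← mul_assoc, hF a List.mem_cons_self, mul_assoc,
      ih fun b hb => hF b (List.mem_cons_of_mem _ hb), mul_assoc]

theorem comm_pr' {a : L} (ha : a ∈ Φ) {F : List L} (hF : Ort B Φ F) (hc : ∀ b ∈ F, 0 ≤ B a b) :
    x a * pr x F = pr x F * x a :=
  comm_pr fun b hb => h.comm a ha b (hF.mem b hb) (hc b hb)

theorem pr_sq {F : List L} (hF : Ort B Φ F) : pr x F * pr x F = 1 := by
  induction F with
  | nil => simp
  | cons a F ih =>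
    rw [pr_cons]
    have h1 : x a * pr x F = pr x F * x a := h.comm_pr' hF.head hF.tail fun b hb => by rw [hF.orth b hb]
    calc x a * pr x F * (x a * pr x F) = x a * pr x F * (pr x F * x a) := by rw [h1]
      _ = x a * (pr x F * pr x F) * x a := by group
      _ = 1 := by rw [ih hF.tail, mul_one, h.sq a hF.head]

theorem pr_inv {F : List L} (hF : Ort B Φ F) : (pr x F)⁻¹ = pr x F := inv_eq_of_mul_eq_one_left (h.pr_sq hF)

omit h in
theorem pr_mem {S : Set L} {F : List L} (hF : ∀ a ∈ F, a ∈ S) : pr x F ∈ XS x S := by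
  induction F with
  | nil => exact one_mem _
  | cons a F ih =>
    rw [pr_cons]
    exact mul_mem (mem_XS (hF a List.mem_cons_self)) (ih fun b hb => hF b (List.mem_cons_of_mem _ hb))

end RE

end Cfsg.Agent.OddHalf.D4.En2
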