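import Mathlib
import Cfsg.Agent.OddHalf.D4.En2.Lib

/-!
# ODD, D4, `E_n(2)`: every involution of the positive unipotent group is conjugate in it to a product of root elements
for pairwise orthogonal positive roots (text: helper305 #11622 (C))
-/

set_option autoImplicit false
set_option linter.unusedSectionVars false

namespace Cfsg.Agent.OddHalf.D4.En2

open Subgroup Cfsg.Agent.OddHalf.SL.Defs

variable {L Y : Type*} [AddCommGroup L] [Group Y]
variable {B : L → L → ℤ} {Φ : Set L} {x : L → Y} {ht : L →+ ℤ}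

/-- the positive roots orthogonal to all roots of `R` -/
def PO (B : L → L → ℤ) (Φ : Set L) (ht : L →+ ℤ) (R : List L) : Set L := {c | c ∈ Pos Φ ht ∧ ∀ r ∈ R, B c r = 0}

namespace RE

variable (h : RE B Φ x ht)
include h

omit h in
theorem PO_pos {R : List L} : PO B Φ ht R ⊆ Pos Φ ht := fun _ hc => hc.1

omit h in
theorem PO_cons {R : List L} {b : L} : PO B Φ ht (b :: R) ⊆ PO B Φ ht R :=
  fun _ hc => ⟨hc.1, fun r hr => hc.2 r (List.mem_cons_of_mem _ hr)⟩

theorem PO_closed (R : List L) : Closed B (PO B Φ ht R) := by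
  rintro a ha b hb hab
  refine ⟨h.closed_pos a ha.1 b hb.1 hab, fun r hr => ?_⟩
  rw [h.rt.add_left, ha.2 r hr, hb.2 r hr, add_zero]

/-- a bound on heights -/
theorem exists_bound : ∃ N : ℕ, ∀ c ∈ Φ, ht c ≤ N := by
  obtain ⟨M, hM⟩ := (h.rt.fin.image ht).bddAbove
  refine ⟨M.toNat, fun c hc => ?_⟩
  have := hM ⟨c, hc, rfl⟩
  omega

/-- the lowest root in an element of `XS x S` -/
theorem exists_lowest {S : Set L} (hS : S ⊆ Pos Φ ht) (hc : Closed B S) {w : Y} (hw : w ∈ XS x S) (hw1 : w ≠ 1) :
    ∃ b ∈ S, ∃ y ∈ XS x {c | c ∈ S ∧ ht b < ht c}, w = x b * y := by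
  obtain ⟨N, hN⟩ := h.exists_bound
  have key : ∀ n : ℕ, w ∈ XS x {c | c ∈ S ∧ (n : ℤ) < ht c} ∨
      ∃ b ∈ S, ∃ y ∈ XS x {c | c ∈ S ∧ ht b < ht c}, w = x b * y := by
    intro n
    induction n with
    | zero =>
      left
      refine XS_mono ?_ hw
      exact fun c hcS => ⟨hcS, (hS hcS).2⟩
    | succ n ih =>
      rcases ih with ih | ih
      swap
      · right; exact ih
      by_cases hex : ∃ b ∈ S, ht b = n + 1
      · obtain ⟨b, hbS, hbn⟩ := hex
        have hb := (hS hbS).1
        have hsub : {c | c ∈ S ∧ (n : ℤ) < ht c} ⊆ insert b {c | c ∈ S ∧ ht b < ht c} := by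
          rintro c ⟨hcS, hcn⟩
          by_cases hcb : c = b
          · left; exact hcb
          · right
            refine ⟨hcS, ?_⟩
            have h1 : ht c ≠ ht b := fun h0 => hcb (h.hti c (hS hcS).1 b hb h0)
            omega
        have h2 := h.mem_insert (T := {c | c ∈ S ∧ ht b < ht c}) hb (fun u hu => by
          apply h.conj_XS hb (fun c hc => (hS hc.1).1) _ _ hu
          · rintro ⟨h3, -⟩
            have h4 := (hS h3).2
            have h5 := (hS hbS).2
            rw [map_neg] at h4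
            omega
          · rintro c ⟨hcS, hcb⟩ hBc
            refine ⟨hc b hbS c hcS hBc, ?_⟩
            have h5 := (hS hcS).2
            rw [map_add]; omega) (XS_mono hsub ih)
        rcases h2 with h2 | h2
        · left
          rw [hbn] at h2
          push_cast
          exact h2
        · right
          exact ⟨b, hbS, x b * w, h2, (h.cancel hb w).symm⟩
      · left
        push Not at hex
        apply XS_mono _ ih
        rintro c ⟨hcS, hcn⟩
        refine ⟨hcS, ?_⟩
        have := hex c hcS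
        push_cast
        omega
  rcases key N with h1 | h1
  · exfalso
    apply hw1
    have h2 : {c | c ∈ S ∧ (N : ℤ) < ht c} = ∅ := by
      ext c
      simp only [Set.mem_ofPred_eq, Set.mem_empty_iff_false, iff_false, not_and, not_lt]
      intro hcS
      exact hN c (hS hcS).1
    rw [h2] at h1
    unfold XS at h1
    rw [Set.image_empty, Subgroup.closure_empty, mem_bot] at h1
    exact h1
  · exact h1

/-- clearing the roots `c` with `B c b = 1` -/
theorem clear {R : List L} {b : L} (hb : b ∈ PO B Φ ht R) {y : Y}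
    (hy : y ∈ XS x {c | c ∈ PO B Φ ht R ∧ ht b < ht c}) (n : ℕ) :
    ∃ g ∈ XS x (PO B Φ ht R), ∃ y' ∈ XS x {c | c ∈ PO B Φ ht R ∧ ht b < ht c ∧ (B c b ≤ 0 ∨ (n : ℤ) < ht c)},
      g * (x b * y) * g⁻¹ = x b * y' := by
  induction n with
  | zero =>
    refine ⟨1, one_mem _, y, XS_mono ?_ hy, by group⟩
    exact fun c hc => ⟨hc.1, hc.2, Or.inr hc.1.1.2⟩
  | succ n ih =>
    obtain ⟨g, hg, y', hy', he⟩ := ih
    by_cases hex : ∃ c ∈ PO B Φ ht R, ht c = n + 1 ∧ 0 < B c b ∧ ht b < ht c
    swap
    · refine ⟨g, hg, y', XS_mono ?_ hy', he⟩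
      rintro c ⟨hcR, hcb, hc⟩
      refine ⟨hcR, hcb, ?_⟩
      by_contra hcon
      push Not at hcon
      obtain ⟨h1, h2⟩ := hcon
      apply hex
      refine ⟨c, hcR, ?_, h1, hcb⟩
      push_cast at h2
      omega
    · obtain ⟨c, hcR, hcn, hcB, hcb⟩ := hex
      have hcΦ := hcR.1.1
      have hbΦ := hb.1.1
      have hBc : B c b = 1 := by
        have h1 := h.rt.le c hcΦ b hbΦ
        have h2 : B c b ≠ 2 := fun h0 => by
          have := h.rt.eq c hcΦ b hbΦ h0
          rw [this] at hcb
          omega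
        omega
      have hBc' : B b c = 1 := by rw [h.rt.symm]; exact hBc
      set d := c - b with hd
      have hdΦ : d ∈ Φ := h.rt.sub_mem hcΦ hbΦ hBc
      have hdht : ht d = ht c - ht b := by rw [hd, map_sub]
      have hdb : B d b = -1 := by rw [hd, h.rt.sub_left, hBc, h.self hbΦ]; norm_num
      have hdc : B d c = 1 := by rw [hd, h.rt.sub_left, h.self hcΦ, hBc']; norm_num
      have hdadd : d + b = c := by rw [hd]; abel
      have hdR : d ∈ PO B Φ ht R := by
        refine ⟨⟨hdΦ, by omega⟩, fun r hr => ?_⟩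
        rw [hd, h.rt.sub_left, hcR.2 r hr, hb.2 r hr, sub_zero]
      set T : Set L := {c | c ∈ PO B Φ ht R ∧ ht b < ht c ∧ (B c b ≤ 0 ∨ ((n + 1 : ℕ) : ℤ) < ht c)} with hT
      have hsub : {c | c ∈ PO B Φ ht R ∧ ht b < ht c ∧ (B c b ≤ 0 ∨ (n : ℤ) < ht c)} ⊆ insert c T := by
        rintro e ⟨heR, heb, he'⟩
        by_cases hec : e = c
        · left; exact hec
        · right
          refine ⟨heR, heb, ?_⟩
          have h1 : ht e ≠ ht c := fun h0 => hec (h.hti e heR.1.1 c hcΦ h0)
          push_cast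
          omega
      -- `x c` normalises
      have hnc : ∀ u ∈ XS x T, x c * u * (x c)⁻¹ ∈ XS x T := by
        intro u hu
        apply h.conj_XS hcΦ (fun e he => he.1.1.1) _ _ hu
        · rintro ⟨h3, -⟩
          have h4 := h3.1.2
          rw [map_neg] at h4
          omega
        · rintro e ⟨heR, heb, he'⟩ hBe
          refine ⟨h.PO_closed R c hcR e heR hBe, ?_, Or.inr ?_⟩
          · have := heR.1.2
            rw [map_add]; omega
          · have := heR.1.2
            rw [map_add]; push_cast; omega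
      have hnd : ∀ u ∈ XS x T, x d * u * (x d)⁻¹ ∈ XS x T := by
        intro u hu
        apply h.conj_XS hdΦ (fun e he => he.1.1.1) _ _ hu
        · rintro ⟨h3, -⟩
          have h4 := h3.1.2
          rw [map_neg] at h4
          have := hdR.1.2
          omega
        · rintro e ⟨heR, heb, he'⟩ hBe
          have := hdR.1.2
          refine ⟨h.PO_closed R d hdR e heR hBe, ?_, Or.inr ?_⟩
          · rw [map_add]; omega
          · rw [map_add]; push_cast; omega
      rcases h.mem_insert hcΦ hnc (XS_mono hsub hy') with h1 | h1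
      · exact ⟨g, hg, y', h1, he⟩
      · refine ⟨x d * g, mul_mem (mem_XS hdR) hg, x d * (x c * y') * (x d)⁻¹, hnd _ h1, ?_⟩
        have e1 : x d * g * (x b * y) * (x d * g)⁻¹ = x d * (g * (x b * y) * g⁻¹) * (x d)⁻¹ := by group
        rw [e1, he]
        have e2 : x d * x b * (x d)⁻¹ = x b * x c := by
          rw [h.conj_neg hdΦ hbΦ hdb, hdadd]
        have e3 : x d * x c * (x d)⁻¹ = x c := h.conj_pos hdΦ hcΦ (by omega)
        calc x d * (x b * y') * (x d)⁻¹ = (x d * x b * (x d)⁻¹) * (x d * y' * (x d)⁻¹) := by group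
          _ = x b * (x c * (x d * y' * (x d)⁻¹)) := by rw [e2, mul_assoc]
          _ = x b * ((x d * x c * (x d)⁻¹) * (x d * y' * (x d)⁻¹)) := by rw [e3]
          _ = x b * (x d * (x c * y') * (x d)⁻¹) := by group

/-- an element of `XS x {c ∈ PO R | ..}` commuting with `x b` and `x (-b)` lies in `XS x (PO (b :: R))` -/
theorem mem_PO_cons {R : List L} (hR : ∀ r ∈ R, r ∈ Φ) {b : L} (hb : b ∈ Φ) {y : Y} (hy : y ∈ XS x (PO B Φ ht R))
    (h1 : y * x b = x b * y) (h2 : y * x (-b) = x (-b) * y) : y ∈ XS x (PO B Φ ht (b :: R)) := by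
  let F : List (L →+ ℤ) := ht :: fB h.rt b :: fB h.rt (-b) :: (R.map (fB h.rt) ++ R.map fun r => fB h.rt (-r))
  apply h.inter_mem (F := F)
  · intro f hf
    simp only [F, List.mem_cons, List.mem_append, List.mem_map] at hf
    rcases hf with rfl | rfl | rfl | ⟨r, hr, rfl⟩ | ⟨r, hr, rfl⟩
    · refine XS_mono ?_ hy
      exact fun c hc => ⟨hc.1.1, hc.1.2.le⟩
    · exact h.cent b hb y h1
    · exact h.cent (-b) (h.rt.neg_mem b hb) y h2
    · refine XS_mono ?_ hy
      exact fun c hc => ⟨hc.1.1, by rw [fB_apply, hc.2 r hr]⟩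
    · refine XS_mono ?_ hy
      exact fun c hc => ⟨hc.1.1, by rw [fB_apply, h.rt.neg_right, hc.2 r hr]; norm_num⟩
  · intro c hc hF
    have g0 := hF ht (by simp [F])
    have g1 := hF (fB h.rt b) (by simp [F])
    have g2 := hF (fB h.rt (-b)) (by simp [F])
    rw [fB_apply] at g1 g2
    rw [h.rt.neg_right] at g2
    have g3 := h.ht0 c hc
    refine ⟨⟨hc, by omega⟩, fun r hr => ?_⟩
    rcases List.mem_cons.mp hr with rfl | hr
    · omega
    · have g4 := hF (fB h.rt r) (by
        simp only [F, List.mem_cons, List.mem_append, List.mem_map]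
        right; right; right; left; exact ⟨r, hr, rfl⟩)
      have g5 := hF (fB h.rt (-r)) (by
        simp only [F, List.mem_cons, List.mem_append, List.mem_map]
        right; right; right; right; exact ⟨r, hr, rfl⟩)
      rw [fB_apply] at g4 g5
      rw [h.rt.neg_right] at g5
      omega

/-- **Classes of involutions.** -/
theorem exists_conj_pr : ∀ (n : ℕ) (R : List L), (∀ r ∈ R, r ∈ Φ) → (PO B Φ ht R).ncard ≤ n →
    ∀ w ∈ XS x (PO B Φ ht R), w * w = 1 →
    ∃ g ∈ XS x (PO B Φ ht R), ∃ F : List L, Ort B Φ F ∧ (∀ a ∈ F, a ∈ PO B Φ ht R) ∧ g * w * g⁻¹ = pr x F := by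
  intro n
  induction n with
  | zero =>
    intro R hR hn w hw _
    have hfin : (PO B Φ ht R).Finite := h.rt.fin.subset fun c hc => hc.1.1
    have h1 : PO B Φ ht R = ∅ := by
      rw [← Set.ncard_eq_zero hfin]; omega
    refine ⟨1, one_mem _, [], Ort.nil, by simp, ?_⟩
    rw [h1] at hw
    unfold XS at hw
    rw [Set.image_empty, Subgroup.closure_empty, mem_bot] at hw
    rw [hw]; simp
  | succ n ih =>
    intro R hR hn w hw hw2
    by_cases hw1 : w = 1
    · exact ⟨1, one_mem _, [], Ort.nil, by simp, by rw [hw1]; simp⟩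
    obtain ⟨b, hb, y, hy, hwy⟩ := h.exists_lowest PO_pos (h.PO_closed R) hw hw1
    obtain ⟨N, hN⟩ := h.exists_bound
    obtain ⟨g, hg, y', hy', he⟩ := h.clear hb hy N
    have hbΦ := hb.1.1
    have hnb := h.rt.neg_mem b hbΦ
    have hyR : y' ∈ XS x (PO B Φ ht R) := XS_mono (fun c hc => hc.1) hy'
    -- `y'` commutes with `x (-b)`
    have c1 : x (-b) * y' = y' * x (-b) := by
      apply comm_XS _ hy'
      rintro c ⟨hcR, -, hc⟩
      apply h.comm _ hnb c hcR.1.1
      rw [h.rt.neg_left, h.rt.symm]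
      have := hN c hcR.1.1
      omega
    -- `(x b * y')² = 1`
    have hsq : (x b * y') * (x b * y') = 1 := by
      rw [← he, ← hwy]
      calc g * w * g⁻¹ * (g * w * g⁻¹) = g * (w * w) * g⁻¹ := by group
        _ = 1 := by rw [hw2]; group
    have c2 : x b * y' * x b = y'⁻¹ := by
      apply eq_inv_of_mul_eq_one_left
      rw [mul_assoc]; exact hsq
    have hbr := h.braid b hbΦ
    have hb2 := h.sq b hbΦ
    have hn2 := h.sq _ hnb
    -- `y'` commutes with `x b`
    have c3 : x (-b) * (x b * y' * x b) = x b * y' * x b * x (-b) := by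
      rw [c2]
      have := c1
      calc x (-b) * y'⁻¹ = y'⁻¹ * (y' * x (-b)) * y'⁻¹ := by group
        _ = y'⁻¹ * (x (-b) * y') * y'⁻¹ := by rw [c1]
        _ = y'⁻¹ * x (-b) := by group
    have c4 : (x b * x (-b) * x b) * y' = y' * (x b * x (-b) * x b) := by
      have e1 : (x b * x (-b) * x b) * y' = x b * (x (-b) * (x b * y' * x b)) * x b := by
        calc (x b * x (-b) * x b) * y' = x b * x (-b) * x b * y' * 1 := by group
          _ = x b * x (-b) * x b * y' * (x b * x b) := by rw [hb2]
          _ = _ := by group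
      rw [e1, c3]
      calc x b * (x b * y' * x b * x (-b)) * x b = (x b * x b) * y' * (x b * x (-b) * x b) := by group
        _ = _ := by rw [hb2, one_mul]
    rw [hbr] at c4
    have c5 : x b * y' = y' * x b := by
      have e1 : x b * y' = x (-b) * ((x (-b) * x b * x (-b)) * y') * x (-b) := by
        calc x b * y' = 1 * x b * y' * 1 := by group
          _ = (x (-b) * x (-b)) * x b * y' * (x (-b) * x (-b)) := by rw [hn2]
          _ = x (-b) * x (-b) * x b * (y' * x (-b)) * x (-b) := by group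
          _ = x (-b) * x (-b) * x b * (x (-b) * y') * x (-b) := by rw [c1]
          _ = _ := by group
      rw [e1, c4]
      calc x (-b) * (y' * (x (-b) * x b * x (-b))) * x (-b)
          = (x (-b) * y') * (x (-b) * x b) * (x (-b) * x (-b)) := by group
        _ = (y' * x (-b)) * (x (-b) * x b) * (x (-b) * x (-b)) := by rw [c1]
        _ = y' * (x (-b) * x (-b)) * x b * (x (-b) * x (-b)) := by group
        _ = y' * x b := by rw [hn2]; group
    have hy'' : y' ∈ XS x (PO B Φ ht (b :: R)) := h.mem_PO_cons hR hbΦ hyR c5.symm c1.symm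
    have hsq' : y' * y' = 1 := by
      have e1 : (x b * y') * (x b * y') = (x b * x b) * (y' * y') := by
        calc (x b * y') * (x b * y') = (x b * y') * (y' * x b) := by rw [c5]
          _ = x b * (y' * y') * x b := by group
          _ = x b * (y' * (y' * x b)) := by group
          _ = x b * (y' * (x b * y')) := by rw [c5]
          _ = x b * ((y' * x b) * y') := by group
          _ = x b * ((x b * y') * y') := by rw [c5]
          _ = _ := by group
      rw [hsq, hb2, one_mul] at e1
      exact e1.symm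
    have hlt : (PO B Φ ht (b :: R)).ncard ≤ n := by
      have hfin : (PO B Φ ht R).Finite := h.rt.fin.subset fun c hc => hc.1.1
      have h3 : PO B Φ ht (b :: R) ⊂ PO B Φ ht R := by
        refine ⟨PO_cons, fun h4 => ?_⟩
        have h5 := (h4 hb).2 b List.mem_cons_self
        rw [h.self hbΦ] at h5
        omega
      have h4 := Set.ncard_lt_ncard h3 hfin
      omega
    obtain ⟨g', hg', F, hF, hFm, hgF⟩ := ih (b :: R) (by
      intro r hr
      rcases List.mem_cons.mp hr with rfl | hr
      · exact hbΦ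
      · exact hR r hr) hlt y' hy'' hsq'
    refine ⟨g' * g, mul_mem (XS_mono PO_cons hg') hg, b :: F, Ort.cons hbΦ hF ?_, ?_, ?_⟩
    · intro c hc
      rw [h.rt.symm]
      exact (hFm c hc).2 b List.mem_cons_self
    · intro c hc
      rcases List.mem_cons.mp hc with rfl | hc
      · exact hb
      · exact PO_cons (hFm c hc)
    · have e1 : g' * g * w * (g' * g)⁻¹ = g' * (g * w * g⁻¹) * g'⁻¹ := by group
      rw [e1, hwy, he, pr_cons]
      have c6 : x b * g' = g' * x b := by
        apply comm_XS _ hg'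
        rintro c hc
        apply h.comm b hbΦ c hc.1.1
        rw [h.rt.symm, hc.2 b List.mem_cons_self]
      calc g' * (x b * y') * g'⁻¹ = (g' * x b) * y' * g'⁻¹ := by group
        _ = (x b * g') * y' * g'⁻¹ := by rw [c6]
        _ = x b * (g' * y' * g'⁻¹) := by group
        _ = _ := by rw [hgF]

/-- **Classes of involutions of the positive unipotent group.** -/
theorem exists_conj {w : Y} (hw : w ∈ XS x (Pos Φ ht)) (hw2 : w * w = 1) :
    ∃ g ∈ XS x (Pos Φ ht), ∃ F : List L, Ort B Φ F ∧ (∀ a ∈ F, a ∈ Pos Φ ht) ∧ g * w * g⁻¹ = pr x F := by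
  have e : PO B Φ ht [] = Pos Φ ht := by
    ext c
    simp [PO]
  obtain ⟨g, hg, F, hF, hFm, hgF⟩ := h.exists_conj_pr _ [] (by simp) le_rfl w (by rw [e]; exact hw) hw2
  rw [e] at hg
  exact ⟨g, hg, F, hF, fun a ha => (hFm a ha).1, hgF⟩

end RE

end Cfsg.Agent.OddHalf.D4.En2
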