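import Mathlib
import Cfsg.Agent.OddHalf.D4.En2.Lib

/-!
# ODD, D4, `E_n(2)`: transport of the root elements by an automorphism, reflections, triviality of the centre
-/

set_option autoImplicit false
set_option linter.unusedSectionVars false

namespace Cfsg.Agent.OddHalf.D4.En2

open Subgroup Cfsg.Agent.OddHalf.SL.Defs

variable {L Y : Type*} [AddCommGroup L] [Group Y]
variable {B : L → L → ℤ} {Φ : Set L} {x : L → Y} {ht : L →+ ℤ} {ρ : L} {Fl : (L →+ L) → Prop}

/-- the transported root elements -/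
def mv (γ : MulAut Y) (x : L → Y) : L → Y := fun c => γ (x c)

@[simp] theorem mv_apply (γ : MulAut Y) (c : L) : mv γ x c = γ (x c) := rfl

theorem mv_mv (γ δ : MulAut Y) : mv γ (mv δ x) = mv (γ * δ) x := rfl

theorem mv_one : mv 1 x = x := rfl

theorem XS_mv (γ : MulAut Y) (S : Set L) : XS (mv γ x) S = (XS x S).map γ.toMonoidHom := by
  unfold XS
  rw [MonoidHom.map_closure]
  congr 1
  ext y
  constructor
  · rintro ⟨c, hc, rfl⟩
    exact ⟨x c, ⟨c, hc, rfl⟩, rfl⟩
  · rintro ⟨_, ⟨c, hc, rfl⟩, rfl⟩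
    exact ⟨c, hc, rfl⟩

theorem mem_XS_mv {γ : MulAut Y} {S : Set L} {y : Y} : y ∈ XS (mv γ x) S ↔ γ.symm y ∈ XS x S := by
  rw [XS_mv]
  constructor
  · rintro ⟨z, hz, rfl⟩
    have : γ.symm (γ.toMonoidHom z) = z := γ.symm_apply_apply z
    rw [this]; exact hz
  · intro hy
    exact ⟨_, hy, γ.apply_symm_apply y⟩

theorem mem_XS_mv' {γ : MulAut Y} {S : Set L} {y : Y} : γ y ∈ XS (mv γ x) S ↔ y ∈ XS x S := by
  rw [mem_XS_mv, γ.symm_apply_apply]

theorem pr_mv (γ : MulAut Y) (F : List L) : pr (mv γ x) F = γ (pr x F) := by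
  induction F with
  | nil => simp
  | cons a F ih => rw [pr_cons, pr_cons, map_mul, ih, mv_apply]

theorem RE.map (h : RE B Φ x ht) (γ : MulAut Y) : RE B Φ (mv γ x) ht where
  rt := h.rt
  orth := h.orth
  tri := h.tri
  quad := h.quad
  ht0 := h.ht0
  hti := h.hti
  gen := by
    rw [eq_top_iff]
    intro y _
    rw [mem_XS_mv, h.gen]; exact mem_top _
  sq a ha := by rw [mv_apply, ← map_mul, h.sq a ha, map_one]
  ne a ha h0 := h.ne a ha (γ.injective (h0.trans (map_one γ).symm))
  comm a ha b hb hab := by rw [mv_apply, mv_apply, ← map_mul, h.comm a ha b hb hab, map_mul]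
  add a ha b hb hab := by simp only [mv_apply, ← map_mul]; rw [h.add a ha b hb hab]
  braid a ha := by simp only [mv_apply, ← map_mul]; rw [h.braid a ha]
  cent a ha g hg := by
    rw [mem_XS_mv]
    apply h.cent a ha
    apply γ.injective
    rw [map_mul, map_mul, γ.apply_symm_apply]
    exact hg
  inter g F hF := by
    rw [mem_XS_mv]
    apply h.inter
    intro f hf
    exact mem_XS_mv.mp (hF f hf)
  inf S T hS hT hcS hcT := by
    intro y hy
    rw [mem_XS_mv]
    exact h.inf S T hS hT hcS hcT ⟨mem_XS_mv.mp hy.1, mem_XS_mv.mp hy.2⟩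

theorem RA.map (h : RA B Φ x ht ρ Fl) (γ : MulAut Y) : RA B Φ (mv γ x) ht ρ Fl where
  ρmem := h.ρmem
  high := h.high
  syl := by
    obtain ⟨S, hS⟩ := h.syl
    have h2 : IsPGroup 2 ↥(XS (mv γ x) (Pos Φ ht)) := by
      rw [XS_mv, ← hS]
      exact S.2.map _
    refine ⟨⟨XS (mv γ x) (Pos Φ ht), h2, ?_⟩, rfl⟩
    intro Q hQ hle
    have h3 : IsPGroup 2 ↥(Q.map γ.symm.toMonoidHom) := hQ.map _
    have h4 : (S : Subgroup Y) ≤ Q.map γ.symm.toMonoidHom := by
      intro s hs
      refine ⟨γ s, hle ?_, γ.symm_apply_apply s⟩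
      rw [mem_XS_mv', ← hS]; exact hs
    have h5 := S.3 h3 h4
    apply le_antisymm _ hle
    intro q hq
    rw [mem_XS_mv, ← hS, ← h5]
    exact ⟨q, hq, rfl⟩
  norm g hg := by
    rw [mem_XS_mv]
    apply h.norm
    intro u hu
    have h1 := hg (γ u) (mem_XS_mv'.mpr hu)
    rw [mem_XS_mv, map_mul, map_mul, map_inv, γ.symm_apply_apply] at h1
    exact h1
  core a ha P hP hc hn := by
    have h1 : P.map γ.symm.toMonoidHom ≤ XS x {c | c ∈ Φ ∧ 0 < B c a} := by
      apply h.core a ha _ (hP.map _)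
      · rintro _ ⟨p, hp, rfl⟩
        apply γ.injective
        show γ (γ.symm p * x a) = γ (x a * γ.symm p)
        rw [map_mul, map_mul, γ.apply_symm_apply]
        exact hc p hp
      · rintro c hcc _ ⟨p, hp, rfl⟩
        refine ⟨γ c * p * (γ c)⁻¹, ?_, ?_⟩
        · apply hn _ _ p hp
          rw [mv_apply, ← map_mul, hcc, map_mul]
        · show γ.symm (γ c * p * (γ c)⁻¹) = c * γ.symm p * c⁻¹
          rw [map_mul, map_mul, map_inv, γ.symm_apply_apply]
    intro p hp
    rw [mem_XS_mv]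
    exact h1 ⟨p, hp, rfl⟩
  auto β hβ := by
    obtain ⟨s, hs, τ, hτ, hc⟩ := h.auto (γ⁻¹ * β * γ) (by
      intro u hu
      have h1 := hβ (γ u) (mem_XS_mv'.mpr hu)
      rw [mem_XS_mv] at h1
      exact h1)
    refine ⟨γ s, mem_XS_mv'.mpr hs, τ, hτ, fun c hcΦ => ?_⟩
    have h1 := hc c hcΦ
    have h2 : γ ((γ⁻¹ * β * γ) (x c)) = β (γ (x c)) := γ.apply_symm_apply _
    rw [mv_apply, mv_apply, ← h2, h1, map_mul, map_mul, map_inv]

namespace RE

variable (h : RE B Φ x ht)
include h

/-- the centre is trivial -/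
theorem center_eq (g : Y) (hg : ∀ a ∈ Φ, g * x a = x a * g) : g = 1 := by
  have hfin := h.rt.fin
  let F : List (L →+ ℤ) := hfin.toFinset.toList.map (fB h.rt)
  have h1 : g ∈ XS x (∅ : Set L) := by
    apply h.inter_mem (F := F)
    · intro f hf
      simp only [F, List.mem_map, Finset.mem_toList, Set.Finite.mem_toFinset] at hf
      obtain ⟨a, ha, rfl⟩ := hf
      exact h.cent a ha g (hg a ha)
    · intro c hc hF
      exfalso
      have h2 := hF (fB h.rt (-c)) (by
        simp only [F, List.mem_map, Finset.mem_toList, Set.Finite.mem_toFinset]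
        exact ⟨-c, h.rt.neg_mem c hc, rfl⟩)
      rw [fB_apply, h.rt.neg_right, h.self hc] at h2
      omega
  unfold XS at h1
  rw [Set.image_empty, Subgroup.closure_empty, mem_bot] at h1
  exact h1

theorem conj_inj {g k : Y} (hgk : MulAut.conj g = MulAut.conj k) : g = k := by
  have h1 : k⁻¹ * g = 1 := by
    apply h.center_eq
    intro a _
    have h2 := congrArg (fun f : MulAut Y => f (x a)) hgk
    simp only [MulAut.conj_apply] at h2
    calc k⁻¹ * g * x a = k⁻¹ * (g * x a * g⁻¹) * g := by group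
      _ = k⁻¹ * (k * x a * k⁻¹) * g := by rw [h2]
      _ = _ := by group
  calc g = k * (k⁻¹ * g) := by group
    _ = k := by rw [h1, mul_one]

/-- two automorphisms agreeing on the root elements are equal -/
theorem aut_ext {α β : MulAut Y} (hab : ∀ c ∈ Φ, α (x c) = β (x c)) : α = β := by
  have h1 : XS x Φ ≤ (α.toMonoidHom).eqLocus β.toMonoidHom := XS_le fun c hc => hab c hc
  rw [h.gen] at h1
  ext y
  exact h1 (mem_top y)

/-! ### reflections -/

/-- `n_a` -/
theorem refl_neg {a c : L} (ha : a ∈ Φ) (hc : c ∈ Φ) (hac : B a c = -1) :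
    (x a * x (-a) * x a) * x c * (x a * x (-a) * x a)⁻¹ = x (a + c) := by
  have rt := h.rt
  have hna := rt.neg_mem a ha
  have hs := rt.add a ha c hc hac
  have k1 : x a * x c * (x a)⁻¹ = x c * x (a + c) := h.conj_neg ha hc hac
  have k2 : x (-a) * x c * (x (-a))⁻¹ = x c := h.conj_pos hna hc (by rw [rt.neg_left, hac]; norm_num)
  have k3 : x (-a) * x (a + c) * (x (-a))⁻¹ = x (a + c) * x c := by
    have := h.conj_neg hna hs (by rw [rt.neg_left, rt.add_right, h.self ha, hac]; norm_num)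
    rwa [show -a + (a + c) = c by abel] at this
  have k4 : x a * x (a + c) * (x a)⁻¹ = x (a + c) :=
    h.conj_pos ha hs (by rw [rt.add_right, h.self ha, hac]; norm_num)
  have k5 : x c * x (a + c) = x (a + c) * x c :=
    h.comm c hc _ hs (by rw [rt.add_right, h.self hc, rt.symm, hac]; norm_num)
  calc (x a * x (-a) * x a) * x c * (x a * x (-a) * x a)⁻¹
      = x a * (x (-a) * (x a * x c * (x a)⁻¹) * (x (-a))⁻¹) * (x a)⁻¹ := by group
    _ = x a * ((x (-a) * x c * (x (-a))⁻¹) * (x (-a) * x (a + c) * (x (-a))⁻¹)) * (x a)⁻¹ := by rw [k1]; group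
    _ = x a * ((x c * x (a + c)) * x c) * (x a)⁻¹ := by rw [k2, k3]; group
    _ = x a * (x (a + c) * (x c * x c)) * (x a)⁻¹ := by rw [k5]; group
    _ = x (a + c) := by rw [h.sq c hc, mul_one, k4]

/-- the reflection in `a` on the root elements -/
theorem refl_conj {a c : L} (ha : a ∈ Φ) (hc : c ∈ Φ) :
    (x a * x (-a) * x a) * x c * (x a * x (-a) * x a)⁻¹ = x (c - B c a • a) := by
  have rt := h.rt
  have hna := rt.neg_mem a ha
  have hs := rt.symm c a
  rcases h.cases ha hc with h1 | h1 | h1 | h1 | h1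
  · -- `a = -c`
    have e : c = -a := by rw [rt.eq_neg ha hc h1, neg_neg]
    subst e
    have e2 : (-a : L) - B (-a) a • a = a := by rw [hs, h1]; rw [neg_smul, two_smul]; abel
    rw [e2]
    have hbr := h.braid a ha
    have hsq := h.sq a ha
    have hi : (x a * x (-a) * x a)⁻¹ = x a * x (-a) * x a := by
      rw [mul_inv_rev, mul_inv_rev, h.inv ha, h.inv hna, mul_assoc]
    rw [hi]
    calc (x a * x (-a) * x a) * x (-a) * (x a * x (-a) * x a)
        = (x a * x (-a) * x a) * x (-a) * (x (-a) * x a * x (-a)) := by rw [hbr]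
      _ = (x a * x (-a) * x a) * (x (-a) * x (-a)) * x a * x (-a) := by group
      _ = (x a * x (-a)) * (x a * x a) * x (-a) := by rw [h.sq _ hna]; group
      _ = x a * (x (-a) * x (-a)) := by rw [hsq]; group
      _ = x a := by rw [h.sq _ hna, mul_one]
  · have e : c - B c a • a = a + c := by rw [hs, h1]; rw [neg_smul, one_smul]; abel
    rw [e]; exact h.refl_neg ha hc h1
  · have e : c - B c a • a = c := by rw [hs, h1, zero_smul, sub_zero]
    rw [e]
    have c1 : Commute (x a) (x c) := h.comm a ha c hc (by omega)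
    have c2 : Commute (x (-a)) (x c) := h.comm _ hna c hc (by rw [rt.neg_left]; omega)
    have c3 : (x a * x (-a) * x a) * x c = x c * (x a * x (-a) * x a) := (c1.mul_left c2).mul_left c1
    rw [c3, mul_inv_cancel_right]
  · have e : c - B c a • a = -a + c := by rw [hs, h1]; rw [one_smul]; abel
    rw [e, h.braid a ha]
    have := h.refl_neg hna hc (by rw [rt.neg_left, h1])
    rwa [neg_neg] at this
  · have e : c = a := (rt.eq a ha c hc h1).symm
    subst e
    have e2 : c - B c c • c = -c := by rw [h1]; rw [two_smul]; abel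
    rw [e2]
    have hbr := h.braid c hc
    have hsq := h.sq c hc
    have hi : (x c * x (-c) * x c)⁻¹ = x c * x (-c) * x c := by
      rw [mul_inv_rev, mul_inv_rev, h.inv ha, h.inv hna, mul_assoc]
    rw [hi]
    calc (x c * x (-c) * x c) * x c * (x c * x (-c) * x c)
        = x c * x (-c) * (x c * x c) * (x c * x (-c) * x c) := by group
      _ = x c * (x (-c) * x c * x (-c)) * x c := by rw [hsq]; group
      _ = x c * (x c * x (-c) * x c) * x c := by rw [hbr]
      _ = (x c * x c) * x (-c) * (x c * x c) := by group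
      _ = x (-c) := by rw [hsq]; group

theorem refl_mem {a c : L} (ha : a ∈ Φ) (hc : c ∈ Φ) : c - B c a • a ∈ Φ := by
  have rt := h.rt
  have hs := rt.symm c a
  rcases h.cases ha hc with h1 | h1 | h1 | h1 | h1
  · have e : c = -a := by rw [rt.eq_neg ha hc h1, neg_neg]
    have e2 : c - B c a • a = a := by rw [hs, h1, e]; rw [neg_smul, two_smul]; abel
    rw [e2]; exact ha
  · have e : c - B c a • a = a + c := by rw [hs, h1]; rw [neg_smul, one_smul]; abel
    rw [e]; exact rt.add a ha c hc h1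
  · have e : c - B c a • a = c := by rw [hs, h1, zero_smul, sub_zero]
    rw [e]; exact hc
  · have e : c - B c a • a = c - a := by rw [hs, h1]; rw [one_smul]
    rw [e]; exact rt.sub_mem hc ha (by omega)
  · have e : c = a := (rt.eq a ha c hc h1).symm
    have e2 : c - B c a • a = -a := by rw [hs, h1, e]; rw [two_smul]; abel
    rw [e2]; exact rt.neg_mem a ha

theorem B_smul_left (n : ℤ) (a b : L) : B (n • a) b = n * B a b := by
  have := map_zsmul (fB h.rt b) n a
  rw [fB_apply, fB_apply, smul_eq_mul] at this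
  exact this

theorem refl_B {a : L} (ha : a ∈ Φ) (c d : L) : B (c - B c a • a) (d - B d a • a) = B c d := by
  have rt := h.rt
  rw [rt.sub_left, rt.sub_right, rt.sub_right, h.B_smul_left, h.B_smul_left, rt.symm c (B d a • a),
    rt.symm a (B d a • a), h.B_smul_left, h.B_smul_left, h.self ha, rt.symm a c, rt.symm a d]
  ring

/-- a Weyl element -/
structure Wl (g : Y) (w : L → L) : Prop where
  mem : ∀ c ∈ Φ, w c ∈ Φ
  act : ∀ c ∈ Φ, g * x c * g⁻¹ = x (w c)
  iso : ∀ c ∈ Φ, ∀ d ∈ Φ, B (w c) (w d) = B c d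

omit h in
theorem Wl.mul {g g' : Y} {w w' : L → L} (h1 : Wl (B := B) (Φ := Φ) (x := x) g w)
    (h2 : Wl (B := B) (Φ := Φ) (x := x) g' w') : Wl (B := B) (Φ := Φ) (x := x) (g * g') (w ∘ w') := by
  refine ⟨fun c hc => h1.mem _ (h2.mem c hc), fun c hc => ?_, fun c hc d hd => ?_⟩
  · have e : g * g' * x c * (g * g')⁻¹ = g * (g' * x c * g'⁻¹) * g⁻¹ := by group
    rw [e, h2.act c hc, h1.act _ (h2.mem c hc)]; rfl
  · rw [Function.comp, Function.comp, h1.iso _ (h2.mem c hc) _ (h2.mem d hd), h2.iso c hc d hd]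

theorem wl_refl {a : L} (ha : a ∈ Φ) :
    Wl (B := B) (Φ := Φ) (x := x) (x a * x (-a) * x a) fun c => c - B c a • a :=
  ⟨fun _ hc => h.refl_mem ha hc, fun _ hc => h.refl_conj ha hc, fun c _ d _ => h.refl_B ha c d⟩

theorem exists_wl1 {a b : L} (ha : a ∈ Φ) (hb : b ∈ Φ) (hab : B a b = 1) :
    ∃ g w, Wl (B := B) (Φ := Φ) (x := x) g w ∧ w a = b := by
  have rt := h.rt
  have hd := rt.sub_mem ha hb hab
  refine ⟨_, _, h.wl_refl hd, ?_⟩
  show a - B a (a - b) • (a - b) = b
  rw [rt.sub_right, h.self ha, hab]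
  norm_num

/-- the Weyl group is transitive on the roots -/
theorem exists_wl {a b : L} (ha : a ∈ Φ) (hb : b ∈ Φ) : ∃ g w, Wl (B := B) (Φ := Φ) (x := x) g w ∧ w a = b := by
  have rt := h.rt
  have comp : ∀ {a b c : L}, (∃ g w, Wl (B := B) (Φ := Φ) (x := x) g w ∧ w a = b) →
      (∃ g w, Wl (B := B) (Φ := Φ) (x := x) g w ∧ w b = c) →
      ∃ g w, Wl (B := B) (Φ := Φ) (x := x) g w ∧ w a = c := by
    rintro a b c ⟨g, w, h1, e1⟩ ⟨g', w', h2, e2⟩
    exact ⟨_, _, h2.mul h1, by rw [Function.comp, e1, e2]⟩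
  rcases h.cases ha hb with h1 | h1 | h1 | h1 | h1
  · refine ⟨_, _, h.wl_refl ha, ?_⟩
    show a - B a a • a = b
    have e : a = -b := rt.eq_neg ha hb h1
    rw [h.self ha, two_smul, e]; abel
  · have hs := rt.add a ha b hb h1
    apply comp (h.exists_wl1 ha hs (by rw [rt.add_right, h.self ha, h1]; norm_num))
    exact h.exists_wl1 hs hb (by rw [rt.add_left, h.self hb, h1]; norm_num)
  · obtain ⟨m, hm, h2, h3⟩ := h.orth a ha (-b) (rt.neg_mem b hb) (by rw [rt.neg_right, h1, neg_zero])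
    rw [rt.neg_right] at h3
    apply comp (h.exists_wl1 ha hm (by rw [rt.symm]; exact h2))
    exact h.exists_wl1 hm hb (by omega)
  · exact h.exists_wl1 ha hb h1
  · refine ⟨1, id, ⟨fun _ hc => hc, fun _ _ => by simp, fun _ _ _ _ => rfl⟩, ?_⟩
    exact rt.eq a ha b hb h1

/-- all root elements are conjugate -/
theorem exists_conj_root {a b : L} (ha : a ∈ Φ) (hb : b ∈ Φ) : ∃ g : Y, g * x a * g⁻¹ = x b := by
  obtain ⟨g, w, hw, e⟩ := h.exists_wl ha hb
  exact ⟨g, by rw [hw.act a ha, e]⟩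

end RE

end Cfsg.Agent.OddHalf.D4.En2
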