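import Mathlib
import Cfsg.Agent.OddHalf.D4.En2.Move

/-!
# ODD, D4, `E_n(2)`: `Q a = ⟨x c : ⟨c, a⟩ > 0⟩ = O_2(C(x a))`
-/

set_option autoImplicit false
set_option linter.unusedSectionVars false

namespace Cfsg.Agent.OddHalf.D4.En2

open Subgroup Cfsg.Agent.OddHalf.SL.Defs

variable {L Y : Type*} [AddCommGroup L] [Group Y]
variable {B : L → L → ℤ} {Φ : Set L} {x : L → Y} {ht : L →+ ℤ} {ρ : L} {Fl : (L →+ L) → Prop}

/-- `Q a` -/
def Qs (B : L → L → ℤ) (Φ : Set L) (x : L → Y) (a : L) : Subgroup Y := XS x {c | c ∈ Φ ∧ 0 < B c a}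

namespace RE

variable (h : RE B Φ x ht)
include h

theorem self_mem_Q {a : L} (ha : a ∈ Φ) : x a ∈ Qs B Φ x a := mem_XS ⟨ha, by rw [h.self ha]; norm_num⟩

theorem Q_central {a : L} (ha : a ∈ Φ) {u : Y} (hu : u ∈ Qs B Φ x a) : x a * u = u * x a := by
  apply comm_XS _ hu
  rintro c ⟨hc, hca⟩
  apply h.comm a ha c hc
  rw [h.rt.symm]; omega

/-- commutators of elements of `Q a` -/
theorem Q_comm {a : L} (ha : a ∈ Φ) {u v : Y} (hu : u ∈ Qs B Φ x a) (hv : v ∈ Qs B Φ x a) :
    u * v = v * u ∨ u * v = x a * (v * u) := by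
  have rt := h.rt
  have hz := h.sq a ha
  -- generators
  have h0 : ∀ c ∈ Φ, 0 < B c a → ∀ d ∈ Φ, 0 < B d a → x c * x d = x d * x c ∨ x c * x d = x a * (x d * x c) := by
    intro c hc hca d hd hda
    by_cases hcd : 0 ≤ B c d
    · left; exact h.comm c hc d hd hcd
    have h1 := rt.le c hc a ha
    have h2 := rt.le d hd a ha
    have h3 := rt.ge hc hd
    have h4 : B c d ≠ -2 := by
      intro h5
      have := rt.eq_neg hc hd h5
      rw [this, rt.neg_left] at hca
      omega
    have h5 : B c d = -1 := by omega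
    have hs := rt.add c hc d hd h5
    have h6 : B (c + d) a ≤ 2 := rt.le _ hs a ha
    rw [rt.add_left] at h6
    have h7 : c + d = a := rt.eq _ hs a ha (by rw [rt.add_left]; omega)
    right
    have h8 := h.add c hc d hd h5
    rw [h7] at h8
    have h9 : x a * x d = x d * x a := h.comm a ha d hd (by rw [rt.symm]; omega)
    have h10 := h.sq c hc
    calc x c * x d = x c * x d * (x c * x c) := by rw [h10, mul_one]
      _ = (x c * x d * x c) * x c := by group
      _ = (x d * x a) * x c := by rw [h8]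
      _ = x a * (x d * x c) := by rw [← h9, mul_assoc]
  -- fixed `v = x d`
  have key : ∀ v ∈ Qs B Φ x a, (∀ c ∈ Φ, 0 < B c a → x c * v = v * x c ∨ x c * v = x a * (v * x c)) →
      ∀ u ∈ Qs B Φ x a, u * v = v * u ∨ u * v = x a * (v * u) := by
    intro v hv hvc u hu
    have hzv := h.Q_central ha hv
    unfold Qs XS at hu
    induction hu using closure_induction with
    | mem y hy =>
      obtain ⟨c, hc, rfl⟩ := hy
      exact hvc c hc.1 hc.2
    | one => left; rw [one_mul, mul_one]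
    | mul y z hy hz' ihy ihz =>
      have hzy : x a * y = y * x a := h.Q_central ha hy
      have hzz : x a * z = z * x a := h.Q_central ha hz'
      rcases ihy with ihy | ihy <;> rcases ihz with ihz | ihz
      · left; rw [mul_assoc, ihz, ← mul_assoc, ihy, mul_assoc]
      · right
        calc y * z * v = y * (z * v) := by group
          _ = (y * x a) * v * z := by rw [ihz]; group
          _ = x a * (y * v) * z := by rw [← hzy]; group
          _ = _ := by rw [ihy]; group
      · right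
        calc y * z * v = y * (z * v) := by group
          _ = (y * v) * z := by rw [ihz]; group
          _ = _ := by rw [ihy]; group
      · left
        calc y * z * v = y * (z * v) := by group
          _ = (y * x a) * v * z := by rw [ihz]; group
          _ = x a * (y * v) * z := by rw [← hzy]; group
          _ = (x a * x a) * (v * y) * z := by rw [ihy]; group
          _ = _ := by rw [hz]; group
    | inv y hy ihy =>
      have hzy : x a * y = y * x a := h.Q_central ha hy
      rcases ihy with ihy | ihy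
      · left
        calc y⁻¹ * v = y⁻¹ * (v * y) * y⁻¹ := by group
          _ = v * y⁻¹ := by rw [← ihy]; group
      · right
        have e : v * y = x a * (y * v) := by
          rw [ihy, ← mul_assoc, hz, one_mul]
        calc y⁻¹ * v = y⁻¹ * (v * y) * y⁻¹ := by group
          _ = y⁻¹ * (x a * y) * v * y⁻¹ := by rw [e]; group
          _ = x a * (v * y⁻¹) := by rw [hzy]; group
          _ = _ := rfl
  apply key v hv _ u hu
  intro c hc hca
  have h1 := key (x c) (mem_XS ⟨hc, hca⟩) (fun d hd hda => h0 d hd hda c hc hca) v hv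
  rcases h1 with h1 | h1
  · left; exact h1.symm
  · right; rw [h1, ← mul_assoc, hz, one_mul]

/-- the centraliser of `x a` normalises `Q a` -/
theorem Q_norm {a : L} (ha : a ∈ Φ) {g : Y} (hg : g * x a = x a * g) {u : Y} (hu : u ∈ Qs B Φ x a) :
    g * u * g⁻¹ ∈ Qs B Φ x a := by
  have h1 : XS x {c | c ∈ Φ ∧ 0 ≤ B c a} ≤ normalizer (Qs B Φ x a : Set Y) := by
    apply XS_le
    rintro c ⟨hc, hca⟩
    have h2 : ∀ u ∈ Qs B Φ x a, x c * u * (x c)⁻¹ ∈ Qs B Φ x a := by
      intro u hu
      apply h.conj_XS hc (fun d hd => hd.1) _ _ hu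
      · rintro ⟨-, h3⟩
        rw [h.rt.neg_left] at h3
        omega
      · rintro d ⟨hd, hda⟩ hcd
        refine ⟨h.rt.add c hc d hd hcd, ?_⟩
        rw [h.rt.add_left]; omega
    rw [mem_normalizer_iff]
    intro u
    refine ⟨h2 u, fun h3 => ?_⟩
    have h4 := h2 _ h3
    rw [h.inv hc] at h4
    have e : x c * (x c * u * x c) * x c = (x c * x c) * u * (x c * x c) := by group
    rw [e, h.sq c hc, one_mul, mul_one] at h4
    exact h4
  have h2 := h1 (h.cent a ha g hg)
  exact (mem_normalizer_iff.mp h2 u).mp hu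

/-- the centre of `Q a` -/
theorem Q_center {a : L} (ha : a ∈ Φ) {u : Y} (hu : u ∈ Qs B Φ x a)
    (hc : ∀ c ∈ Φ, B c a = 1 → u * x c = x c * u) : u = 1 ∨ u = x a := by
  have rt := h.rt
  have hfin : {c | c ∈ Φ ∧ B c a = 1}.Finite := rt.fin.subset fun c hc => hc.1
  let F : List (L →+ ℤ) := fB rt a :: hfin.toFinset.toList.map (fB rt)
  have h1 : u ∈ XS x (insert a (∅ : Set L)) := by
    apply h.inter_mem (F := F)
    · intro f hf
      simp only [F, List.mem_cons, List.mem_map, Finset.mem_toList, Set.Finite.mem_toFinset] at hf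
      rcases hf with rfl | ⟨d, hd, rfl⟩
      · refine XS_mono ?_ hu
        exact fun c hc => ⟨hc.1, by rw [fB_apply]; exact hc.2.le⟩
      · exact h.cent d hd.1 u (hc d hd.1 hd.2)
    · intro c hcΦ hF
      have h2 := hF (fB rt a) (by simp [F])
      rw [fB_apply] at h2
      have h3 : ∀ d ∈ Φ, B d a = 1 → 0 ≤ B c d := by
        intro d hd hda
        have := hF (fB rt d) (by
          simp only [F, List.mem_cons, List.mem_map, Finset.mem_toList, Set.Finite.mem_toFinset]
          right; exact ⟨d, ⟨hd, hda⟩, rfl⟩)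
        rwa [fB_apply] at this
      have h4 := rt.le c hcΦ a ha
      rcases (by omega : B c a = 0 ∨ B c a = 1 ∨ B c a = 2) with h5 | h5 | h5
      · exfalso
        obtain ⟨m, hm, h6, h7⟩ := h.orth a ha c hcΦ (by rw [rt.symm]; exact h5)
        have := h3 m hm h6
        rw [rt.symm] at this
        omega
      · exfalso
        have h6 : B a c = 1 := by rw [rt.symm]; exact h5
        have hs := rt.sub_mem ha hcΦ h6
        have := h3 (a - c) hs (by rw [rt.sub_left, h.self ha, h5]; norm_num)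
        rw [rt.sub_right, h5, h.self hcΦ] at this
        omega
      · rw [rt.eq c hcΦ a ha h5]; exact Set.mem_insert _ _
  have h2 := h.mem_insert (T := ∅) ha (fun v hv => by
    unfold XS at hv
    rw [Set.image_empty, Subgroup.closure_empty, mem_bot] at hv
    rw [hv]; simp) h1
  unfold XS at h2
  rw [Set.image_empty, Subgroup.closure_empty, mem_bot, mem_bot] at h2
  rcases h2 with h2 | h2
  · left; exact h2
  · right
    calc u = x a * (x a * u) := (h.cancel ha u).symm
      _ = x a := by rw [h2, mul_one]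

theorem Q_wl {g : Y} {w : L → L} (hw : Wl (B := B) (Φ := Φ) (x := x) g w) {a : L} (ha : a ∈ Φ) {u : Y}
    (hu : u ∈ Qs B Φ x a) : g * u * g⁻¹ ∈ Qs B Φ x (w a) := by
  apply conj_mem_XS _ hu
  rintro c ⟨hc, hca⟩
  rw [hw.act c hc]
  exact mem_XS ⟨hw.mem c hc, by rw [hw.iso c hc a ha]; exact hca⟩

end RE

/-! ### `O_2` of the centraliser -/

/-- the largest normal 2-subgroup of the centraliser of `e` -/
def OO (e : Y) : Subgroup Y :=
  sSup {P : Subgroup Y | IsPGroup 2 ↥P ∧ (∀ p ∈ P, p * e = e * p) ∧ ∀ c, c * e = e * c → ∀ p ∈ P, c * p * c⁻¹ ∈ P}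

theorem OO_map (γ : MulAut Y) (e : Y) {u : Y} (hu : u ∈ OO e) : γ u ∈ OO (γ e) := by
  have h1 : OO e ≤ (OO (γ e)).comap γ.toMonoidHom := by
    apply sSup_le
    rintro P ⟨hP, hPc, hPn⟩
    rw [← map_le_iff_le_comap]
    apply le_sSup
    refine ⟨hP.map _, ?_, ?_⟩
    · rintro _ ⟨p, hp, rfl⟩
      show γ p * γ e = γ e * γ p
      rw [← map_mul, hPc p hp, map_mul]
    · rintro c hc _ ⟨p, hp, rfl⟩
      refine ⟨γ.symm c * p * (γ.symm c)⁻¹, ?_, ?_⟩
      · apply hPn _ _ p hp
        apply γ.injective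
        rw [map_mul, map_mul, γ.apply_symm_apply, hc]
      · show γ (γ.symm c * p * (γ.symm c)⁻¹) = c * γ p * c⁻¹
        rw [map_mul, map_mul, map_inv, γ.apply_symm_apply]
  exact h1 hu

theorem OO_map_iff (γ : MulAut Y) (e u : Y) : γ u ∈ OO (γ e) ↔ u ∈ OO e := by
  refine ⟨fun hu => ?_, OO_map γ e⟩
  have h1 := OO_map γ.symm (γ e) hu
  rwa [γ.symm_apply_apply, γ.symm_apply_apply] at h1

namespace RA

variable (h : RE B Φ x ht) (ha : RA B Φ x ht ρ Fl)
include h ha

theorem two_U : IsPGroup 2 ↥(XS x (Pos Φ ht)) := by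
  obtain ⟨S, hS⟩ := ha.syl
  rw [← hS]; exact S.2

theorem pos_of {c : L} (hc : c ∈ Φ) (h1 : 0 < B c ρ) : c ∈ Pos Φ ht := by
  refine ⟨hc, ?_⟩
  by_contra h2
  have h3 := h.ht0 c hc
  have h4 := ha.high (-c) (h.rt.neg_mem c hc) (by rw [map_neg]; omega)
  rw [h.rt.neg_left] at h4
  omega

theorem Qρ_le : Qs B Φ x ρ ≤ XS x (Pos Φ ht) := XS_mono fun _ hc => pos_of h ha hc.1 hc.2

theorem Q_two {a : L} (haΦ : a ∈ Φ) : IsPGroup 2 ↥(Qs B Φ x a) := by
  obtain ⟨g, w, hw, e⟩ := h.exists_wl haΦ ha.ρmem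
  have h1 : (Qs B Φ x a).map (MulAut.conj g).toMonoidHom ≤ XS x (Pos Φ ht) := by
    rintro _ ⟨u, hu, rfl⟩
    apply Qρ_le h ha
    rw [← e]
    exact h.Q_wl hw haΦ hu
  have h2 : IsPGroup 2 ↥((Qs B Φ x a).map (MulAut.conj g).toMonoidHom) := (two_U h ha).to_le h1
  exact h2.of_equiv ((Qs B Φ x a).equivMapOfInjective _ (MulAut.conj g).injective).symm

theorem OO_eq {a : L} (haΦ : a ∈ Φ) : OO (x a) = Qs B Φ x a := by
  apply le_antisymm
  · apply sSup_le
    rintro P ⟨h1, h2, h3⟩
    exact ha.core a haΦ P h1 h2 h3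
  · apply le_sSup
    exact ⟨Q_two h ha haΦ, fun p hp => (h.Q_central haΦ hp).symm, fun c hc p hp => h.Q_norm haΦ hc hp⟩

/-- a positive dominant root is the highest root -/
theorem eq_ρ {c : L} (hc : c ∈ Pos Φ ht) (hd : ∀ d ∈ Pos Φ ht, 0 ≤ B c d) : c = ρ := by
  have rt := h.rt
  have hρ := ha.ρmem
  have h1 := ha.high c hc.1 hc.2
  have h2 := rt.le c hc.1 ρ hρ
  rcases (by omega : B c ρ = 0 ∨ B c ρ = 1 ∨ B c ρ = 2) with h3 | h3 | h3
  · exfalso
    obtain ⟨m, hm, h4, h5⟩ := h.orth ρ hρ c hc.1 (by rw [rt.symm]; exact h3)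
    have := hd m (pos_of h ha hm (by omega))
    rw [rt.symm] at this
    omega
  · exfalso
    have h4 : B ρ c = 1 := by rw [rt.symm]; exact h3
    have hs := rt.sub_mem hρ hc.1 h4
    have h5 : B (ρ - c) ρ = 1 := by rw [rt.sub_left, h.self hρ, h3]; norm_num
    have := hd _ (pos_of h ha hs (by omega))
    rw [rt.sub_right, h3, h.self hc.1] at this
    omega
  · exact rt.eq c hc.1 ρ hρ h3

theorem ρpos : ρ ∈ Pos Φ ht := pos_of h ha ha.ρmem (by rw [h.self ha.ρmem]; norm_num)

theorem U_central {u : Y} (hu : u ∈ XS x (Pos Φ ht)) : x ρ * u = u * x ρ := by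
  apply comm_XS _ hu
  rintro c hc
  apply h.comm ρ ha.ρmem c hc.1
  rw [h.rt.symm]; exact ha.high c hc.1 hc.2

/-- the centre of `U` -/
theorem U_center {u : Y} (hu : u ∈ XS x (Pos Φ ht)) (hc : ∀ c ∈ Pos Φ ht, u * x c = x c * u) : u = 1 ∨ u = x ρ := by
  have rt := h.rt
  have hfin : (Pos Φ ht).Finite := rt.fin.subset fun c hc => hc.1
  let F : List (L →+ ℤ) := ht :: hfin.toFinset.toList.map (fB rt)
  have h1 : u ∈ XS x (insert ρ (∅ : Set L)) := by
    apply h.inter_mem (F := F)
    · intro f hf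
      simp only [F, List.mem_cons, List.mem_map, Finset.mem_toList, Set.Finite.mem_toFinset] at hf
      rcases hf with rfl | ⟨d, hd, rfl⟩
      · refine XS_mono ?_ hu
        exact fun c hc => ⟨hc.1, hc.2.le⟩
      · exact h.cent d hd.1 u (hc d hd)
    · intro c hcΦ hF
      have h2 := hF ht (by simp [F])
      have h3 := h.ht0 c hcΦ
      have h4 : c = ρ := by
        apply eq_ρ h ha ⟨hcΦ, by omega⟩
        intro d hd
        have := hF (fB rt d) (by
          simp only [F, List.mem_cons, List.mem_map, Finset.mem_toList, Set.Finite.mem_toFinset]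
          right; exact ⟨d, hd, rfl⟩)
        rwa [fB_apply] at this
      rw [h4]; exact Set.mem_insert _ _
  have h2 := h.mem_insert (T := ∅) ha.ρmem (fun v hv => by
    unfold XS at hv
    rw [Set.image_empty, Subgroup.closure_empty, mem_bot] at hv
    rw [hv]; simp) h1
  unfold XS at h2
  rw [Set.image_empty, Subgroup.closure_empty, mem_bot, mem_bot] at h2
  rcases h2 with h2 | h2
  · left; exact h2
  · right
    calc u = x ρ * (x ρ * u) := (h.cancel ha.ρmem u).symm
      _ = x ρ := by rw [h2, mul_one]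

/-- an automorphism normalising `U` fixes `x ρ` -/
theorem aut_fix [Finite Y] {β : MulAut Y} (hβ : ∀ u ∈ XS x (Pos Φ ht), β u ∈ XS x (Pos Φ ht)) : β (x ρ) = x ρ := by
  have hsurj : ∀ u ∈ XS x (Pos Φ ht), ∃ v ∈ XS x (Pos Φ ht), β v = u := by
    have h1 : (XS x (Pos Φ ht)).map β.toMonoidHom ≤ XS x (Pos Φ ht) := by
      rintro _ ⟨u, hu, rfl⟩
      exact hβ u hu
    have h2 : Nat.card ↥((XS x (Pos Φ ht)).map β.toMonoidHom) = Nat.card ↥(XS x (Pos Φ ht)) :=
      (Nat.card_congr ((XS x (Pos Φ ht)).equivMapOfInjective _ β.injective).toEquiv).symm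
    have h3 := eq_of_le_of_card_ge h1 h2.ge
    intro u hu
    rw [← h3] at hu
    exact hu
  have h1 : β (x ρ) = 1 ∨ β (x ρ) = x ρ := by
    apply U_center h ha (hβ _ (mem_XS (ρpos h ha)))
    intro c hc
    obtain ⟨v, hv, hvc⟩ := hsurj (x c) (mem_XS hc)
    rw [← hvc, ← map_mul, U_central h ha hv, map_mul]
  rcases h1 with h1 | h1
  · exfalso
    apply h.ne ρ ha.ρmem
    apply β.injective
    rw [h1, map_one]
  · exact h1

end RA

end Cfsg.Agent.OddHalf.D4.En2
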