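import Mathlib
import Cfsg.Agent.OddHalf.D4.En2.Qa
import Cfsg.Agent.OddHalf.D4.En2.Inv

/-!
# ODD, D4, `E_n(2)`: no Siegel elements (text: helper305 #11622 (A))

`noSiegel`: an element `k` of the positive unipotent group with `[C_Q(w), k] ≤ ⟨w⟩` lies in `Q = Q_ρ`.
-/

set_option autoImplicit false
set_option linter.unusedSectionVars false

namespace Cfsg.Agent.OddHalf.D4.En2

open Subgroup Cfsg.Agent.OddHalf.SL.Defs

variable {L Y : Type*} [AddCommGroup L] [Group Y]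
variable {B : L → L → ℤ} {Φ : Set L} {x : L → Y} {ht : L →+ ℤ} {ρ : L} {Fl : (L →+ L) → Prop}

/-- the filtration of `Q` -/
def Vt (B : L → L → ℤ) (Φ : Set L) (x : L → Y) (ht : L →+ ℤ) (ρ : L) (t : ℤ) : Subgroup Y :=
  XS x {d | d ∈ Φ ∧ 0 < B d ρ ∧ t < ht d}

theorem Vt_anti {t t' : ℤ} (htt : t ≤ t') : Vt B Φ x ht ρ t' ≤ Vt B Φ x ht ρ t := by
  refine XS_mono ?_
  exact fun c hc => ⟨hc.1, hc.2.1, lt_of_le_of_lt htt hc.2.2⟩

theorem Vt_le_Q {t : ℤ} : Vt B Φ x ht ρ t ≤ Qs B Φ x ρ := by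
  refine XS_mono ?_
  exact fun c hc => ⟨hc.1, hc.2.1⟩

section

variable (h : RE B Φ x ht) (ha : RA B Φ x ht ρ Fl)
include h ha

theorem ht_lt_ρ {d : L} (hd : d ∈ Φ) (h1 : B d ρ = 1) : ht d < ht ρ := by
  have rt := h.rt
  have hs := rt.sub_mem ha.ρmem hd (by rw [rt.symm]; exact h1)
  have h2 := RA.pos_of h ha hs (by rw [rt.sub_left, h.self ha.ρmem, h1]; norm_num)
  have h3 := h2.2
  rw [map_sub] at h3
  omega

/-- `x d`, `d` positive, normalises `Vt t` -/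
theorem Vt_norm {d : L} (hd : d ∈ Pos Φ ht) {t : ℤ} {u : Y} (hu : u ∈ Vt B Φ x ht ρ t) :
    x d * u * (x d)⁻¹ ∈ Vt B Φ x ht ρ t := by
  apply h.conj_XS hd.1 (fun e he => he.1) _ _ hu
  · rintro ⟨h1, h2, -⟩
    have h3 := ha.high d hd.1 hd.2
    rw [h.rt.neg_left] at h2
    omega
  · rintro e ⟨he, he1, he2⟩ hde
    refine ⟨h.rt.add d hd.1 e he hde, ?_, ?_⟩
    · rw [h.rt.add_left]
      have h3 := ha.high d hd.1 hd.2
      omega
    · rw [map_add]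
      have := hd.2
      omega

theorem Vt_norm_U {g : Y} (hg : g ∈ XS x (Pos Φ ht)) {t : ℤ} {u : Y} (hu : u ∈ Vt B Φ x ht ρ t) :
    g * u * g⁻¹ ∈ Vt B Φ x ht ρ t := by
  have h1 : XS x (Pos Φ ht) ≤ normalizer (Vt B Φ x ht ρ t : Set Y) := by
    apply XS_le
    intro c hc
    rw [mem_normalizer_iff]
    intro u
    refine ⟨fun hu => Vt_norm h ha hc hu, fun h3 => ?_⟩
    have h4 := Vt_norm h ha hc h3
    rw [h.inv hc.1] at h4
    have e : x c * (x c * u * x c) * x c = (x c * x c) * u * (x c * x c) := by group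
    rw [e, h.sq c hc.1, one_mul, mul_one] at h4
    exact h4
  exact (mem_normalizer_iff.mp (h1 hg) u).mp hu

/-- the lowest root orthogonal to `ρ` -/
theorem exists_lowest_orth {k : Y} (hk : k ∈ XS x (Pos Φ ht)) (hkQ : k ∉ Qs B Φ x ρ) :
    ∃ c ∈ Pos Φ ht, B c ρ = 0 ∧ ∃ y ∈ XS x {d | d ∈ Pos Φ ht ∧ (0 < B d ρ ∨ ht c < ht d)}, k = x c * y := by
  obtain ⟨N, hN⟩ := h.exists_bound
  have key : ∀ n : ℕ, k ∈ XS x {d | d ∈ Pos Φ ht ∧ (0 < B d ρ ∨ (n : ℤ) < ht d)} ∨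
      ∃ c ∈ Pos Φ ht, B c ρ = 0 ∧ ∃ y ∈ XS x {d | d ∈ Pos Φ ht ∧ (0 < B d ρ ∨ ht c < ht d)}, k = x c * y := by
    intro n
    induction n with
    | zero =>
      left
      refine XS_mono ?_ hk
      exact fun c hc => ⟨hc, Or.inr hc.2⟩
    | succ n ih =>
      rcases ih with ih | ih
      swap
      · right; exact ih
      by_cases hex : ∃ c ∈ Pos Φ ht, B c ρ = 0 ∧ ht c = n + 1
      · obtain ⟨c, hc, hcρ, hcn⟩ := hex
        have hsub : {d | d ∈ Pos Φ ht ∧ (0 < B d ρ ∨ (n : ℤ) < ht d)} ⊆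
            insert c {d | d ∈ Pos Φ ht ∧ (0 < B d ρ ∨ ht c < ht d)} := by
          rintro d ⟨hd, hd'⟩
          by_cases hdc : d = c
          · left; exact hdc
          · right
            refine ⟨hd, ?_⟩
            have h1 : ht d ≠ ht c := fun h0 => hdc (h.hti d hd.1 c hc.1 h0)
            omega
        have h2 := h.mem_insert (T := {d | d ∈ Pos Φ ht ∧ (0 < B d ρ ∨ ht c < ht d)}) hc.1 (fun u hu => by
          apply h.conj_XS hc.1 (fun d hd => hd.1.1) _ _ hu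
          · rintro ⟨⟨-, h3⟩, -⟩
            have h4 := hc.2
            rw [map_neg] at h3
            omega
          · rintro d ⟨hd, hd'⟩ hcd
            refine ⟨h.closed_pos c hc d hd hcd, ?_⟩
            have h4 := hc.2
            have h5 := hd.2
            rw [h.rt.add_left, map_add, hcρ]
            omega) (XS_mono hsub ih)
        rcases h2 with h2 | h2
        · left
          rw [hcn] at h2
          push_cast
          exact h2
        · right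
          exact ⟨c, hc, hcρ, x c * k, h2, (h.cancel hc.1 k).symm⟩
      · left
        push Not at hex
        refine XS_mono ?_ ih
        rintro d ⟨hd, hd'⟩
        refine ⟨hd, ?_⟩
        by_cases h0 : 0 < B d ρ
        · left; exact h0
        · right
          have h1 := ha.high d hd.1 hd.2
          have := hex d hd (by omega)
          push_cast
          omega
  rcases key N with h1 | h1
  · exfalso
    apply hkQ
    refine XS_mono ?_ h1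
    rintro d ⟨hd, hd' | hd'⟩
    · exact ⟨hd.1, hd'⟩
    · exfalso
      have := hN d hd.1
      omega
  · exact h1

/-- `u ∈ Q` with `[k, u] ∈ x (b + c) Vt (ht b + ht c)` -/
def Lead (B : L → L → ℤ) (Φ : Set L) (x : L → Y) (ht : L →+ ℤ) (ρ c : L) (k u : Y) (b : L) : Prop :=
  u ∈ Qs B Φ x ρ ∧ (b ∈ Φ ∧ B b ρ = 1 ∧ B b c = -1) ∧
    ∃ v ∈ Vt B Φ x ht ρ (ht b + ht c), k * u * k⁻¹ * u⁻¹ = x (b + c) * v

theorem lead_root {c : L} (hc : c ∈ Pos Φ ht) (hcρ : B c ρ = 0) {y : Y}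
    (hy : y ∈ XS x {d | d ∈ Pos Φ ht ∧ (0 < B d ρ ∨ ht c < ht d)}) {b : L} (hb : b ∈ Φ) (hbρ : B b ρ = 1)
    (hbc : B b c = -1) : Lead B Φ x ht ρ c (x c * y) (x b) b := by
  have rt := h.rt
  have hbp := RA.pos_of h ha hb (by omega)
  have hcb : B c b = -1 := by rw [rt.symm]; exact hbc
  have hs := rt.add c hc.1 b hb hcb
  have e0 : c + b = b + c := add_comm c b
  have hsρ : B (c + b) ρ = 1 := by rw [rt.add_left, hcρ, hbρ]; norm_num
  have hlt := ht_lt_ρ h ha hs hsρ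
  rw [map_add] at hlt
  -- `y x_b y⁻¹ ∈ x_b V`
  have key : ∀ y ∈ XS x {d | d ∈ Pos Φ ht ∧ (0 < B d ρ ∨ ht c < ht d)},
      (x b)⁻¹ * (y * x b * y⁻¹) ∈ Vt B Φ x ht ρ (ht b + ht c) := by
    intro y hy
    have hyU : ∀ y ∈ XS x {d | d ∈ Pos Φ ht ∧ (0 < B d ρ ∨ ht c < ht d)}, y ∈ XS x (Pos Φ ht) := by
      intro y hy
      refine XS_mono ?_ hy
      exact fun d hd => hd.1
    have hbU : x b ∈ XS x (Pos Φ ht) := mem_XS hbp
    have gen : ∀ d ∈ Pos Φ ht, (0 < B d ρ ∨ ht c < ht d) → (x b)⁻¹ * (x d * x b * (x d)⁻¹) ∈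
        Vt B Φ x ht ρ (ht b + ht c) := by
      intro d hd hd'
      rcases h.cases hd.1 hb with h1 | h1 | h1
      · exfalso
        have := rt.eq_neg hd.1 hb h1
        have h2 := ha.high d hd.1 hd.2
        rw [this, rt.neg_left] at h2
        omega
      · rw [h.conj_neg hd.1 hb h1, inv_mul_cancel_left]
        have hdb := rt.add d hd.1 b hb h1
        apply mem_XS
        refine ⟨hdb, ?_, ?_⟩
        · have h2 := ha.high d hd.1 hd.2
          rw [rt.add_left]; omega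
        · rcases hd' with h2 | h2
          · have h3 : B (d + b) ρ ≤ 2 := rt.le _ hdb ρ ha.ρmem
            rw [rt.add_left] at h3
            have h4 : d + b = ρ := rt.eq _ hdb ρ ha.ρmem (by rw [rt.add_left]; omega)
            rw [h4]; omega
          · rw [map_add]; omega
      · rw [h.conj_pos hd.1 hb (by omega), inv_mul_cancel]
        exact one_mem _
    unfold XS at hy
    induction hy using closure_induction with
    | mem z hz =>
      obtain ⟨d, hd, rfl⟩ := hz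
      exact gen d hd.1 hd.2
    | one => rw [one_mul, inv_one, mul_one, inv_mul_cancel]; exact one_mem _
    | mul y1 y2 hy1 hy2 ih1 ih2 =>
      have e1 : (x b)⁻¹ * (y1 * y2 * x b * (y1 * y2)⁻¹) =
          ((x b)⁻¹ * (y1 * x b * y1⁻¹)) * (y1 * ((x b)⁻¹ * (y2 * x b * y2⁻¹)) * y1⁻¹) := by group
      rw [e1]
      exact mul_mem ih1 (Vt_norm_U h ha (hyU y1 hy1) ih2)
    | inv y1 hy1 ih1 =>
      have h3 : (x b)⁻¹ * (y1⁻¹ * x b * y1⁻¹⁻¹) =
          ((x b)⁻¹ * y1⁻¹ * x b) * (((x b)⁻¹ * (y1 * x b * y1⁻¹))⁻¹) * ((x b)⁻¹ * y1⁻¹ * x b)⁻¹ := by group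
      rw [h3]
      apply Vt_norm_U h ha _ (inv_mem ih1)
      exact mul_mem (mul_mem (inv_mem hbU) (inv_mem (hyU y1 hy1))) hbU
  have hv := key y hy
  set v := (x b)⁻¹ * (y * x b * y⁻¹) with hvd
  refine ⟨mem_XS ⟨hb, by omega⟩, ⟨hb, hbρ, hbc⟩, x b * (x c * v * (x c)⁻¹) * (x b)⁻¹, ?_, ?_⟩
  · exact Vt_norm h ha hbp (Vt_norm h ha hc hv)
  · have h1 : x c * x b * (x c)⁻¹ = x b * x (b + c) := by
      rw [h.conj_neg hc.1 hb hcb, e0]
    have h2 : x b * x (b + c) = x (b + c) * x b := by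
      apply h.comm b hb _ (by rw [← e0]; exact hs)
      rw [rt.add_right, h.self hb, hbc]; norm_num
    calc x c * y * x b * (x c * y)⁻¹ * (x b)⁻¹
        = (x c * x b * (x c)⁻¹) * (x c * ((x b)⁻¹ * (y * x b * y⁻¹)) * (x c)⁻¹) * (x b)⁻¹ := by group
      _ = (x b * x (b + c)) * (x c * v * (x c)⁻¹) * (x b)⁻¹ := by rw [h1, hvd]
      _ = x (b + c) * (x b * (x c * v * (x c)⁻¹) * (x b)⁻¹) := by rw [h2]; group

theorem Lead.mul {c : L} {k u u' : Y} {b b' : L} (h1 : Lead B Φ x ht ρ c k u b) (h2 : Lead B Φ x ht ρ c k u' b')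
    (hlt : ht b < ht b') (hcρ : B c ρ = 0) (hc : c ∈ Pos Φ ht) : Lead B Φ x ht ρ c k (u * u') b := by
  have rt := h.rt
  obtain ⟨huQ, hb, v, hv, e⟩ := h1
  obtain ⟨huQ', hb', v', hv', e'⟩ := h2
  have h3 : x (b' + c) * v' ∈ Vt B Φ x ht ρ (ht b + ht c) := by
    apply mul_mem
    · apply mem_XS
      refine ⟨rt.add b' hb'.1 c hc.1 hb'.2.2, ?_, ?_⟩
      · rw [rt.add_left, hb'.2.1, hcρ]; norm_num
      · rw [map_add]; omega
    · exact Vt_anti (by omega) hv'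
  refine ⟨mul_mem huQ huQ', hb, v * (u * (x (b' + c) * v') * u⁻¹), ?_, ?_⟩
  · apply mul_mem hv
    exact Vt_norm_U h ha (RA.Qρ_le h ha huQ) h3
  · calc k * (u * u') * k⁻¹ * (u * u')⁻¹ = (k * u * k⁻¹ * u⁻¹) * (u * (k * u' * k⁻¹ * u'⁻¹) * u⁻¹) := by group
      _ = _ := by rw [e, e', mul_assoc]

theorem Lead.ne {c : L} {k u : Y} {b : L} (h1 : Lead B Φ x ht ρ c k u b) (hcρ : B c ρ = 0) (hc : c ∈ Pos Φ ht) :
    k * u * k⁻¹ * u⁻¹ ≠ 1 := by
  have rt := h.rt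
  obtain ⟨huQ, hb, v, hv, e⟩ := h1
  rw [e]
  intro h0
  have hs := rt.add b hb.1 c hc.1 hb.2.2
  have hsp := RA.pos_of h ha hs (by rw [rt.add_left, hb.2.1, hcρ]; norm_num)
  have hmem : x (b + c) ∈ Vt B Φ x ht ρ (ht b + ht c) := by
    rw [mul_eq_one_iff_eq_inv] at h0
    rw [h0]; exact inv_mem hv
  refine h.notMem_of_notMem ?_ ?_ hsp ?_ hmem
  · exact fun d hd => RA.pos_of h ha hd.1 hd.2.1
  · rintro d ⟨hd, hd1, hd2⟩ e ⟨he, he1, he2⟩ hde
    have p1 := (RA.pos_of h ha hd hd1).2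
    refine ⟨rt.add d hd e he hde, ?_, ?_⟩
    · rw [rt.add_left]; omega
    · rw [map_add]; omega
  · rintro ⟨-, -, h3⟩
    rw [map_add] at h3
    omega

/-- the two-dimensional contradiction -/
theorem lead_two {c : L} {k w p q : Y} {b b' : L} (hcρ : B c ρ = 0) (hc : c ∈ Pos Φ ht) (hw2 : w * w = 1)
    (hk : ∀ v ∈ Qs B Φ x ρ, v * w = w * v → k * v * k⁻¹ * v⁻¹ = 1 ∨ k * v * k⁻¹ * v⁻¹ = w)
    (h1 : Lead B Φ x ht ρ c k p b) (h2 : Lead B Φ x ht ρ c k q b') (hlt : ht b < ht b') (hp : p * w = w * p)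
    (hq : q * w = w * q) : False := by
  have e1 := (hk p h1.1 hp).resolve_left (h1.ne h ha hcρ hc)
  have e2 := (hk q h2.1 hq).resolve_left (h2.ne h ha hcρ hc)
  apply (h1.mul h ha h2 hlt hcρ hc).ne h ha hcρ hc
  calc k * (p * q) * k⁻¹ * (p * q)⁻¹ = (k * p * k⁻¹ * p⁻¹) * (p * (k * q * k⁻¹ * q⁻¹) * p⁻¹) := by group
    _ = w * (p * w * p⁻¹) := by rw [e1, e2]
    _ = w * w := by rw [hp]; group
    _ = 1 := hw2

theorem lead_three {c : L} {k w : Y} {u1 u2 u3 : Y} {b1 b2 b3 : L} (hcρ : B c ρ = 0) (hc : c ∈ Pos Φ ht)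
    (hwQ : w ∈ Qs B Φ x ρ) (hw2 : w * w = 1)
    (hk : ∀ v ∈ Qs B Φ x ρ, v * w = w * v → k * v * k⁻¹ * v⁻¹ = 1 ∨ k * v * k⁻¹ * v⁻¹ = w)
    (h1 : Lead B Φ x ht ρ c k u1 b1) (h2 : Lead B Φ x ht ρ c k u2 b2) (h3 : Lead B Φ x ht ρ c k u3 b3)
    (h12 : ht b1 < ht b2) (h23 : ht b2 < ht b3) : False := by
  have hz := h.sq ρ ha.ρmem
  have hcen : ∀ u ∈ Qs B Φ x ρ, x ρ * u = u * x ρ := fun u hu => h.Q_central ha.ρmem hu
  have hd : ∀ u ∈ Qs B Φ x ρ, u * w = w * u ∨ u * w = x ρ * (w * u) := fun u hu => h.Q_comm ha.ρmem hu hwQ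
  have hprod : ∀ u ∈ Qs B Φ x ρ, ∀ v ∈ Qs B Φ x ρ, u * w = x ρ * (w * u) → v * w = x ρ * (w * v) →
      (u * v) * w = w * (u * v) := by
    intro u hu v hv e1 e2
    calc (u * v) * w = u * (v * w) := by group
      _ = (u * x ρ) * w * v := by rw [e2]; group
      _ = x ρ * (u * w) * v := by rw [← hcen u hu]; group
      _ = (x ρ * x ρ) * (w * u) * v := by rw [e1]; group
      _ = w * (u * v) := by rw [hz]; group
  rcases hd u1 h1.1 with s1 | s1 <;> rcases hd u2 h2.1 with s2 | s2 <;> rcases hd u3 h3.1 with s3 | s3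
  · exact lead_two h ha hcρ hc hw2 hk h1 h2 h12 s1 s2
  · exact lead_two h ha hcρ hc hw2 hk h1 h2 h12 s1 s2
  · exact lead_two h ha hcρ hc hw2 hk h1 h3 (by omega) s1 s3
  · exact lead_two h ha hcρ hc hw2 hk h1 (h2.mul h ha h3 h23 hcρ hc) h12 s1 (hprod _ h2.1 _ h3.1 s2 s3)
  · exact lead_two h ha hcρ hc hw2 hk h2 h3 h23 s2 s3
  · exact lead_two h ha hcρ hc hw2 hk (h1.mul h ha h3 (by omega) hcρ hc) h2 h12 (hprod _ h1.1 _ h3.1 s1 s3) s2
  · exact lead_two h ha hcρ hc hw2 hk (h1.mul h ha h2 h12 hcρ hc) h3 (by omega) (hprod _ h1.1 _ h2.1 s1 s2) s3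
  · exact lead_two h ha hcρ hc hw2 hk (h1.mul h ha h2 h12 hcρ hc) (h2.mul h ha h3 h23 hcρ hc) h12
      (hprod _ h1.1 _ h2.1 s1 s2) (hprod _ h2.1 _ h3.1 s2 s3)

/-- **No Siegel elements.** -/
theorem noSiegel {k w : Y} (hkU : k ∈ XS x (Pos Φ ht)) (hwQ : w ∈ Qs B Φ x ρ) (hw2 : w * w = 1)
    (hk : ∀ v ∈ Qs B Φ x ρ, v * w = w * v → k * v * k⁻¹ * v⁻¹ = 1 ∨ k * v * k⁻¹ * v⁻¹ = w) :
    k ∈ Qs B Φ x ρ := by
  have rt := h.rt
  by_contra hkQ
  obtain ⟨c, hc, hcρ, y, hy, rfl⟩ := exists_lowest_orth h ha hkU hkQ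
  have hcΦ := hc.1
  have hρ := ha.ρmem
  have hρc : B ρ c = 0 := by rw [rt.symm]; exact hcρ
  obtain ⟨m, hm, m1, m2⟩ := h.orth ρ hρ c hcΦ hρc
  obtain ⟨m', hm', m3, m4, m5⟩ := h.quad ρ hρ (-c) (rt.neg_mem c hcΦ) m hm (by rw [rt.neg_right, hρc, neg_zero]) m1
    (by rw [rt.neg_right, m2]; norm_num)
  rw [rt.neg_right] at m4
  have m4' : B m' c = -1 := by omega
  have s1 : ρ - m ∈ Φ := rt.sub_mem hρ hm (by rw [rt.symm]; exact m1)
  have s2 : B (ρ - m) c = 1 := by rw [rt.sub_left, hρc, m2]; norm_num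
  have s3 := rt.sub_mem s1 hcΦ s2
  have s4 : B (ρ - m - c) ρ = 1 := by rw [rt.sub_left, rt.sub_left, h.self hρ, m1, hcρ]; norm_num
  have s5 : B (ρ - m - c) c = -1 := by rw [rt.sub_left, s2, h.self hcΦ]; norm_num
  have s6 : B (ρ - m - c) m = 0 := by
    rw [rt.sub_left, rt.sub_left, rt.symm ρ m, m1, h.self hm, rt.symm c m, m2]; norm_num
  have s7 : B (ρ - m - c) m' = 1 := by
    rw [rt.sub_left, rt.sub_left, rt.symm ρ m', m3, rt.symm m m', m5, rt.symm c m', m4']; norm_num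
  have d1 : ht m ≠ ht m' := by
    intro h0
    have := h.hti m hm m' hm' h0
    rw [this, h.self hm'] at m5
    omega
  have d2 : ht m ≠ ht (ρ - m - c) := by
    intro h0
    have := h.hti m hm _ s3 h0
    rw [← this, h.self hm] at s6
    omega
  have d3 : ht m' ≠ ht (ρ - m - c) := by
    intro h0
    have := h.hti m' hm' _ s3 h0
    rw [← this, h.self hm'] at s7
    omega
  have l1 := lead_root h ha hc hcρ hy hm m1 m2
  have l2 := lead_root h ha hc hcρ hy hm' m3 m4'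
  have l3 := lead_root h ha hc hcρ hy s3 s4 s5
  rcases lt_or_gt_of_ne d1 with a1 | a1 <;> rcases lt_or_gt_of_ne d2 with a2 | a2 <;>
    rcases lt_or_gt_of_ne d3 with a3 | a3
  · exact lead_three h ha hcρ hc hwQ hw2 hk l1 l2 l3 a1 a3
  · exact lead_three h ha hcρ hc hwQ hw2 hk l1 l3 l2 a2 a3
  · omega
  · exact lead_three h ha hcρ hc hwQ hw2 hk l3 l1 l2 a2 a1
  · exact lead_three h ha hcρ hc hwQ hw2 hk l2 l1 l3 a1 a2
  · omega
  · exact lead_three h ha hcρ hc hwQ hw2 hk l2 l3 l1 a3 a2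
  · exact lead_three h ha hcρ hc hwQ hw2 hk l3 l2 l1 a3 a1

end

end Cfsg.Agent.OddHalf.D4.En2
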