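import Mathlib
import Cfsg.Agent.OddHalf.D4.En2.NoSiegel
import Cfsg.Agent.OddHalf.D4.KP

/-!
# ODD, D4, `E_n(2)`: case (A): `N ∩ O_2(C(e)) ≠ 1` for a root element `e` centralised by `α`, `β`
(text: helper305 #11622 (A))
-/

set_option autoImplicit false
set_option linter.unusedSectionVars false

namespace Cfsg.Agent.OddHalf.D4.En2

open Subgroup Cfsg.Agent.OddHalf.SL.Defs Cfsg.Agent.OddHalf.D4.Basic

variable {L Y : Type*} [AddCommGroup L] [Group Y]
variable {B : L → L → ℤ} {Φ : Set L} {x : L → Y} {ht : L →+ ℤ} {ρ : L} {Fl : (L →+ L) → Prop}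

/-- nondegeneracy of the commutator form on `Q` -/
theorem RE.nondeg (h : RE B Φ x ht) {a : L} (ha : a ∈ Φ) {w n : Y} (hw : w ∈ Qs B Φ x a) (hn : n ∈ Qs B Φ x a)
    (hw1 : w ≠ 1) (hwa : w ≠ x a) (hw2 : w * w = 1)
    (hc : ∀ v ∈ Qs B Φ x a, v * w = w * v → v * n = n * v) : n = 1 ∨ n = x a ∨ n = w ∨ n = x a * w := by
  have hz := h.sq a ha
  have hcen : ∀ u ∈ Qs B Φ x a, x a * u = u * x a := fun u hu => h.Q_central ha hu
  -- an element `q` not commuting with `w`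
  obtain ⟨c, hcΦ, hca, hcw⟩ : ∃ c ∈ Φ, B c a = 1 ∧ w * x c ≠ x c * w := by
    by_contra hcon
    push Not at hcon
    rcases h.Q_center ha hw fun c hc hca => hcon c hc hca with h1 | h1
    · exact hw1 h1
    · exact hwa h1
  have hq : x c ∈ Qs B Φ x a := mem_XS ⟨hcΦ, by omega⟩
  set q := x c with hqd
  have hwq : w * q = x a * (q * w) := (h.Q_comm ha hw hq).resolve_left hcw
  -- the first case
  have first : ∀ n ∈ Qs B Φ x a, (∀ v ∈ Qs B Φ x a, v * w = w * v → v * n = n * v) → n * q = q * n →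
      n = 1 ∨ n = x a := by
    intro n hn hc hnq
    apply h.Q_center ha hn
    intro d hd hda
    have hd' : x d ∈ Qs B Φ x a := mem_XS ⟨hd, by omega⟩
    rcases h.Q_comm ha hw hd' with h1 | h1
    · exact (hc _ hd' h1.symm).symm
    · have h2 : (x d * q) * w = w * (x d * q) := by
        have e1 : q * w = x a * (w * q) := by rw [hwq, ← mul_assoc, hz, one_mul]
        calc (x d * q) * w = x d * (q * w) := by group
          _ = (x d * x a) * w * q := by rw [e1]; group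
          _ = (x a * (x d * w)) * q := by rw [← hcen _ hd']; group
          _ = w * (x d * q) := by rw [← h1]; group
      have h3 := hc _ (mul_mem hd' hq) h2
      have h4 : x d * n * q = n * x d * q := by
        calc x d * n * q = x d * (n * q) := by group
          _ = (x d * q) * n := by rw [hnq]; group
          _ = n * (x d * q) := h3
          _ = _ := by group
      exact (mul_right_cancel h4).symm
  rcases h.Q_comm ha hn hq with h1 | h1
  · rcases first n hn hc h1 with h2 | h2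
    · left; exact h2
    · right; left; exact h2
  · have h2 : (w * n) * q = q * (w * n) := by
      calc (w * n) * q = w * (n * q) := by group
        _ = (w * x a) * q * n := by rw [h1]; group
        _ = x a * (w * q) * n := by rw [← hcen w hw]; group
        _ = (x a * x a) * (q * w) * n := by rw [hwq]; group
        _ = _ := by rw [hz]; group
    have h3 : ∀ v ∈ Qs B Φ x a, v * w = w * v → v * (w * n) = (w * n) * v := by
      intro v hv hvw
      have h4 := hc v hv hvw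
      calc v * (w * n) = (v * w) * n := by group
        _ = w * (v * n) := by rw [hvw]; group
        _ = _ := by rw [h4]; group
    have hn2 : w * (w * n) = n := by rw [← mul_assoc, hw2, one_mul]
    rcases first _ (mul_mem hw hn) h3 h2 with h4 | h4
    · right; right; left
      rw [h4, mul_one] at hn2; exact hn2.symm
    · right; right; right
      rw [h4, ← hcen w hw] at hn2; exact hn2.symm

theorem orderOf_two {u : Y} (h1 : u ≠ 1) (h2 : u * u = 1) : orderOf u = 2 :=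
  orderOf_eq_prime (by rw [pow_two]; exact h2) h1

section

variable [Finite Y] (h : RE B Φ x ht) (ha : RA B Φ x ht ρ Fl) {α β : MulAut Y} {D N : Subgroup Y}
  (hc : Conf α β D N)
include h ha hc

theorem ρ_notMem : x ρ ∉ N := by
  intro h0
  obtain ⟨S, hS⟩ := ha.syl
  obtain ⟨s, hs, hne⟩ := hc.noCenN _ h0 (orderOf_two (h.ne ρ ha.ρmem) (h.sq ρ ha.ρmem)) S
  apply hne
  have hs' : s ∈ XS x (Pos Φ ht) := by rw [← hS]; exact hs
  exact (RA.U_central h ha hs').symm

theorem conj_ρ_ne {γ : MulAut Y} (hγ : γ = α ∨ γ = β ∨ γ = α * β) : γ ≠ MulAut.conj (x ρ) := by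
  rintro h0
  obtain ⟨S, hS⟩ := ha.syl
  obtain ⟨s, hs, hne⟩ := hc.noCen γ hγ S
  apply hne
  have hs' : s ∈ XS x (Pos Φ ht) := by rw [← hS]; exact hs
  rw [h0, MulAut.conj_apply, RA.U_central h ha hs', mul_inv_cancel_right]

/-- elements of `D ∩ Q` and `N ∩ Q` commute -/
theorem comm_DN {d n : Y} (hd : d ∈ D) (hdQ : d ∈ Qs B Φ x ρ) (hn : n ∈ N) (hnQ : n ∈ Qs B Φ x ρ) :
    d * n = n * d := by
  rcases h.Q_comm ha.ρmem hdQ hnQ with h1 | h1
  · exact h1
  · exfalso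
    apply ρ_notMem h ha hc
    have h2 := N.mul_mem (hc.norm d hd n hn) (N.inv_mem hn)
    have e : d * n * d⁻¹ * n⁻¹ = x ρ := by rw [h1]; group
    rw [e] at h2
    exact h2

/-- the involution of `N ∩ Q` -/
theorem exists_w0 (hne : ∃ n ∈ N, n ∈ Qs B Φ x ρ ∧ n ≠ 1) :
    ∃ w ∈ N, w ∈ Qs B Φ x ρ ∧ w ≠ 1 ∧ w ≠ x ρ ∧ w * w = 1 ∧ (∀ n ∈ N, n ∈ Qs B Φ x ρ → n = 1 ∨ n = w) ∧
      ∀ v ∈ Qs B Φ x ρ, v * w = w * v → v ∈ D := by
  have h2 : IsPGroup 2 ↥(N ⊓ Qs B Φ x ρ : Subgroup Y) := (RA.Q_two h ha ha.ρmem).to_le inf_le_right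
  obtain ⟨w, hw, hw2⟩ := exists_invol_of_two h2 (by
    obtain ⟨n, hn, hnQ, hn1⟩ := hne
    intro h0
    have : n ∈ (N ⊓ Qs B Φ x ρ : Subgroup Y) := ⟨hn, hnQ⟩
    rw [h0, mem_bot] at this
    exact hn1 this)
  have hw1 : w ≠ 1 := by
    rintro rfl
    rw [orderOf_one] at hw2
    omega
  have hww : w * w = 1 := by rw [← pow_two, ← hw2]; exact pow_orderOf_eq_one w
  have hwρ : w ≠ x ρ := by
    rintro rfl
    exact ρ_notMem h ha hc hw.1
  have hD : ∀ v ∈ Qs B Φ x ρ, v * w = w * v → v ∈ D := fun v _ hvw => hc.cenN w hw.1 hw2 v hvw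
  refine ⟨w, hw.1, hw.2, hw1, hwρ, hww, fun n hn hnQ => ?_, hD⟩
  rcases h.nondeg ha.ρmem hw.2 hnQ hw1 hwρ hww (fun v hv hvw => comm_DN h ha hc (hD v hv hvw) hv hn hnQ) with
    h3 | h3 | h3 | h3
  · left; exact h3
  · exfalso
    rw [h3] at hn
    exact ρ_notMem h ha hc hn
  · right; exact h3
  · exfalso
    rw [h3] at hn
    apply ρ_notMem h ha hc
    have h4 := N.mul_mem hn (N.inv_mem hw.1)
    rwa [mul_inv_cancel_right] at h4

/-- an inner `γ` is `w0` or `x ρ * w0` -/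
theorem inner_eq {w : Y} (hwQ : w ∈ Qs B Φ x ρ) (hw1 : w ≠ 1) (hwρ : w ≠ x ρ) (hw2 : w * w = 1)
    (hN : ∀ n ∈ N, n ∈ Qs B Φ x ρ → n = 1 ∨ n = w) (hD : ∀ v ∈ Qs B Φ x ρ, v * w = w * v → v ∈ D)
    {k : Y} (hγ : MulAut.conj k = α ∨ MulAut.conj k = β ∨ MulAut.conj k = α * β) (hγ1 : MulAut.conj k ≠ 1)
    (hγU : ∀ u ∈ XS x (Pos Φ ht), MulAut.conj k u ∈ XS x (Pos Φ ht)) : k = w ∨ k = x ρ * w := by
  have hkU : k ∈ XS x (Pos Φ ht) := ha.norm k hγU
  have hkρ : k * x ρ = x ρ * k := (RA.U_central h ha hkU).symm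
  have hk : ∀ v ∈ Qs B Φ x ρ, v * w = w * v → k * v * k⁻¹ * v⁻¹ = 1 ∨ k * v * k⁻¹ * v⁻¹ = w := by
    intro v hv hvw
    apply hN
    · exact hc.comm _ hγ v (hD v hv hvw)
    · exact mul_mem (h.Q_norm ha.ρmem hkρ hv) (inv_mem hv)
  have hkQ := noSiegel h ha hkU hwQ hw2 hk
  have hk' : ∀ v ∈ Qs B Φ x ρ, v * w = w * v → v * k = k * v := by
    intro v hv hvw
    rcases h.Q_comm ha.ρmem hkQ hv with h1 | h1
    · exact h1.symm
    · exfalso
      have e : k * v * k⁻¹ * v⁻¹ = x ρ := by rw [h1]; group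
      rcases hk v hv hvw with h2 | h2
      · rw [e] at h2
        exact h.ne ρ ha.ρmem h2
      · rw [e] at h2
        exact hwρ h2.symm
  rcases h.nondeg ha.ρmem hwQ hkQ hw1 hwρ hw2 hk' with h3 | h3 | h3 | h3
  · exfalso
    apply hγ1
    rw [h3, map_one]
  · exfalso
    exact conj_ρ_ne h ha hc hγ (by rw [h3])
  · left; exact h3
  · right; exact h3

/-- **Case (A), all inner.** -/
theorem caseA_inner (hne : ∃ n ∈ N, n ∈ Qs B Φ x ρ ∧ n ≠ 1) (hαU : ∀ u ∈ XS x (Pos Φ ht), α u ∈ XS x (Pos Φ ht))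
    (hβU : ∀ u ∈ XS x (Pos Φ ht), β u ∈ XS x (Pos Φ ht)) {a b : Y} (hα : α = MulAut.conj a)
    (hβ : β = MulAut.conj b) : False := by
  obtain ⟨w, hwN, hwQ, hw1, hwρ, hw2, hN, hD⟩ := exists_w0 h ha hc hne
  have hab1 : α * β ≠ 1 := by
    intro h0
    apply hc.ne
    have h1 := hc.aa
    have h2 : α * (α * β) = α := by rw [h0, mul_one]
    rw [← mul_assoc, h1, one_mul] at h2
    exact h2.symm
  have e1 := inner_eq h ha hc hwQ hw1 hwρ hw2 hN hD (k := a) (Or.inl hα.symm) (by rw [← hα]; exact hc.a1)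
    (by rw [← hα]; exact hαU)
  have e2 := inner_eq h ha hc hwQ hw1 hwρ hw2 hN hD (k := b) (Or.inr (Or.inl hβ.symm)) (by rw [← hβ]; exact hc.b1)
    (by rw [← hβ]; exact hβU)
  have e3 := inner_eq h ha hc hwQ hw1 hwρ hw2 hN hD (k := a * b)
    (Or.inr (Or.inr (by rw [map_mul, hα, hβ]))) (by rw [map_mul, ← hα, ← hβ]; exact hab1)
    (by rw [map_mul, ← hα, ← hβ]; exact fun u hu => hαU _ (hβU u hu))
  have hz := h.sq ρ ha.ρmem
  have hcw : x ρ * w = w * x ρ := h.Q_central ha.ρmem hwQ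
  have f1 : w * (x ρ * w) = x ρ := by rw [hcw, ← mul_assoc, hw2, one_mul]
  have f2 : x ρ * w * w = x ρ := by rw [mul_assoc, hw2, mul_one]
  have f3 : x ρ * w * (x ρ * w) = 1 := by
    calc x ρ * w * (x ρ * w) = x ρ * (w * (x ρ * w)) := by group
      _ = 1 := by rw [f1, hz]
  have key : ∀ t : Y, (t = 1 ∨ t = x ρ) → ¬ (t = w ∨ t = x ρ * w) := by
    rintro t (rfl | rfl) (h1 | h1)
    · exact hw1 h1.symm
    · apply hwρ
      have h2 : x ρ * (x ρ * w) = x ρ := by rw [← h1, mul_one]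
      rw [← mul_assoc, hz, one_mul] at h2
      exact h2
    · exact hwρ h1.symm
    · apply hw1
      have h2 : x ρ * (x ρ * w) = x ρ * x ρ := by rw [← h1]
      rw [← mul_assoc, hz, one_mul] at h2
      exact h2
  apply key (a * b) _ e3
  rcases e1 with rfl | rfl <;> rcases e2 with rfl | rfl
  · left; exact hw2
  · right; exact f1
  · right; exact f2
  · left; exact f3

end

end Cfsg.Agent.OddHalf.D4.En2
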