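import Mathlib
import Cfsg.Agent.OddHalf.D4.En2.Lib

/-!
# ODD, D4, `E_n(2)`: cones of orthogonal sets of roots (text: helper305 #11622 (D), (E))

`Cone F = {a : ⟨a, r⟩ ≥ 0 for all r ∈ F}`, `F` a set of pairwise orthogonal roots.
* `conn` : `Cone F` is connected under `⟨a, a'⟩ = 1`;
* `cone_cone` : `⟨b, s⟩ ≥ 0` for all `s ∈ Cone F` implies `b ∈ F` or `2 b = r₁ + r₂ + r₃ + r₄`.
-/

set_option autoImplicit false
set_option linter.unusedSectionVars false

namespace Cfsg.Agent.OddHalf.D4.En2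

open Subgroup Cfsg.Agent.OddHalf.SL.Defs

variable {L Y : Type*} [AddCommGroup L] [Group Y]
variable {B : L → L → ℤ} {Φ : Set L} {x : L → Y} {ht : L →+ ℤ}

/-- the cone of `F` -/
def Cone (B : L → L → ℤ) (Φ : Set L) (F : List L) : Set L := {c | c ∈ Φ ∧ ∀ r ∈ F, 0 ≤ B c r}

/-- Adding to `c` the roots `r ∈ F` with `⟨c, r⟩ = -1`. -/
theorem exists_plus (rt : Roots B Φ) {F : List L} (hF : Ort B Φ F) {c : L} (hc : c ∈ Φ)
    (hne : ∀ r ∈ F, B c r ≠ -2) :
    ∃ c' ∈ Φ, (∀ r ∈ F, 0 ≤ B c' r) ∧ (∀ y, (∀ r ∈ F, 0 ≤ B r y) → B c y ≤ B c' y) ∧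
      (∀ y, (∀ r ∈ F, B c r = -1 → B r y = 0) → B c' y = B c y) ∧
      (∀ f : L →+ ℤ, (∀ r ∈ F, 0 ≤ f r) → f c ≤ f c') ∧
      (∀ τ : L →+ L, (∀ r ∈ F, τ r = r) → τ c' - c' = τ c - c) := by
  induction F with
  | nil =>
    exact ⟨c, hc, by simp, fun _ _ => le_rfl, fun _ _ => rfl, fun _ _ => le_rfl, fun _ _ => rfl⟩
  | cons r F ih =>
    obtain ⟨c1, hc1, h1, h2, h3, h4, h5⟩ := ih hF.tail fun s hs => hne s (List.mem_cons_of_mem _ hs)
    have hr := hF.head
    have e1 : B c1 r = B c r := h3 r fun s hs _ => by rw [rt.symm]; exact hF.orth s hs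
    have hcr : -2 ≤ B c r := rt.ge hc hr
    have hcr' := hne r List.mem_cons_self
    by_cases h6 : B c r = -1
    · refine ⟨c1 + r, rt.add c1 hc1 r hr (by rw [e1, h6]), ?_, ?_, ?_, ?_, ?_⟩
      · intro s hs
        rcases List.mem_cons.mp hs with rfl | hs
        · rw [rt.add_left, e1, h6, rt.two _ hr]; norm_num
        · rw [rt.add_left, hF.orth s hs, add_zero]
          exact h1 s hs
      · intro y hy
        have h7 := h2 y fun s hs => hy s (List.mem_cons_of_mem _ hs)
        have h8 := hy r List.mem_cons_self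
        rw [rt.add_left]; omega
      · intro y hy
        rw [rt.add_left, hy r List.mem_cons_self h6, add_zero]
        exact h3 y fun s hs => hy s (List.mem_cons_of_mem _ hs)
      · intro f hf
        have h7 := h4 f fun s hs => hf s (List.mem_cons_of_mem _ hs)
        have h8 := hf r List.mem_cons_self
        rw [map_add]; omega
      · intro τ hτ
        have h7 := h5 τ fun s hs => hτ s (List.mem_cons_of_mem _ hs)
        rw [map_add, hτ r List.mem_cons_self, ← h7]
        abel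
    · refine ⟨c1, hc1, ?_, ?_, ?_, ?_, ?_⟩
      · intro s hs
        rcases List.mem_cons.mp hs with rfl | hs
        · rw [e1]; omega
        · exact h1 s hs
      · intro y hy
        exact h2 y fun s hs => hy s (List.mem_cons_of_mem _ hs)
      · intro y hy
        exact h3 y fun s hs => hy s (List.mem_cons_of_mem _ hs)
      · intro f hf
        exact h4 f fun s hs => hf s (List.mem_cons_of_mem _ hs)
      · intro τ hτ
        exact h5 τ fun s hs => hτ s (List.mem_cons_of_mem _ hs)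

namespace RE

variable (h : RE B Φ x ht)
include h

theorem mem_cone {F : List L} (hF : Ort B Φ F) {r : L} (hr : r ∈ F) : r ∈ Cone B Φ F := by
  refine ⟨hF.mem r hr, fun s hs => ?_⟩
  by_cases hrs : r = s
  · subst hrs; rw [h.self (hF.mem r hr)]; norm_num
  · rw [hF.eq_zero h.rt hr hs hrs]

/-- **The cone of a set of orthogonal roots is connected.** -/
theorem conn {F : List L} (hF : Ort B Φ F) (hne : F ≠ []) {P : L → Prop}
    (hP : ∀ a ∈ Cone B Φ F, P a → ∀ c ∈ Cone B Φ F, B a c = 1 → P c) {a : L} (ha : a ∈ Cone B Φ F) (hPa : P a)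
    {c : L} (hc : c ∈ Cone B Φ F) : P c := by
  have rt := h.rt
  -- step `-1`
  have s1 : ∀ a ∈ Cone B Φ F, P a → ∀ c ∈ Cone B Φ F, B a c = -1 → P c := by
    intro a ha hPa c hc hac
    have hs : a + c ∈ Cone B Φ F := by
      refine ⟨rt.add a ha.1 c hc.1 hac, fun r hr => ?_⟩
      have := ha.2 r hr
      have := hc.2 r hr
      rw [rt.add_left]; omega
    have h1 : B a (a + c) = 1 := by rw [rt.add_right, h.self ha.1, hac]; norm_num
    have h2 : B (a + c) c = 1 := by rw [rt.add_left, h.self hc.1, hac]; norm_num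
    exact hP _ hs (hP a ha hPa _ hs h1) c hc h2
  rcases h.cases ha.1 hc.1 with h1 | h1 | h1 | h1 | h1
  · -- `c = -a`
    have hca : a = -c := rt.eq_neg ha.1 hc.1 h1
    obtain ⟨r, hr⟩ := List.exists_mem_of_ne_nil F hne
    have har : ∀ r ∈ F, B a r = 0 := by
      intro r hr
      have h2 := ha.2 r hr
      have h3 := hc.2 r hr
      rw [hca, rt.neg_left] at h2 ⊢
      omega
    obtain ⟨m, hm, hma, hmr⟩ := h.orth a ha.1 r (hF.mem r hr) (har r hr)
    obtain ⟨m', hm', g1, g2, g3, -, -⟩ := exists_plus rt hF hm (by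
      intro s hs hms
      have : m = -s := rt.eq_neg hm (hF.mem s hs) hms
      rw [this, rt.neg_left, rt.symm, har s hs] at hma
      omega)
    have e1 : B m' a = 1 := by
      rw [g3 a fun s hs _ => by rw [rt.symm]; exact har s hs, hma]
    have hm'c : m' ∈ Cone B Φ F := ⟨hm', g1⟩
    apply s1 m' hm'c (hP a ha hPa m' hm'c (by rw [rt.symm]; exact e1)) c hc
    have e2 : c = -a := by rw [hca, neg_neg]
    rw [e2, rt.neg_right, e1]
  · exact s1 a ha hPa c hc h1
  · -- orthogonal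
    obtain ⟨m, hm, hma, hmc⟩ := h.orth a ha.1 (-c) (rt.neg_mem c hc.1) (by rw [rt.neg_right, h1, neg_zero])
    rw [rt.neg_right] at hmc
    have hmc' : B m c = 1 := by omega
    obtain ⟨m', hm', g1, g2, g3, -, -⟩ := exists_plus rt hF hm (by
      intro s hs hms
      have : m = -s := rt.eq_neg hm (hF.mem s hs) hms
      have h2 := ha.2 s hs
      rw [this, rt.neg_left, rt.symm] at hma
      omega)
    have hm'c : m' ∈ Cone B Φ F := ⟨hm', g1⟩
    have e1 := g2 a fun r hr => by rw [rt.symm]; exact ha.2 r hr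
    have e2 := g2 c fun r hr => by rw [rt.symm]; exact hc.2 r hr
    have e3 := rt.le m' hm' a ha.1
    have e4 := rt.le m' hm' c hc.1
    have e5 : B m' a ≠ 2 := by
      intro h0
      have := rt.eq m' hm' a ha.1 h0
      rw [this] at e2
      omega
    have e6 : B m' c ≠ 2 := by
      intro h0
      have := rt.eq m' hm' c hc.1 h0
      rw [this, rt.symm c a] at e1
      omega
    exact hP m' hm'c (hP a ha hPa m' hm'c (by rw [rt.symm]; omega)) c hc (by omega)
  · exact hP a ha hPa c hc h1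
  · rw [← rt.eq a ha.1 c hc.1 h1]; exact hPa

/-- **The double cone.** -/
theorem cone_cone {F : List L} (hF : Ort B Φ F) {b : L} (hb : b ∈ Φ)
    (hbc : ∀ s ∈ Cone B Φ F, 0 ≤ B b s) :
    b ∈ F ∨ ∃ r1 r2 r3 r4 : L, ∃ F' : List L, F.Perm (r1 :: r2 :: r3 :: r4 :: F') ∧ b + b = r1 + r2 + r3 + r4 ∧
      B b r1 = 1 ∧ B b r2 = 1 ∧ B b r3 = 1 ∧ B b r4 = 1 := by
  have rt := h.rt
  by_cases hbF : b ∈ F
  · left; exact hbF
  right
  have h0 : ∀ r ∈ F, B b r = 0 ∨ B b r = 1 := by
    intro r hr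
    have h1 := hbc r (h.mem_cone hF hr)
    have h2 := rt.le b hb r (hF.mem r hr)
    have h3 : B b r ≠ 2 := fun h4 => hbF (by rw [rt.eq b hb r (hF.mem r hr) h4]; exact hr)
    omega
  have hp := (List.filter_append_perm (fun r => decide (B b r = 1)) F).symm
  set I := F.filter (fun r => decide (B b r = 1)) with hI
  set J := F.filter (fun r => !decide (B b r = 1)) with hJ
  have hJ0 : ∀ r ∈ J, B b r = 0 := by
    intro r hr
    rw [hJ, List.mem_filter] at hr
    rcases h0 r hr.1 with h1 | h1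
    · exact h1
    · simp [h1] at hr
  have hI1 : ∀ r ∈ I, B b r = 1 := by
    intro r hr
    rw [hI, List.mem_filter] at hr
    simpa using hr.2
  have hO : Ort B Φ (I ++ J) := hF.perm rt hp
  have hmemF : ∀ r, r ∈ F ↔ r ∈ I ∨ r ∈ J := fun r => by rw [hp.mem_iff, List.mem_append]
  clear_value I J
  have hbb := h.self hb
  rcases I with _ | ⟨r1, _ | ⟨r2, _ | ⟨r3, _ | ⟨r4, I⟩⟩⟩⟩
  · -- `b ⊥ F`
    exfalso
    have h1 := hbc (-b) ⟨rt.neg_mem b hb, fun r hr => by
      rw [rt.neg_left]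
      rcases (hmemF r).mp hr with h2 | h2
      · simp at h2
      · rw [hJ0 r h2]; norm_num⟩
    rw [rt.neg_right] at h1
    omega
  · -- one
    exfalso
    have hr1 : r1 ∈ Φ := hO.mem r1 (by simp)
    have b1 := hI1 r1 (by simp)
    have o1 : ∀ r ∈ J, B r1 r = 0 := fun r hr => hO.eq_zero rt (by simp) (by simp [hr]) (by
      rintro rfl
      have := hJ0 _ hr
      omega)
    have hs : r1 - b ∈ Φ := rt.sub_mem hr1 hb (by rw [rt.symm]; exact b1)
    have h1 := hbc (r1 - b) ⟨hs, fun r hr => by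
      rw [rt.sub_left]
      rcases (hmemF r).mp hr with h2 | h2
      · rw [List.mem_singleton] at h2
        rw [h2, h.self hr1, b1]; norm_num
      · rw [o1 r h2, hJ0 r h2]; norm_num⟩
    rw [rt.sub_right, b1] at h1
    omega
  · -- two
    exfalso
    have hr1 : r1 ∈ Φ := hO.mem r1 (by simp)
    have hr2 : r2 ∈ Φ := hO.mem r2 (by simp)
    have b1 := hI1 r1 (by simp)
    have b2 := hI1 r2 (by simp)
    have o12 : B r1 r2 = 0 := by
      have h2 := hO.orth r2 (by simp)
      exact h2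
    obtain ⟨g, hg, g1, g2, g3⟩ := h.quad r1 hr1 r2 hr2 b hb o12 b1 b2
    have hs : g - b ∈ Φ := rt.sub_mem hg hb g3
    have hval : ∀ r ∈ F, B (g - b) r = B g r ∧ B b r = 0 ∨ B (g - b) r = 0 := by
      intro r hr
      rcases (hmemF r).mp hr with h2 | h2
      · right
        rw [rt.sub_left]
        rcases List.mem_cons.mp h2 with h3 | h3
        · rw [h3]; omega
        · rw [List.mem_singleton] at h3
          rw [h3]; omega
      · left
        rw [rt.sub_left, hJ0 r h2]
        exact ⟨by ring, rfl⟩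
    obtain ⟨s, hs', k1, k2, k3, -, -⟩ := exists_plus rt hF hs (by
      intro r hr h2
      rcases hval r hr with ⟨h3, h4⟩ | h3
      · rw [h3] at h2
        have h5 : g = -r := rt.eq_neg hg (hF.mem r hr) h2
        rw [h5, rt.neg_left, rt.symm, h4] at g3
        omega
      · omega)
    have h1 := hbc s ⟨hs', k1⟩
    have e1 : B s b = B (g - b) b := k3 b (by
      intro r hr h2
      rcases hval r hr with ⟨h3, h4⟩ | h3
      · rw [rt.symm]; exact h4
      · omega)
    rw [rt.symm, e1, rt.sub_left] at h1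
    omega
  · -- three
    exfalso
    have hr1 : r1 ∈ Φ := hO.mem r1 (by simp)
    have hr2 : r2 ∈ Φ := hO.mem r2 (by simp)
    have hr3 : r3 ∈ Φ := hO.mem r3 (by simp)
    have b1 := hI1 r1 (by simp)
    have b2 := hI1 r2 (by simp)
    have b3 := hI1 r3 (by simp)
    have o12 : B r1 r2 = 0 := hO.orth r2 (by simp)
    have o13 : B r1 r3 = 0 := hO.orth r3 (by simp)
    have o23 : B r2 r3 = 0 := hO.tail.orth r3 (by simp)
    have o21 : B r2 r1 = 0 := by rw [rt.symm]; exact o12
    have o31 : B r3 r1 = 0 := by rw [rt.symm]; exact o13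
    have o32 : B r3 r2 = 0 := by rw [rt.symm]; exact o23
    have hoJ : ∀ r ∈ J, B r1 r = 0 ∧ B r2 r = 0 ∧ B r3 r = 0 := by
      intro r hr
      refine ⟨hO.orth r (by simp [hr]), hO.tail.orth r (by simp [hr]), hO.tail.tail.orth r (by simp [hr])⟩
    have q1 : b - r1 ∈ Φ := rt.sub_mem hb hr1 b1
    have q2 : b - r1 - r2 ∈ Φ := rt.sub_mem q1 hr2 (by rw [rt.sub_left, b2, o12]; norm_num)
    have q3 : b - r1 - r2 - r3 ∈ Φ := rt.sub_mem q2 hr3 (by rw [rt.sub_left, rt.sub_left, b3, o13, o23]; norm_num)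
    have q4 : B (b - r1 - r2 - r3) b = -1 := by
      rw [rt.sub_left, rt.sub_left, rt.sub_left, hbb, rt.symm r1, rt.symm r2, rt.symm r3, b1, b2, b3]; norm_num
    have q5 := rt.neg_mem _ (rt.add _ q3 b hb q4)
    have h1 := hbc _ ⟨q5, fun r hr => by
      rw [rt.neg_left, rt.add_left, rt.sub_left, rt.sub_left, rt.sub_left]
      rcases (hmemF r).mp hr with h2 | h2
      · simp only [List.mem_cons, List.not_mem_nil, or_false] at h2
        rcases h2 with rfl | rfl | rfl
        · rw [b1, h.self hr1, o21, o31]; norm_num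
        · rw [b2, h.self hr2, o12, o32]; norm_num
        · rw [b3, h.self hr3, o13, o23]; norm_num
      · obtain ⟨j1, j2, j3⟩ := hoJ r h2
        rw [hJ0 r h2, j1, j2, j3]; norm_num⟩
    rw [rt.neg_right, rt.add_right, rt.sub_right, rt.sub_right, rt.sub_right] at h1
    omega
  · -- four
    have hr1 : r1 ∈ Φ := hO.mem r1 (by simp)
    have hr2 : r2 ∈ Φ := hO.mem r2 (by simp)
    have hr3 : r3 ∈ Φ := hO.mem r3 (by simp)
    have hr4 : r4 ∈ Φ := hO.mem r4 (by simp)
    have b1 := hI1 r1 (by simp)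
    have b2 := hI1 r2 (by simp)
    have b3 := hI1 r3 (by simp)
    have b4 := hI1 r4 (by simp)
    have o12 : B r1 r2 = 0 := hO.orth r2 (by simp)
    have o13 : B r1 r3 = 0 := hO.orth r3 (by simp)
    have o14 : B r1 r4 = 0 := hO.orth r4 (by simp)
    have o23 : B r2 r3 = 0 := hO.tail.orth r3 (by simp)
    have o24 : B r2 r4 = 0 := hO.tail.orth r4 (by simp)
    have o34 : B r3 r4 = 0 := hO.tail.tail.orth r4 (by simp)
    have q1 : b - r1 ∈ Φ := rt.sub_mem hb hr1 b1
    have q2 : b - r1 - r2 ∈ Φ := rt.sub_mem q1 hr2 (by rw [rt.sub_left, b2, o12]; norm_num)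
    have q3 : b - r1 - r2 - r3 ∈ Φ := rt.sub_mem q2 hr3 (by rw [rt.sub_left, rt.sub_left, b3, o13, o23]; norm_num)
    have q4 : b - r1 - r2 - r3 - r4 ∈ Φ := rt.sub_mem q3 hr4 (by
      rw [rt.sub_left, rt.sub_left, rt.sub_left, b4, o14, o24, o34]; norm_num)
    have q5 : B (b - r1 - r2 - r3 - r4) b = -2 := by
      rw [rt.sub_left, rt.sub_left, rt.sub_left, rt.sub_left, hbb, rt.symm r1, rt.symm r2, rt.symm r3, rt.symm r4,
        b1, b2, b3, b4]; norm_num
    have q6 := rt.eq_neg q4 hb q5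
    refine ⟨r1, r2, r3, r4, I ++ J, hp, ?_, b1, b2, b3, b4⟩
    have q7 : b - r1 - r2 - r3 - r4 + b = 0 := by rw [q6]; abel
    calc b + b = (b - r1 - r2 - r3 - r4 + b) + (r1 + r2 + r3 + r4) := by abel
      _ = r1 + r2 + r3 + r4 := by rw [q7, zero_add]

end RE

end Cfsg.Agent.OddHalf.D4.En2
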