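import Mathlib
import Cfsg.Agent.OddHalf.D4.En2.Lib

/-!
# ODD, D4, `E_n(2)`: a product of four root elements for a `D_4`-frame is conjugate to a product of three
-/

set_option autoImplicit false
set_option linter.unusedSectionVars false
set_option linter.unusedSimpArgs false
set_option linter.unusedVariables false

namespace Cfsg.Agent.OddHalf.D4.En2

open Subgroup Cfsg.Agent.OddHalf.SL.Defs

/-- the word computation (`a i = x (r i)`, `b i = x (b - r i)`, `z = x b`) -/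
theorem word {Y : Type*} [Group Y] {z a1 a2 a3 a4 b1 b2 b3 b4 c1 c2 c3 c4 : Y}
    (s_z : z * z = 1)
    (s_a1 : a1 * a1 = 1)
    (s_a2 : a2 * a2 = 1)
    (s_a3 : a3 * a3 = 1)
    (s_a4 : a4 * a4 = 1)
    (s_b1 : b1 * b1 = 1)
    (s_b2 : b2 * b2 = 1)
    (s_b3 : b3 * b3 = 1)
    (s_b4 : b4 * b4 = 1)
    (k_za1 : a1 * z = z * a1)
    (k_za2 : a2 * z = z * a2)
    (k_za3 : a3 * z = z * a3)
    (k_za4 : a4 * z = z * a4)
    (k_zb1 : b1 * z = z * b1)
    (k_zb2 : b2 * z = z * b2)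
    (k_zb3 : b3 * z = z * b3)
    (k_zb4 : b4 * z = z * b4)
    (k_a1a2 : a2 * a1 = a1 * a2)
    (k_a1a3 : a3 * a1 = a1 * a3)
    (k_a1a4 : a4 * a1 = a1 * a4)
    (k_a1b1 : b1 * a1 = z * (a1 * b1))
    (k_a1b2 : b2 * a1 = a1 * b2)
    (k_a1b3 : b3 * a1 = a1 * b3)
    (k_a1b4 : b4 * a1 = a1 * b4)
    (k_a2a3 : a3 * a2 = a2 * a3)
    (k_a2a4 : a4 * a2 = a2 * a4)
    (k_a2b1 : b1 * a2 = a2 * b1)
    (k_a2b2 : b2 * a2 = z * (a2 * b2))
    (k_a2b3 : b3 * a2 = a2 * b3)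
    (k_a2b4 : b4 * a2 = a2 * b4)
    (k_a3a4 : a4 * a3 = a3 * a4)
    (k_a3b1 : b1 * a3 = a3 * b1)
    (k_a3b2 : b2 * a3 = a3 * b2)
    (k_a3b3 : b3 * a3 = z * (a3 * b3))
    (k_a3b4 : b4 * a3 = a3 * b4)
    (k_a4b1 : b1 * a4 = a4 * b1)
    (k_a4b2 : b2 * a4 = a4 * b2)
    (k_a4b3 : b3 * a4 = a4 * b3)
    (k_a4b4 : b4 * a4 = z * (a4 * b4))
    (k_b1b2 : b2 * b1 = b1 * b2)
    (k_b1b3 : b3 * b1 = b1 * b3)
    (k_b1b4 : b4 * b1 = b1 * b4)
    (k_b2b3 : b3 * b2 = b2 * b3)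
    (k_b2b4 : b4 * b2 = b2 * b4)
    (k_b3b4 : b4 * b3 = b3 * b4)
    (c1_a1 : c1 * a1 * c1⁻¹ = a1)
    (c1_a2 : c1 * a2 * c1⁻¹ = a2)
    (c1_a3 : c1 * a3 * c1⁻¹ = a3 * b4)
    (c1_a4 : c1 * a4 * c1⁻¹ = a4 * b3)
    (c2_z : c2 * z * c2⁻¹ = z)
    (c2_a1 : c2 * a1 * c2⁻¹ = a1 * b3)
    (c2_a2 : c2 * a2 * c2⁻¹ = a2)
    (c2_a3 : c2 * a3 * c2⁻¹ = a3 * b1)
    (c2_b4 : c2 * b4 * c2⁻¹ = b4 * a2)
    (c2_a4 : c2 * a4 * c2⁻¹ = a4)
    (c2_b3 : c2 * b3 * c2⁻¹ = b3)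
    (c3_a1 : c3 * a1 * c3⁻¹ = a1)
    (c3_a3 : c3 * a3 * c3⁻¹ = a3 * b2)
    (c3_b1 : c3 * b1 * c3⁻¹ = b1 * a4)
    (c3_b4 : c3 * b4 * c3⁻¹ = b4 * a1)
    (c3_a4 : c3 * a4 * c3⁻¹ = a4)
    (c4_z : c4 * z * c4⁻¹ = z)
    (c4_a3 : c4 * a3 * c4⁻¹ = a3)
    (c4_b2 : c4 * b2 * c4⁻¹ = b2)
    (c4_b1 : c4 * b1 * c4⁻¹ = b1)
    (c4_b4 : c4 * b4 * c4⁻¹ = b4 * a3)
    : (a4 * (c4 * (c3 * (c2 * c1)))) * (a1 * (a2 * (a3 * a4))) * (a4 * (c4 * (c3 * (c2 * c1))))⁻¹ = b1 * (b2 * b4) := by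
  have s_z' : ∀ t, z * (z * t) = t := fun t => by rw [← mul_assoc, s_z, one_mul]
  have s_a1' : ∀ t, a1 * (a1 * t) = t := fun t => by rw [← mul_assoc, s_a1, one_mul]
  have s_a2' : ∀ t, a2 * (a2 * t) = t := fun t => by rw [← mul_assoc, s_a2, one_mul]
  have s_a3' : ∀ t, a3 * (a3 * t) = t := fun t => by rw [← mul_assoc, s_a3, one_mul]
  have s_a4' : ∀ t, a4 * (a4 * t) = t := fun t => by rw [← mul_assoc, s_a4, one_mul]
  have s_b1' : ∀ t, b1 * (b1 * t) = t := fun t => by rw [← mul_assoc, s_b1, one_mul]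
  have s_b2' : ∀ t, b2 * (b2 * t) = t := fun t => by rw [← mul_assoc, s_b2, one_mul]
  have s_b3' : ∀ t, b3 * (b3 * t) = t := fun t => by rw [← mul_assoc, s_b3, one_mul]
  have s_b4' : ∀ t, b4 * (b4 * t) = t := fun t => by rw [← mul_assoc, s_b4, one_mul]
  have k_za1' : ∀ t, a1 * (z * t) = z * (a1 * t) := fun t => by rw [← mul_assoc, k_za1, mul_assoc]
  have k_za2' : ∀ t, a2 * (z * t) = z * (a2 * t) := fun t => by rw [← mul_assoc, k_za2, mul_assoc]
  have k_za3' : ∀ t, a3 * (z * t) = z * (a3 * t) := fun t => by rw [← mul_assoc, k_za3, mul_assoc]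
  have k_za4' : ∀ t, a4 * (z * t) = z * (a4 * t) := fun t => by rw [← mul_assoc, k_za4, mul_assoc]
  have k_zb1' : ∀ t, b1 * (z * t) = z * (b1 * t) := fun t => by rw [← mul_assoc, k_zb1, mul_assoc]
  have k_zb2' : ∀ t, b2 * (z * t) = z * (b2 * t) := fun t => by rw [← mul_assoc, k_zb2, mul_assoc]
  have k_zb3' : ∀ t, b3 * (z * t) = z * (b3 * t) := fun t => by rw [← mul_assoc, k_zb3, mul_assoc]
  have k_zb4' : ∀ t, b4 * (z * t) = z * (b4 * t) := fun t => by rw [← mul_assoc, k_zb4, mul_assoc]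
  have k_a1a2' : ∀ t, a2 * (a1 * t) = a1 * (a2 * t) := fun t => by rw [← mul_assoc, k_a1a2, mul_assoc]
  have k_a1a3' : ∀ t, a3 * (a1 * t) = a1 * (a3 * t) := fun t => by rw [← mul_assoc, k_a1a3, mul_assoc]
  have k_a1a4' : ∀ t, a4 * (a1 * t) = a1 * (a4 * t) := fun t => by rw [← mul_assoc, k_a1a4, mul_assoc]
  have k_a1b1' : ∀ t, b1 * (a1 * t) = z * (a1 * (b1 * t)) := fun t => by rw [← mul_assoc, k_a1b1]; simp only [mul_assoc]
  have k_a1b2' : ∀ t, b2 * (a1 * t) = a1 * (b2 * t) := fun t => by rw [← mul_assoc, k_a1b2, mul_assoc]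
  have k_a1b3' : ∀ t, b3 * (a1 * t) = a1 * (b3 * t) := fun t => by rw [← mul_assoc, k_a1b3, mul_assoc]
  have k_a1b4' : ∀ t, b4 * (a1 * t) = a1 * (b4 * t) := fun t => by rw [← mul_assoc, k_a1b4, mul_assoc]
  have k_a2a3' : ∀ t, a3 * (a2 * t) = a2 * (a3 * t) := fun t => by rw [← mul_assoc, k_a2a3, mul_assoc]
  have k_a2a4' : ∀ t, a4 * (a2 * t) = a2 * (a4 * t) := fun t => by rw [← mul_assoc, k_a2a4, mul_assoc]
  have k_a2b1' : ∀ t, b1 * (a2 * t) = a2 * (b1 * t) := fun t => by rw [← mul_assoc, k_a2b1, mul_assoc]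
  have k_a2b2' : ∀ t, b2 * (a2 * t) = z * (a2 * (b2 * t)) := fun t => by rw [← mul_assoc, k_a2b2]; simp only [mul_assoc]
  have k_a2b3' : ∀ t, b3 * (a2 * t) = a2 * (b3 * t) := fun t => by rw [← mul_assoc, k_a2b3, mul_assoc]
  have k_a2b4' : ∀ t, b4 * (a2 * t) = a2 * (b4 * t) := fun t => by rw [← mul_assoc, k_a2b4, mul_assoc]
  have k_a3a4' : ∀ t, a4 * (a3 * t) = a3 * (a4 * t) := fun t => by rw [← mul_assoc, k_a3a4, mul_assoc]
  have k_a3b1' : ∀ t, b1 * (a3 * t) = a3 * (b1 * t) := fun t => by rw [← mul_assoc, k_a3b1, mul_assoc]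
  have k_a3b2' : ∀ t, b2 * (a3 * t) = a3 * (b2 * t) := fun t => by rw [← mul_assoc, k_a3b2, mul_assoc]
  have k_a3b3' : ∀ t, b3 * (a3 * t) = z * (a3 * (b3 * t)) := fun t => by rw [← mul_assoc, k_a3b3]; simp only [mul_assoc]
  have k_a3b4' : ∀ t, b4 * (a3 * t) = a3 * (b4 * t) := fun t => by rw [← mul_assoc, k_a3b4, mul_assoc]
  have k_a4b1' : ∀ t, b1 * (a4 * t) = a4 * (b1 * t) := fun t => by rw [← mul_assoc, k_a4b1, mul_assoc]
  have k_a4b2' : ∀ t, b2 * (a4 * t) = a4 * (b2 * t) := fun t => by rw [← mul_assoc, k_a4b2, mul_assoc]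
  have k_a4b3' : ∀ t, b3 * (a4 * t) = a4 * (b3 * t) := fun t => by rw [← mul_assoc, k_a4b3, mul_assoc]
  have k_a4b4' : ∀ t, b4 * (a4 * t) = z * (a4 * (b4 * t)) := fun t => by rw [← mul_assoc, k_a4b4]; simp only [mul_assoc]
  have k_b1b2' : ∀ t, b2 * (b1 * t) = b1 * (b2 * t) := fun t => by rw [← mul_assoc, k_b1b2, mul_assoc]
  have k_b1b3' : ∀ t, b3 * (b1 * t) = b1 * (b3 * t) := fun t => by rw [← mul_assoc, k_b1b3, mul_assoc]
  have k_b1b4' : ∀ t, b4 * (b1 * t) = b1 * (b4 * t) := fun t => by rw [← mul_assoc, k_b1b4, mul_assoc]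
  have k_b2b3' : ∀ t, b3 * (b2 * t) = b2 * (b3 * t) := fun t => by rw [← mul_assoc, k_b2b3, mul_assoc]
  have k_b2b4' : ∀ t, b4 * (b2 * t) = b2 * (b4 * t) := fun t => by rw [← mul_assoc, k_b2b4, mul_assoc]
  have k_b3b4' : ∀ t, b4 * (b3 * t) = b3 * (b4 * t) := fun t => by rw [← mul_assoc, k_b3b4, mul_assoc]
  have c1_a1' : MulAut.conj c1 a1 = a1 := c1_a1
  have c1_a2' : MulAut.conj c1 a2 = a2 := c1_a2
  have c1_a3' : MulAut.conj c1 a3 = a3 * b4 := c1_a3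
  have c1_a4' : MulAut.conj c1 a4 = a4 * b3 := c1_a4
  have c2_z' : MulAut.conj c2 z = z := c2_z
  have c2_a1' : MulAut.conj c2 a1 = a1 * b3 := c2_a1
  have c2_a2' : MulAut.conj c2 a2 = a2 := c2_a2
  have c2_a3' : MulAut.conj c2 a3 = a3 * b1 := c2_a3
  have c2_b4' : MulAut.conj c2 b4 = b4 * a2 := c2_b4
  have c2_a4' : MulAut.conj c2 a4 = a4 := c2_a4
  have c2_b3' : MulAut.conj c2 b3 = b3 := c2_b3
  have c3_a1' : MulAut.conj c3 a1 = a1 := c3_a1
  have c3_a3' : MulAut.conj c3 a3 = a3 * b2 := c3_a3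
  have c3_b1' : MulAut.conj c3 b1 = b1 * a4 := c3_b1
  have c3_b4' : MulAut.conj c3 b4 = b4 * a1 := c3_b4
  have c3_a4' : MulAut.conj c3 a4 = a4 := c3_a4
  have c4_z' : MulAut.conj c4 z = z := c4_z
  have c4_a3' : MulAut.conj c4 a3 = a3 := c4_a3
  have c4_b2' : MulAut.conj c4 b2 = b2 := c4_b2
  have c4_b1' : MulAut.conj c4 b1 = b1 := c4_b1
  have c4_b4' : MulAut.conj c4 b4 = b4 * a3 := c4_b4
  have P1 : MulAut.conj c1 (a1 * (a2 * (a3 * a4))) = z * (a1 * (a2 * (a3 * (a4 * (b3 * b4))))) := by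
    simp only [map_mul, c1_a1', c1_a2', c1_a3', c1_a4']
    simp only [mul_assoc, mul_one, s_z, s_a1, s_a2, s_a3, s_a4, s_b1, s_b2, s_b3, s_b4, s_z', s_a1', s_a2', s_a3', s_a4', s_b1', s_b2', s_b3',
      s_b4', k_za1, k_za2, k_za3, k_za4, k_zb1, k_zb2, k_zb3, k_zb4, k_a1a2, k_a1a3, k_a1a4, k_a1b1, k_a1b2,
      k_a1b3, k_a1b4, k_a2a3, k_a2a4, k_a2b1, k_a2b2, k_a2b3, k_a2b4, k_a3a4, k_a3b1, k_a3b2, k_a3b3, k_a3b4,
      k_a4b1, k_a4b2, k_a4b3, k_a4b4, k_b1b2, k_b1b3, k_b1b4, k_b2b3, k_b2b4, k_b3b4, k_za1', k_za2', k_za3',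
      k_za4', k_zb1', k_zb2', k_zb3', k_zb4', k_a1a2', k_a1a3', k_a1a4', k_a1b1', k_a1b2', k_a1b3', k_a1b4',
      k_a2a3', k_a2a4', k_a2b1', k_a2b2', k_a2b3', k_a2b4', k_a3a4', k_a3b1', k_a3b2', k_a3b3', k_a3b4',
      k_a4b1', k_a4b2', k_a4b3', k_a4b4', k_b1b2', k_b1b3', k_b1b4', k_b2b3', k_b2b4', k_b3b4']
  have P2 : MulAut.conj c2 (z * (a1 * (a2 * (a3 * (a4 * (b3 * b4)))))) = a1 * (a3 * (a4 * (b1 * b4))) := by
    simp only [map_mul, c2_z', c2_a1', c2_a2', c2_a3', c2_b4', c2_a4', c2_b3']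
    simp only [mul_assoc, mul_one, s_z, s_a1, s_a2, s_a3, s_a4, s_b1, s_b2, s_b3, s_b4, s_z', s_a1', s_a2', s_a3', s_a4', s_b1', s_b2', s_b3',
      s_b4', k_za1, k_za2, k_za3, k_za4, k_zb1, k_zb2, k_zb3, k_zb4, k_a1a2, k_a1a3, k_a1a4, k_a1b1, k_a1b2,
      k_a1b3, k_a1b4, k_a2a3, k_a2a4, k_a2b1, k_a2b2, k_a2b3, k_a2b4, k_a3a4, k_a3b1, k_a3b2, k_a3b3, k_a3b4,
      k_a4b1, k_a4b2, k_a4b3, k_a4b4, k_b1b2, k_b1b3, k_b1b4, k_b2b3, k_b2b4, k_b3b4, k_za1', k_za2', k_za3',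
      k_za4', k_zb1', k_zb2', k_zb3', k_zb4', k_a1a2', k_a1a3', k_a1a4', k_a1b1', k_a1b2', k_a1b3', k_a1b4',
      k_a2a3', k_a2a4', k_a2b1', k_a2b2', k_a2b3', k_a2b4', k_a3a4', k_a3b1', k_a3b2', k_a3b3', k_a3b4',
      k_a4b1', k_a4b2', k_a4b3', k_a4b4', k_b1b2', k_b1b3', k_b1b4', k_b2b3', k_b2b4', k_b3b4']
  have P3 : MulAut.conj c3 (a1 * (a3 * (a4 * (b1 * b4)))) = z * (a3 * (b1 * (b2 * b4))) := by
    simp only [map_mul, c3_a1', c3_a3', c3_b1', c3_b4', c3_a4']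
    simp only [mul_assoc, mul_one, s_z, s_a1, s_a2, s_a3, s_a4, s_b1, s_b2, s_b3, s_b4, s_z', s_a1', s_a2', s_a3', s_a4', s_b1', s_b2', s_b3',
      s_b4', k_za1, k_za2, k_za3, k_za4, k_zb1, k_zb2, k_zb3, k_zb4, k_a1a2, k_a1a3, k_a1a4, k_a1b1, k_a1b2,
      k_a1b3, k_a1b4, k_a2a3, k_a2a4, k_a2b1, k_a2b2, k_a2b3, k_a2b4, k_a3a4, k_a3b1, k_a3b2, k_a3b3, k_a3b4,
      k_a4b1, k_a4b2, k_a4b3, k_a4b4, k_b1b2, k_b1b3, k_b1b4, k_b2b3, k_b2b4, k_b3b4, k_za1', k_za2', k_za3',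
      k_za4', k_zb1', k_zb2', k_zb3', k_zb4', k_a1a2', k_a1a3', k_a1a4', k_a1b1', k_a1b2', k_a1b3', k_a1b4',
      k_a2a3', k_a2a4', k_a2b1', k_a2b2', k_a2b3', k_a2b4', k_a3a4', k_a3b1', k_a3b2', k_a3b3', k_a3b4',
      k_a4b1', k_a4b2', k_a4b3', k_a4b4', k_b1b2', k_b1b3', k_b1b4', k_b2b3', k_b2b4', k_b3b4']
  have P4 : MulAut.conj c4 (z * (a3 * (b1 * (b2 * b4)))) = z * (b1 * (b2 * b4)) := by
    simp only [map_mul, c4_z', c4_a3', c4_b2', c4_b1', c4_b4']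
    simp only [mul_assoc, mul_one, s_z, s_a1, s_a2, s_a3, s_a4, s_b1, s_b2, s_b3, s_b4, s_z', s_a1', s_a2', s_a3', s_a4', s_b1', s_b2', s_b3',
      s_b4', k_za1, k_za2, k_za3, k_za4, k_zb1, k_zb2, k_zb3, k_zb4, k_a1a2, k_a1a3, k_a1a4, k_a1b1, k_a1b2,
      k_a1b3, k_a1b4, k_a2a3, k_a2a4, k_a2b1, k_a2b2, k_a2b3, k_a2b4, k_a3a4, k_a3b1, k_a3b2, k_a3b3, k_a3b4,
      k_a4b1, k_a4b2, k_a4b3, k_a4b4, k_b1b2, k_b1b3, k_b1b4, k_b2b3, k_b2b4, k_b3b4, k_za1', k_za2', k_za3',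
      k_za4', k_zb1', k_zb2', k_zb3', k_zb4', k_a1a2', k_a1a3', k_a1a4', k_a1b1', k_a1b2', k_a1b3', k_a1b4',
      k_a2a3', k_a2a4', k_a2b1', k_a2b2', k_a2b3', k_a2b4', k_a3a4', k_a3b1', k_a3b2', k_a3b3', k_a3b4',
      k_a4b1', k_a4b2', k_a4b3', k_a4b4', k_b1b2', k_b1b3', k_b1b4', k_b2b3', k_b2b4', k_b3b4']
  have P5 : MulAut.conj a4 (z * (b1 * (b2 * b4))) = b1 * (b2 * b4) := by
    have e : a4⁻¹ = a4 := inv_eq_of_mul_eq_one_left s_a4
    rw [MulAut.conj_apply, e]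
    simp only [mul_assoc, mul_one, s_z, s_a1, s_a2, s_a3, s_a4, s_b1, s_b2, s_b3, s_b4, s_z', s_a1', s_a2', s_a3', s_a4', s_b1', s_b2', s_b3',
      s_b4', k_za1, k_za2, k_za3, k_za4, k_zb1, k_zb2, k_zb3, k_zb4, k_a1a2, k_a1a3, k_a1a4, k_a1b1, k_a1b2,
      k_a1b3, k_a1b4, k_a2a3, k_a2a4, k_a2b1, k_a2b2, k_a2b3, k_a2b4, k_a3a4, k_a3b1, k_a3b2, k_a3b3, k_a3b4,
      k_a4b1, k_a4b2, k_a4b3, k_a4b4, k_b1b2, k_b1b3, k_b1b4, k_b2b3, k_b2b4, k_b3b4, k_za1', k_za2', k_za3',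
      k_za4', k_zb1', k_zb2', k_zb3', k_zb4', k_a1a2', k_a1a3', k_a1a4', k_a1b1', k_a1b2', k_a1b3', k_a1b4',
      k_a2a3', k_a2a4', k_a2b1', k_a2b2', k_a2b3', k_a2b4', k_a3a4', k_a3b1', k_a3b2', k_a3b3', k_a3b4',
      k_a4b1', k_a4b2', k_a4b3', k_a4b4', k_b1b2', k_b1b3', k_b1b4', k_b2b3', k_b2b4', k_b3b4']
  have e1 : (a4 * (c4 * (c3 * (c2 * c1)))) * (a1 * (a2 * (a3 * a4))) * (a4 * (c4 * (c3 * (c2 * c1))))⁻¹ =
      MulAut.conj a4 (MulAut.conj c4 (MulAut.conj c3 (MulAut.conj c2 (MulAut.conj c1 (a1 * (a2 * (a3 * a4))))))) := by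
    simp only [MulAut.conj_apply]
    group
  rw [e1, P1, P2, P3, P4, P5]

variable {L Y : Type*} [AddCommGroup L] [Group Y]
variable {B : L → L → ℤ} {Φ : Set L} {x : L → Y} {ht : L →+ ℤ}

namespace RE

variable (h : RE B Φ x ht)
include h

theorem conj_neg' {a b c : L} (ha : a ∈ Φ) (hb : b ∈ Φ) (hab : B a b = -1) (hc : a + b = c) :
    x a * x b * (x a)⁻¹ = x b * x c := by rw [← hc]; exact h.conj_neg ha hb hab

theorem swap {r b : L} (hr : r ∈ Φ) (hb : b ∈ Φ) (hbr : B b r = 1) :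
    x (b - r) * x r = x b * (x r * x (b - r)) := by
  have hq := h.rt.sub_mem hb hr hbr
  have h1 : B r (b - r) = -1 := by rw [h.rt.sub_right, h.rt.symm, hbr, h.self hr]; norm_num
  have h2 := h.add r hr (b - r) hq h1
  have e : r + (b - r) = b := by abel
  rw [e] at h2
  have h3 : x (b - r) * x b = x b * x (b - r) :=
    h.comm _ hq b hb (by rw [h.rt.sub_left, h.self hb, h.rt.symm, hbr]; norm_num)
  have h4 := h.sq r hr
  calc x (b - r) * x r = (x (b - r) * x b) * (x b * x r) := by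
        rw [mul_assoc, h.cancel hb]
    _ = (x r * x (b - r) * x r) * (x b * x r) := by rw [h2]
    _ = x r * x (b - r) * x r * (x r * x b) := by rw [h.comm b hb r hr (by omega)]
    _ = x r * x (b - r) * x b := by
        calc x r * x (b - r) * x r * (x r * x b) = x r * x (b - r) * (x r * x r) * x b := by group
          _ = _ := by rw [h4, mul_one]
    _ = x r * (x (b - r) * x b) := by group
    _ = x r * (x b * x (b - r)) := by rw [h3]
    _ = (x r * x b) * x (b - r) := by group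
    _ = _ := by rw [← h.comm b hb r hr (by omega), mul_assoc]

/-- **A `D_4`-frame: four become three.** -/
theorem frame {r1 r2 r3 r4 b : L} (hO : Ort B Φ [r1, r2, r3, r4]) (hb : b ∈ Φ) (b1 : B b r1 = 1) (b2 : B b r2 = 1)
    (b3 : B b r3 = 1) (b4 : B b r4 = 1) (hs : b + b = r1 + r2 + r3 + r4) :
    ∃ g : Y, g * (x r1 * (x r2 * (x r3 * x r4))) * g⁻¹ = x (b - r1) * (x (b - r2) * x (b - r4)) ∧
      (∀ t ∈ Φ, B r1 t = 0 → B r2 t = 0 → B r3 t = 0 → B r4 t = 0 → g * x t = x t * g) ∧ g * x b = x b * g := by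
  have rt := h.rt
  have hr1 : r1 ∈ Φ := hO.mem r1 (by simp)
  have hr2 : r2 ∈ Φ := hO.mem r2 (by simp)
  have hr3 : r3 ∈ Φ := hO.mem r3 (by simp)
  have hr4 : r4 ∈ Φ := hO.mem r4 (by simp)
  have o12 : B r1 r2 = 0 := hO.orth r2 (by simp)
  have o13 : B r1 r3 = 0 := hO.orth r3 (by simp)
  have o14 : B r1 r4 = 0 := hO.orth r4 (by simp)
  have o23 : B r2 r3 = 0 := hO.tail.orth r3 (by simp)
  have o24 : B r2 r4 = 0 := hO.tail.orth r4 (by simp)
  have o34 : B r3 r4 = 0 := hO.tail.tail.orth r4 (by simp)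
  have o21 : B r2 r1 = 0 := by rw [rt.symm]; exact o12
  have o31 : B r3 r1 = 0 := by rw [rt.symm]; exact o13
  have o41 : B r4 r1 = 0 := by rw [rt.symm]; exact o14
  have o32 : B r3 r2 = 0 := by rw [rt.symm]; exact o23
  have o42 : B r4 r2 = 0 := by rw [rt.symm]; exact o24
  have o43 : B r4 r3 = 0 := by rw [rt.symm]; exact o34
  have b1' : B r1 b = 1 := by rw [rt.symm]; exact b1
  have b2' : B r2 b = 1 := by rw [rt.symm]; exact b2
  have b3' : B r3 b = 1 := by rw [rt.symm]; exact b3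
  have b4' : B r4 b = 1 := by rw [rt.symm]; exact b4
  have s1 := h.self hr1
  have s2 := h.self hr2
  have s3 := h.self hr3
  have s4 := h.self hr4
  have sb := h.self hb
  have q1 : b - r1 ∈ Φ := rt.sub_mem hb hr1 b1
  have q2 : b - r2 ∈ Φ := rt.sub_mem hb hr2 b2
  have q3 : b - r3 ∈ Φ := rt.sub_mem hb hr3 b3
  have q4 : b - r4 ∈ Φ := rt.sub_mem hb hr4 b4
  have t4 : b - r1 - r2 ∈ Φ := rt.sub_mem q1 hr2 (by rw [rt.sub_left]; omega)
  have t1 : r1 + r2 - b ∈ Φ := by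
    have := rt.neg_mem _ t4
    have e : -(b - r1 - r2) = r1 + r2 - b := by abel
    rwa [e] at this
  have t2 : r2 + r4 - b ∈ Φ := by
    have := rt.neg_mem _ (rt.sub_mem q2 hr4 (by rw [rt.sub_left]; omega))
    have e : -(b - r2 - r4) = r2 + r4 - b := by abel
    rwa [e] at this
  have t3 : r1 + r4 - b ∈ Φ := by
    have := rt.neg_mem _ (rt.sub_mem q1 hr4 (by rw [rt.sub_left]; omega))
    have e : -(b - r1 - r4) = r1 + r4 - b := by abel
    rwa [e] at this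
  have hs' : r1 + r2 + r3 + r4 = b + b := hs.symm
  -- sums
  have m13 : r1 + r2 - b + r3 = b - r4 := by
    have : r1 + r2 - b + r3 = (r1 + r2 + r3 + r4) - b - r4 := by abel
    rw [this, hs']; abel
  have m14 : r1 + r2 - b + r4 = b - r3 := by
    have : r1 + r2 - b + r4 = (r1 + r2 + r3 + r4) - b - r3 := by abel
    rw [this, hs']; abel
  have m21 : r2 + r4 - b + r1 = b - r3 := by
    have : r2 + r4 - b + r1 = (r1 + r2 + r3 + r4) - b - r3 := by abel
    rw [this, hs']; abel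
  have m23 : r2 + r4 - b + r3 = b - r1 := by
    have : r2 + r4 - b + r3 = (r1 + r2 + r3 + r4) - b - r1 := by abel
    rw [this, hs']; abel
  have m24 : r2 + r4 - b + (b - r4) = r2 := by abel
  have m33 : r1 + r4 - b + r3 = b - r2 := by
    have : r1 + r4 - b + r3 = (r1 + r2 + r3 + r4) - b - r2 := by abel
    rw [this, hs']; abel
  have m31 : r1 + r4 - b + (b - r1) = r4 := by abel
  have m34 : r1 + r4 - b + (b - r4) = r1 := by abel
  have m44 : b - r1 - r2 + (b - r4) = r3 := by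
    have : b - r1 - r2 + (b - r4) = (b + b) - r1 - r2 - r4 := by abel
    rw [this, ← hs']; abel
  refine ⟨x r4 * (x (b - r1 - r2) * (x (r1 + r4 - b) * (x (r2 + r4 - b) * x (r1 + r2 - b)))), ?_, ?_, ?_⟩
  · apply word (z := x b) (b3 := x (b - r3))
    · exact h.sq _ hb
    · exact h.sq _ hr1
    · exact h.sq _ hr2
    · exact h.sq _ hr3
    · exact h.sq _ hr4
    · exact h.sq _ q1
    · exact h.sq _ q2
    · exact h.sq _ q3
    · exact h.sq _ q4
    · exact h.comm _ hr1 _ hb (by (try simp only [rt.sub_left, rt.sub_right]); omega)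
    · exact h.comm _ hr2 _ hb (by (try simp only [rt.sub_left, rt.sub_right]); omega)
    · exact h.comm _ hr3 _ hb (by (try simp only [rt.sub_left, rt.sub_right]); omega)
    · exact h.comm _ hr4 _ hb (by (try simp only [rt.sub_left, rt.sub_right]); omega)
    · exact h.comm _ q1 _ hb (by (try simp only [rt.sub_left, rt.sub_right]); omega)
    · exact h.comm _ q2 _ hb (by (try simp only [rt.sub_left, rt.sub_right]); omega)
    · exact h.comm _ q3 _ hb (by (try simp only [rt.sub_left, rt.sub_right]); omega)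
    · exact h.comm _ q4 _ hb (by (try simp only [rt.sub_left, rt.sub_right]); omega)
    · exact h.comm _ hr2 _ hr1 (by (try simp only [rt.sub_left, rt.sub_right]); omega)
    · exact h.comm _ hr3 _ hr1 (by (try simp only [rt.sub_left, rt.sub_right]); omega)
    · exact h.comm _ hr4 _ hr1 (by (try simp only [rt.sub_left, rt.sub_right]); omega)
    · exact h.swap hr1 hb b1
    · exact h.comm _ q2 _ hr1 (by (try simp only [rt.sub_left, rt.sub_right]); omega)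
    · exact h.comm _ q3 _ hr1 (by (try simp only [rt.sub_left, rt.sub_right]); omega)
    · exact h.comm _ q4 _ hr1 (by (try simp only [rt.sub_left, rt.sub_right]); omega)
    · exact h.comm _ hr3 _ hr2 (by (try simp only [rt.sub_left, rt.sub_right]); omega)
    · exact h.comm _ hr4 _ hr2 (by (try simp only [rt.sub_left, rt.sub_right]); omega)
    · exact h.comm _ q1 _ hr2 (by (try simp only [rt.sub_left, rt.sub_right]); omega)
    · exact h.swap hr2 hb b2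
    · exact h.comm _ q3 _ hr2 (by (try simp only [rt.sub_left, rt.sub_right]); omega)
    · exact h.comm _ q4 _ hr2 (by (try simp only [rt.sub_left, rt.sub_right]); omega)
    · exact h.comm _ hr4 _ hr3 (by (try simp only [rt.sub_left, rt.sub_right]); omega)
    · exact h.comm _ q1 _ hr3 (by (try simp only [rt.sub_left, rt.sub_right]); omega)
    · exact h.comm _ q2 _ hr3 (by (try simp only [rt.sub_left, rt.sub_right]); omega)
    · exact h.swap hr3 hb b3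
    · exact h.comm _ q4 _ hr3 (by (try simp only [rt.sub_left, rt.sub_right]); omega)
    · exact h.comm _ q1 _ hr4 (by (try simp only [rt.sub_left, rt.sub_right]); omega)
    · exact h.comm _ q2 _ hr4 (by (try simp only [rt.sub_left, rt.sub_right]); omega)
    · exact h.comm _ q3 _ hr4 (by (try simp only [rt.sub_left, rt.sub_right]); omega)
    · exact h.swap hr4 hb b4
    · exact h.comm _ q2 _ q1 (by (try simp only [rt.sub_left, rt.sub_right]); omega)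
    · exact h.comm _ q3 _ q1 (by (try simp only [rt.sub_left, rt.sub_right]); omega)
    · exact h.comm _ q4 _ q1 (by (try simp only [rt.sub_left, rt.sub_right]); omega)
    · exact h.comm _ q3 _ q2 (by (try simp only [rt.sub_left, rt.sub_right]); omega)
    · exact h.comm _ q4 _ q2 (by (try simp only [rt.sub_left, rt.sub_right]); omega)
    · exact h.comm _ q4 _ q3 (by (try simp only [rt.sub_left, rt.sub_right]); omega)
    · exact h.conj_pos t1 hr1 (by (try simp only [rt.sub_left, rt.sub_right, rt.add_left]); omega)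
    · exact h.conj_pos t1 hr2 (by (try simp only [rt.sub_left, rt.sub_right, rt.add_left]); omega)
    · exact h.conj_neg' t1 hr3 (by (try simp only [rt.sub_left, rt.sub_right, rt.add_left]); omega) m13
    · exact h.conj_neg' t1 hr4 (by (try simp only [rt.sub_left, rt.sub_right, rt.add_left]); omega) m14
    · exact h.conj_pos t2 hb (by (try simp only [rt.sub_left, rt.sub_right, rt.add_left]); omega)
    · exact h.conj_neg' t2 hr1 (by (try simp only [rt.sub_left, rt.sub_right, rt.add_left]); omega) m21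
    · exact h.conj_pos t2 hr2 (by (try simp only [rt.sub_left, rt.sub_right, rt.add_left]); omega)
    · exact h.conj_neg' t2 hr3 (by (try simp only [rt.sub_left, rt.sub_right, rt.add_left]); omega) m23
    · exact h.conj_neg' t2 q4 (by (try simp only [rt.sub_left, rt.sub_right, rt.add_left]); omega) m24
    · exact h.conj_pos t2 hr4 (by (try simp only [rt.sub_left, rt.sub_right, rt.add_left]); omega)
    · exact h.conj_pos t2 q3 (by (try simp only [rt.sub_left, rt.sub_right, rt.add_left]); omega)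
    · exact h.conj_pos t3 hr1 (by (try simp only [rt.sub_left, rt.sub_right, rt.add_left]); omega)
    · exact h.conj_neg' t3 hr3 (by (try simp only [rt.sub_left, rt.sub_right, rt.add_left]); omega) m33
    · exact h.conj_neg' t3 q1 (by (try simp only [rt.sub_left, rt.sub_right, rt.add_left]); omega) m31
    · exact h.conj_neg' t3 q4 (by (try simp only [rt.sub_left, rt.sub_right, rt.add_left]); omega) m34
    · exact h.conj_pos t3 hr4 (by (try simp only [rt.sub_left, rt.sub_right, rt.add_left]); omega)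
    · exact h.conj_pos t4 hb (by (try simp only [rt.sub_left, rt.sub_right, rt.add_left]); omega)
    · exact h.conj_pos t4 hr3 (by (try simp only [rt.sub_left, rt.sub_right, rt.add_left]); omega)
    · exact h.conj_pos t4 q2 (by (try simp only [rt.sub_left, rt.sub_right, rt.add_left]); omega)
    · exact h.conj_pos t4 q1 (by (try simp only [rt.sub_left, rt.sub_right, rt.add_left]); omega)
    · exact h.conj_neg' t4 q4 (by (try simp only [rt.sub_left, rt.sub_right, rt.add_left]); omega) m44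
  · intro t ht' e1 e2 e3 e4
    have e5 : B b t = 0 := by
      have h1 : B (b + b) t = B (r1 + r2 + r3 + r4) t := by rw [hs]
      simp only [rt.add_left] at h1
      omega
    have g1 : Commute (x (r1 + r2 - b)) (x t) := h.comm _ t1 t ht' (by simp only [rt.sub_left, rt.add_left]; omega)
    have g2 : Commute (x (r2 + r4 - b)) (x t) := h.comm _ t2 t ht' (by simp only [rt.sub_left, rt.add_left]; omega)
    have g3 : Commute (x (r1 + r4 - b)) (x t) := h.comm _ t3 t ht' (by simp only [rt.sub_left, rt.add_left]; omega)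
    have g4 : Commute (x (b - r1 - r2)) (x t) := h.comm _ t4 t ht' (by simp only [rt.sub_left]; omega)
    have g5 : Commute (x r4) (x t) := h.comm _ hr4 t ht' (by omega)
    exact g5.mul_left (g4.mul_left (g3.mul_left (g2.mul_left g1)))
  · have g1 : Commute (x (r1 + r2 - b)) (x b) := h.comm _ t1 b hb (by simp only [rt.sub_left, rt.add_left]; omega)
    have g2 : Commute (x (r2 + r4 - b)) (x b) := h.comm _ t2 b hb (by simp only [rt.sub_left, rt.add_left]; omega)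
    have g3 : Commute (x (r1 + r4 - b)) (x b) := h.comm _ t3 b hb (by simp only [rt.sub_left, rt.add_left]; omega)
    have g4 : Commute (x (b - r1 - r2)) (x b) := h.comm _ t4 b hb (by simp only [rt.sub_left]; omega)
    have g5 : Commute (x r4) (x b) := h.comm _ hr4 b hb (by omega)
    exact g5.mul_left (g4.mul_left (g3.mul_left (g2.mul_left g1)))

end RE

end Cfsg.Agent.OddHalf.D4.En2
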