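import Mathlib
import Cfsg.Agent.OddHalf.D4.En2.Qa
import Cfsg.Agent.OddHalf.D4.En2.Inv
import Cfsg.Agent.OddHalf.D4.En2.Comb
import Cfsg.Agent.OddHalf.D4.En2.Quad
import Cfsg.Agent.OddHalf.D4.KP

/-!
# ODD, D4, `E_n(2)`: case (B): `N ∩ O_2(C(e)) = 1` for all root elements `e` centralised by `α`, `β`
(text: helper305 #11622 (B), (D), (E); the frames `r₁ + r₂ + r₃ + r₄ = 2 b` are excluded by minimality)
-/

set_option autoImplicit false
set_option linter.unusedSectionVars false

namespace Cfsg.Agent.OddHalf.D4.En2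

open Subgroup Cfsg.Agent.OddHalf.SL.Defs Cfsg.Agent.OddHalf.D4.Basic

variable {L Y : Type*} [AddCommGroup L] [Group Y]
variable {B : L → L → ℤ} {Φ : Set L} {x : L → Y} {ht : L →+ ℤ} {ρ : L} {Fl : (L →+ L) → Prop}

/-- a configuration with the two automorphisms exchanged -/
theorem conf_symm {α β : MulAut Y} {D N : Subgroup Y} (hc : Conf α β D N) : Conf β α D N := by
  have hs : ∀ γ : MulAut Y, (γ = β ∨ γ = α ∨ γ = β * α) → (γ = α ∨ γ = β ∨ γ = α * β) := by
    rintro γ (h | h | h)
    · right; left; exact h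
    · left; exact h
    · right; right; rw [h, hc.ab]
  exact ⟨hc.bb, hc.aa, hc.ab.symm, hc.b1, hc.a1, hc.ne.symm, hc.le, hc.norm, fun γ hγ => hc.cen γ (hs γ hγ),
    fun γ hγ => hc.comm γ (hs γ hγ), hc.cenN, fun γ hγ => hc.noCen γ (hs γ hγ), hc.noCenN⟩

/-- a configuration with `α` replaced by `α * β` -/
theorem conf_mul {α β : MulAut Y} {D N : Subgroup Y} (hc : Conf α β D N) : Conf (α * β) β D N := by
  have aa := hc.aa
  have bb := hc.bb
  have ab := hc.ab
  have e3 : α * β * α = β := by rw [ab, mul_assoc, aa, mul_one]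
  have e4 : α * β * β = α := by rw [mul_assoc, bb, mul_one]
  have hs : ∀ γ : MulAut Y, (γ = α * β ∨ γ = β ∨ γ = α * β * β) → (γ = α ∨ γ = β ∨ γ = α * β) := by
    rintro γ (h | h | h)
    · right; right; exact h
    · right; left; exact h
    · left; rw [h, e4]
  refine ⟨?_, hc.bb, ?_, ?_, hc.b1, ?_, hc.le, hc.norm, fun γ hγ => hc.cen γ (hs γ hγ),
    fun γ hγ => hc.comm γ (hs γ hγ), hc.cenN, fun γ hγ => hc.noCen γ (hs γ hγ), hc.noCenN⟩
  · rw [← mul_assoc, e3, bb]
  · rw [e4, ab, ← mul_assoc, bb, one_mul]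
  · intro h0
    apply hc.ne
    have h1 : α * (α * β) = α := by rw [h0, mul_one]
    rw [← mul_assoc, aa, one_mul] at h1
    exact h1.symm
  · intro h0
    apply hc.a1
    have h1 : α * β * β = β * β := by rw [h0]
    rw [e4, bb] at h1
    exact h1

/-- `N ∩ O_2(C(e)) = 1` for all root elements `e` centralised by `α`, `β` -/
def NoN (x : L → Y) (ρ : L) (α β : MulAut Y) (N : Subgroup Y) : Prop :=
  ∀ g : Y, α (g * x ρ * g⁻¹) = g * x ρ * g⁻¹ → β (g * x ρ * g⁻¹) = g * x ρ * g⁻¹ → ∀ n ∈ N,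
    n ∈ OO (g * x ρ * g⁻¹) → n = 1

theorem NoN.symm {α β : MulAut Y} {N : Subgroup Y} (hB : NoN x ρ α β N) : NoN x ρ β α N :=
  fun g h1 h2 => hB g h2 h1

theorem NoN.mv {α β : MulAut Y} {N : Subgroup Y} (hB : NoN x ρ α β N) (g0 : Y) :
    NoN (mv (MulAut.conj g0) x) ρ α β N := by
  intro g
  have e : g * En2.mv (MulAut.conj g0) x ρ * g⁻¹ = (g * g0) * x ρ * (g * g0)⁻¹ := by
    rw [mv_apply, MulAut.conj_apply]; group
  rw [e]
  exact hB (g * g0)

/-- elements of `XS x F`, `F` orthogonal -/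
theorem RE.exists_sublist (h : RE B Φ x ht) {F : List L} (hF : Ort B Φ F) {u : Y} (hu : u ∈ XS x {c | c ∈ F}) :
    ∃ I : List L, I.Sublist F ∧ u = pr x I := by
  induction F generalizing u with
  | nil =>
    refine ⟨[], List.Sublist.refl _, ?_⟩
    have e : {c : L | c ∈ ([] : List L)} = ∅ := by ext c; simp
    rw [e] at hu
    unfold XS at hu
    rw [Set.image_empty, Subgroup.closure_empty, mem_bot] at hu
    rw [hu]; simp
  | cons a F ih =>
    have e : {c : L | c ∈ a :: F} ⊆ insert a {c | c ∈ F} := by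
      intro c hc
      rcases List.mem_cons.mp hc with h1 | h1
      · left; exact h1
      · right; exact h1
    rcases h.mem_insert (T := {c | c ∈ F}) hF.head (fun v hv => by
      have : x a * v = v * x a := comm_XS (fun c hc => h.comm a hF.head c (hF.tail.mem c hc) (by
        rw [hF.orth c hc])) hv
      rw [this, mul_inv_cancel_right]; exact hv) (XS_mono e hu) with h1 | h1
    · obtain ⟨I, hI, rfl⟩ := ih hF.tail h1
      exact ⟨I, hI.cons a, rfl⟩
    · obtain ⟨I, hI, h2⟩ := ih hF.tail h1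
      refine ⟨a :: I, hI.cons_cons a, ?_⟩
      rw [pr_cons, ← h2, h.cancel hF.head]

section

variable [Finite Y]

theorem NoN.root (h : RE B Φ x ht) (ha : RA B Φ x ht ρ Fl) {α β : MulAut Y} {N : Subgroup Y} (hB : NoN x ρ α β N)
    {a : L} (haΦ : a ∈ Φ) (h1 : α (x a) = x a) (h2 : β (x a) = x a) {n : Y} (hn : n ∈ N) (hnQ : n ∈ Qs B Φ x a) :
    n = 1 := by
  obtain ⟨g, hg⟩ := h.exists_conj_root ha.ρmem haΦ
  apply hB g (by rw [hg]; exact h1) (by rw [hg]; exact h2) n hn
  rw [hg, RA.OO_eq h ha haΦ]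
  exact hnQ

/-- the step -/
theorem B_step (h : RE B Φ x ht) (ha : RA B Φ x ht ρ Fl) {α β : MulAut Y} {D N : Subgroup Y} (hc : Conf α β D N)
    (hB : NoN x ρ α β N) {a c : L} (haΦ : a ∈ Φ) (hcΦ : c ∈ Φ) (hac : B a c = 1) (h1 : α (x a) = x a)
    (h2 : β (x a) = x a) (h3 : α (x c) = x c) : β (x c) = x c := by
  have hcQ : x c ∈ Qs B Φ x a := mem_XS ⟨hcΦ, by rw [h.rt.symm]; omega⟩
  have hD : x c ∈ D := hc.cen α (Or.inl rfl) _ h3
  have hN := hc.comm β (Or.inr (Or.inl rfl)) _ hD
  have hQ : β (x c) ∈ Qs B Φ x a := by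
    rw [← RA.OO_eq h ha haΦ] at hcQ ⊢
    have := OO_map β (x a) hcQ
    rwa [h2] at this
  have := hB.root h ha haΦ h1 h2 hN (mul_mem hQ (inv_mem hcQ))
  exact mul_inv_eq_one.mp this

/-- `α = conj (∏ F)`: `β` centralises `x c` for all `c ∈ Cone F` -/
theorem B_cone (h : RE B Φ x ht) (ha : RA B Φ x ht ρ Fl) {α β : MulAut Y} {D N : Subgroup Y} (hc : Conf α β D N)
    (hB : NoN x ρ α β N) {F : List L} (hF : Ort B Φ F) (hα : α = MulAut.conj (pr x F)) {a0 : L}
    (ha0 : a0 ∈ Cone B Φ F) (h0 : β (x a0) = x a0) {c : L} (hcF : c ∈ Cone B Φ F) : β (x c) = x c := by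
  have hαc : ∀ c ∈ Cone B Φ F, α (x c) = x c := by
    intro c hc
    rw [hα, MulAut.conj_apply, ← h.comm_pr' hc.1 hF hc.2, mul_inv_cancel_right]
  have hne : F ≠ [] := by
    rintro rfl
    apply hc.a1
    rw [hα]; simp
  exact h.conn hF hne (P := fun a => β (x a) = x a) (fun a haF hPa c hcF hac =>
    B_step h ha hc hB haF.1 hcF.1 hac (hαc a haF) hPa (hαc c hcF)) ha0 h0 hcF

/-- **Case (B), both inner.** -/
theorem caseB_ind {D N : Subgroup Y} : ∀ (n : ℕ) (x : L → Y) (_ : RE B Φ x ht) (_ : RA B Φ x ht ρ Fl) (α β : MulAut Y)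
    (_ : Conf α β D N) (_ : NoN x ρ α β N) (F : List L) (_ : Ort B Φ F) (_ : F.length ≤ n)
    (_ : α = MulAut.conj (pr x F)) (b : Y) (_ : β = MulAut.conj b) (a0 : L) (_ : a0 ∈ Cone B Φ F)
    (_ : β (x a0) = x a0), False := by
  intro n
  induction n with
  | zero =>
    intro x h ha α β hc hB F hF hn hα b hβ a0 ha0 h0
    have : F = [] := List.length_eq_zero_iff.mp (by omega)
    apply hc.a1
    rw [hα, this]; simp
  | succ n ih =>
    intro x h ha α β hc hB F hF hn hα b hβ a0 ha0 h0
    have rt := h.rt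
    have hcone : ∀ c ∈ Cone B Φ F, β (x c) = x c := fun c hcF => B_cone h ha hc hB hF hα ha0 h0 hcF
    have hcone' : ∀ c ∈ Cone B Φ F, b * x c = x c * b := by
      intro c hcF
      have h1 := hcone c hcF
      rw [hβ, MulAut.conj_apply] at h1
      exact mul_inv_eq_iff_eq_mul.mp h1
    by_cases hsub : ∀ d ∈ Φ, (∀ c ∈ Cone B Φ F, 0 ≤ B d c) → d ∈ F
    · -- `b` is a subproduct
      have hfin : (Cone B Φ F).Finite := rt.fin.subset fun c hc => hc.1
      let Fs : List (L →+ ℤ) := hfin.toFinset.toList.map (fB rt)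
      have hb : b ∈ XS x {c | c ∈ F} := by
        apply h.inter_mem (F := Fs)
        · intro f hf
          simp only [Fs, List.mem_map, Finset.mem_toList, Set.Finite.mem_toFinset] at hf
          obtain ⟨c, hcF, rfl⟩ := hf
          exact h.cent c hcF.1 b (hcone' c hcF)
        · intro d hd hdF
          apply hsub d hd
          intro c hcF
          have := hdF (fB rt c) (by
            simp only [Fs, List.mem_map, Finset.mem_toList, Set.Finite.mem_toFinset]
            exact ⟨c, hcF, rfl⟩)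
          rwa [fB_apply] at this
      obtain ⟨I, hI, hbI⟩ := h.exists_sublist hF hb
      have hlt : I.length < F.length := by
        rcases Nat.lt_or_ge I.length F.length with h1 | h1
        · exact h1
        · exfalso
          have := hI.eq_of_length_le h1
          apply hc.ne
          rw [hα, hβ, hbI, this]
      refine ih x h ha β α (conf_symm hc) hB.symm I (hF.sublist hI) (by omega) (by rw [hβ, hbI]) (pr x F) hα a0
        ⟨ha0.1, fun r hr => ha0.2 r (hI.subset hr)⟩ ?_
      rw [hα, MulAut.conj_apply, ← h.comm_pr' ha0.1 hF ha0.2, mul_inv_cancel_right]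
    · push Not at hsub
      obtain ⟨d, hd, hdc, hdF⟩ := hsub
      rcases h.cone_cone hF hd hdc with h1 | ⟨r1, r2, r3, r4, F', hp, hs, b1, b2, b3, b4⟩
      · exact hdF h1
      have hO := hF.perm rt hp
      have hO4 : Ort B Φ [r1, r2, r3, r4] := hO.sublist (by
        have : [r1, r2, r3, r4].Sublist ([r1, r2, r3, r4] ++ F') := List.sublist_append_left _ _
        exact this)
      obtain ⟨g, hg, hgF, hgd⟩ := h.frame hO4 hd b1 b2 b3 b4 hs
      have hr1 : r1 ∈ Φ := hO.mem r1 (by simp)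
      have hr2 : r2 ∈ Φ := hO.mem r2 (by simp)
      have hr3 : r3 ∈ Φ := hO.mem r3 (by simp)
      have hr4 : r4 ∈ Φ := hO.mem r4 (by simp)
      have o : ∀ t ∈ F', B r1 t = 0 ∧ B r2 t = 0 ∧ B r3 t = 0 ∧ B r4 t = 0 := fun t ht' =>
        ⟨hO.orth t (by simp [ht']), hO.tail.orth t (by simp [ht']), hO.tail.tail.orth t (by simp [ht']),
          hO.tail.tail.tail.orth t (by simp [ht'])⟩
      have hF' : Ort B Φ F' := hO.tail.tail.tail.tail
      have hdt : ∀ t ∈ F', B d t = 0 := by
        intro t ht'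
        obtain ⟨o1, o2, o3, o4⟩ := o t ht'
        have h1 : B (d + d) t = B (r1 + r2 + r3 + r4) t := by rw [hs]
        simp only [rt.add_left] at h1
        omega
      -- the new list
      have o12 : B r1 r2 = 0 := hO.orth r2 (by simp)
      have o14 : B r1 r4 = 0 := hO.orth r4 (by simp)
      have o24 : B r2 r4 = 0 := hO.tail.orth r4 (by simp)
      have c1 : B r1 d = 1 := by rw [rt.symm]; exact b1
      have c2 : B r2 d = 1 := by rw [rt.symm]; exact b2
      have c4 : B r4 d = 1 := by rw [rt.symm]; exact b4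
      have sd := h.self hd
      have q1 : d - r1 ∈ Φ := rt.sub_mem hd hr1 b1
      have q2 : d - r2 ∈ Φ := rt.sub_mem hd hr2 b2
      have q4 : d - r4 ∈ Φ := rt.sub_mem hd hr4 b4
      have hF1 : Ort B Φ ((d - r1) :: (d - r2) :: (d - r4) :: F') := by
        refine Ort.cons q1 (Ort.cons q2 (Ort.cons q4 hF' ?_) ?_) ?_
        · intro t ht'
          rw [rt.sub_left, hdt t ht', (o t ht').2.2.2]; norm_num
        · intro t ht'
          rcases List.mem_cons.mp ht' with rfl | ht'
          · rw [rt.sub_left, rt.sub_right, rt.sub_right]; omega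
          · rw [rt.sub_left, hdt t ht', (o t ht').2.1]; norm_num
        · intro t ht'
          rcases List.mem_cons.mp ht' with rfl | ht'
          · rw [rt.sub_left, rt.sub_right, rt.sub_right]; omega
          · rcases List.mem_cons.mp ht' with rfl | ht'
            · rw [rt.sub_left, rt.sub_right, rt.sub_right]; omega
            · rw [rt.sub_left, hdt t ht', (o t ht').1]; norm_num
      have hgF' : g * pr x F' = pr x F' * g := RE.comm_pr fun t ht' => hgF t (hF'.mem t ht') (o t ht').1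
        (o t ht').2.1 (o t ht').2.2.1 (o t ht').2.2.2
      have hpr : g * pr x F * g⁻¹ = pr x ((d - r1) :: (d - r2) :: (d - r4) :: F') := by
        rw [h.pr_perm hF hp]
        simp only [pr_cons]
        calc g * (x r1 * (x r2 * (x r3 * (x r4 * pr x F')))) * g⁻¹
            = (g * (x r1 * (x r2 * (x r3 * x r4))) * g⁻¹) * (g * pr x F') * g⁻¹ := by group
          _ = (x (d - r1) * (x (d - r2) * x (d - r4))) * (pr x F' * g) * g⁻¹ := by rw [hg, hgF']
          _ = _ := by group
      have hx' : pr (mv (MulAut.conj g⁻¹) x) ((d - r1) :: (d - r2) :: (d - r4) :: F') = pr x F := by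
        rw [pr_mv, ← hpr, MulAut.conj_apply]; group
      have hd' : d ∈ Cone B Φ F := ⟨hd, fun r hr => hdc r (h.mem_cone hF hr)⟩
      have hxd : mv (MulAut.conj g⁻¹) x d = x d := by
        rw [mv_apply, MulAut.conj_apply, inv_inv, mul_assoc, ← hgd]; group
      refine ih (mv (MulAut.conj g⁻¹) x) (h.map _) (ha.map _) α β hc (hB.mv g⁻¹) _ hF1 ?_ (by rw [hx']; exact hα) b hβ
        d ⟨hd, ?_⟩ (by rw [hxd]; exact hcone d hd')
      · have := hp.length_eq
        simp only [List.length_cons] at this ⊢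
        omega
      · intro r hr
        simp only [List.mem_cons] at hr
        rcases hr with rfl | rfl | rfl | hr
        · rw [rt.sub_right]; omega
        · rw [rt.sub_right]; omega
        · rw [rt.sub_right]; omega
        · rw [hdt r hr]

end

end Cfsg.Agent.OddHalf.D4.En2
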