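import Mathlib
import Cfsg.Agent.OddHalf.D4.En2.Qa
import Cfsg.Agent.OddHalf.D4.Basic

/-!
# ODD, D4, `E_n(2)`: a four-group of automorphisms normalises a Sylow 2-subgroup containing a given fixed root element
in its centre
-/

set_option autoImplicit false
set_option linter.unusedSectionVars false

namespace Cfsg.Agent.OddHalf.D4.En2

open Subgroup Cfsg.Agent.OddHalf.SL.Defs Cfsg.Agent.OddHalf.D4.Basic

variable {L Y : Type*} [AddCommGroup L] [Group Y]
variable {B : L → L → ℤ} {Φ : Set L} {x : L → Y} {ht : L →+ ℤ} {ρ : L} {Fl : (L →+ L) → Prop}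

/-- the subgroup generated by two commuting involutions -/
theorem two_pair {M : Type*} [Group M] {α β : M} (aa : α * α = 1) (bb : β * β = 1) (ab : α * β = β * α) :
    IsPGroup 2 ↥(closure ({α, β} : Set M)) := by
  have h1 : ∀ g ∈ closure ({α, β} : Set M), g = 1 ∨ g = α ∨ g = β ∨ g = α * β := by
    intro g hg
    induction hg using closure_induction with
    | mem y hy =>
      rcases hy with rfl | hy
      · right; left; rfl
      · rw [Set.mem_singleton_iff] at hy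
        rw [hy]; right; right; left; rfl
    | one => left; rfl
    | mul y z _ _ hy hz =>
      have e1 : α * (α * β) = β := by rw [← mul_assoc, aa, one_mul]
      have e2 : β * (α * β) = α := by rw [ab, ← mul_assoc, bb, one_mul]
      have e3 : α * β * α = β := by rw [ab, mul_assoc, aa, mul_one]
      have e4 : α * β * β = α := by rw [mul_assoc, bb, mul_one]
      have e5 : α * β * (α * β) = 1 := by rw [← mul_assoc, e3, bb]
      rcases hy with rfl | rfl | rfl | rfl <;> rcases hz with rfl | rfl | rfl | rfl <;>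
        simp [e1, e2, e3, e4, e5, aa, bb, ← ab]
    | inv y _ hy =>
      have e1 : α⁻¹ = α := inv_eq_of_mul_eq_one_left aa
      have e2 : β⁻¹ = β := inv_eq_of_mul_eq_one_left bb
      rcases hy with rfl | rfl | rfl | rfl
      · left; exact inv_one
      · right; left; exact e1
      · right; right; left; exact e2
      · right; right; right; rw [mul_inv_rev, e1, e2, ab]
  rintro ⟨g, hg⟩
  refine ⟨1, ?_⟩
  apply Subtype.ext
  show g ^ 2 ^ 1 = 1
  rw [pow_one, pow_two]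
  rcases h1 g hg with rfl | rfl | rfl | rfl
  · exact one_mul 1
  · exact aa
  · exact bb
  · calc α * β * (α * β) = α * (β * α) * β := by group
      _ = (α * α) * (β * β) := by rw [← ab]; group
      _ = 1 := by rw [aa, bb, one_mul]

/-- **Frames**, general form. -/
theorem exists_frame_gen [Finite Y] (h : RE B Φ x ht) (ha : RA B Φ x ht ρ Fl) {α β : MulAut Y} (aa : α * α = 1)
    (bb : β * β = 1) (ab : α * β = β * α) (H : Subgroup (MulAut Y)) (C : Subgroup Y)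
    (hHC : ∀ γ ∈ H, ∀ c ∈ C, γ c ∈ C) (hCH : ∀ c ∈ C, MulAut.conj c ∈ H) (hαH : α ∈ H) (hβH : β ∈ H) {g0 : Y}
    (hg0 : ∀ u ∈ XS x (Pos Φ ht), g0 * u * g0⁻¹ ∈ C) :
    ∃ c ∈ C, (∀ u ∈ XS (mv (MulAut.conj (c * g0)) x) (Pos Φ ht), α u ∈ XS (mv (MulAut.conj (c * g0)) x) (Pos Φ ht)) ∧
      ∀ u ∈ XS (mv (MulAut.conj (c * g0)) x) (Pos Φ ht), β u ∈ XS (mv (MulAut.conj (c * g0)) x) (Pos Φ ht) := by
  classical
  have : Finite (MulAut Y) := Finite.of_injective (fun γ : MulAut Y => (γ : Y → Y)) (fun γ δ h0 => MulEquiv.ext (congrFun h0))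
  let I : Subgroup (MulAut Y) := C.map MulAut.conj
  have hIm : ∀ γ : MulAut Y, γ ∈ I ↔ ∃ c ∈ C, MulAut.conj c = γ := fun γ => Iff.rfl
  have hIH : I ≤ H := by
    rintro _ ⟨c, hc, rfl⟩
    exact hCH c hc
  have hconj : ∀ (γ : MulAut Y) (c : Y), γ * MulAut.conj c * γ⁻¹ = MulAut.conj (γ c) := by
    intro γ c
    ext y
    show γ (c * γ⁻¹ y * c⁻¹) = γ c * y * (γ c)⁻¹
    rw [map_mul, map_mul, map_inv]
    have : γ (γ⁻¹ y) = y := γ.apply_symm_apply y
    rw [this]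
  have hHI : H ≤ normalizer (I : Set (MulAut Y)) := by
    have key : ∀ γ ∈ H, ∀ δ ∈ I, γ * δ * γ⁻¹ ∈ I := by
      intro γ hγ δ hδ
      obtain ⟨c, hc, rfl⟩ := (hIm δ).mp hδ
      rw [hconj, hIm]
      exact ⟨γ c, hHC γ hγ c hc, rfl⟩
    intro γ hγ
    rw [mem_normalizer_iff]
    intro δ
    refine ⟨key γ hγ δ, fun h1 => ?_⟩
    have h2 := key γ⁻¹ (H.inv_mem hγ) _ h1
    have e2 : γ⁻¹ * (γ * δ * γ⁻¹) * γ⁻¹⁻¹ = δ := by group
    rwa [e2] at h2
  have hA : closure ({α, β} : Set (MulAut Y)) ≤ H := by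
    rw [closure_le]
    rintro γ (rfl | hγ)
    · exact hαH
    · rw [Set.mem_singleton_iff] at hγ
      rw [hγ]; exact hβH
  obtain ⟨T, hT, hAT⟩ := exists_isSyl (two_pair aa bb ab) hA
  have hTI : IsSyl (T ⊓ I) I := hT.inf hIH (hT.le.trans hHI)
  -- the Sylow subgroup `g0 U g0⁻¹`
  have hU2 := RA.two_U h ha
  let P : Subgroup (MulAut Y) := ((XS x (Pos Φ ht)).map (MulAut.conj g0).toMonoidHom).map MulAut.conj
  have hP2 : IsPGroup 2 ↥P := (hU2.map _).map _
  have hPI : P ≤ I := by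
    rintro _ ⟨_, ⟨u, hu, rfl⟩, rfl⟩
    exact ⟨_, hg0 u hu, rfl⟩
  obtain ⟨m, hm, hmP⟩ := hTI.conj_into hP2 hPI
  obtain ⟨c, hc, rfl⟩ := (hIm m).mp hm
  -- the new element
  refine ⟨c, hc, ?_⟩
  set g := c * g0 with hg
  have hmem : ∀ u ∈ XS x (Pos Φ ht), MulAut.conj (g * u * g⁻¹) ∈ T ⊓ I := by
    intro u hu
    have h1 := hmP (MulAut.conj (g0 * u * g0⁻¹)) ⟨_, ⟨u, hu, rfl⟩, rfl⟩
    have e1 : MulAut.conj c * MulAut.conj (g0 * u * g0⁻¹) * (MulAut.conj c)⁻¹ = MulAut.conj (g * u * g⁻¹) := by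
      rw [← map_mul, ← map_inv, ← map_mul]
      congr 1
      rw [hg]; group
    rwa [e1] at h1
  -- conversely
  have hback : ∀ s : Y, MulAut.conj s ∈ T ⊓ I → g⁻¹ * s * g ∈ XS x (Pos Φ ht) := by
    obtain ⟨S, hS⟩ := ha.syl
    let R : Subgroup Y := ((T ⊓ I).comap MulAut.conj).map (MulAut.conj g⁻¹).toMonoidHom
    have hR2 : IsPGroup 2 ↥R := by
      apply IsPGroup.map
      exact hTI.two.comap_of_injective _ fun s t hst => h.conj_inj hst
    have hSR : (S : Subgroup Y) ≤ R := by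
      intro u hu
      have hu' : u ∈ XS x (Pos Φ ht) := by rw [← hS]; exact hu
      refine ⟨g * u * g⁻¹, hmem u hu', ?_⟩
      show g⁻¹ * (g * u * g⁻¹) * g⁻¹⁻¹ = u
      group
    have h3 := S.3 hR2 hSR
    intro s hs
    rw [← hS, ← h3]
    refine ⟨s, hs, ?_⟩
    show g⁻¹ * s * g⁻¹⁻¹ = g⁻¹ * s * g
    rw [inv_inv]
  have hinv : ∀ γ ∈ T, ∀ u ∈ XS (mv (MulAut.conj g) x) (Pos Φ ht), γ u ∈ XS (mv (MulAut.conj g) x) (Pos Φ ht) := by
    intro γ hγ u hu
    rw [mem_XS_mv] at hu ⊢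
    have e1 : ∀ y, (MulAut.conj g).symm y = g⁻¹ * y * g := fun y => rfl
    rw [e1] at hu ⊢
    apply hback
    have h1 := hmem _ hu
    have e2 : g * (g⁻¹ * u * g) * g⁻¹ = u := by group
    rw [e2] at h1
    rw [← hconj]
    exact ⟨T.mul_mem (T.mul_mem hγ h1.1) (T.inv_mem hγ), (mem_normalizer_iff.mp (hHI (hT.le hγ)) _).mp h1.2⟩
  exact ⟨hinv α (hAT (subset_closure (Set.mem_insert _ _))), hinv β (hAT (subset_closure (Set.mem_insert_of_mem _ rfl)))⟩

/-- **Frames**: with a fixed root element in the centre. -/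
theorem exists_frame [Finite Y] (h : RE B Φ x ht) (ha : RA B Φ x ht ρ Fl) {α β : MulAut Y} (aa : α * α = 1)
    (bb : β * β = 1) (ab : α * β = β * α) {e g0 : Y} (he : g0 * x ρ * g0⁻¹ = e) (hα : α e = e) (hβ : β e = e) :
    ∃ g : Y, g * x ρ * g⁻¹ = e ∧ (∀ u ∈ XS (mv (MulAut.conj g) x) (Pos Φ ht), α u ∈ XS (mv (MulAut.conj g) x) (Pos Φ ht)) ∧
      ∀ u ∈ XS (mv (MulAut.conj g) x) (Pos Φ ht), β u ∈ XS (mv (MulAut.conj g) x) (Pos Φ ht) := by
  obtain ⟨c, hc, h1, h2⟩ := exists_frame_gen h ha aa bb ab (MulAction.stabilizer (MulAut Y) e)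
    (centralizer ({e} : Set Y)) (by
      intro γ hγ c hc
      rw [mem_centralizer_singleton_iff] at hc ⊢
      have hγ' : γ e = e := hγ
      calc γ c * e = γ c * γ e := by rw [hγ']
        _ = γ (c * e) := (map_mul _ _ _).symm
        _ = γ (e * c) := by rw [hc]
        _ = e * γ c := by rw [map_mul, hγ']) (by
      intro c hc
      rw [mem_centralizer_singleton_iff] at hc
      show c * e * c⁻¹ = e
      rw [hc, mul_inv_cancel_right]) hα hβ (g0 := g0) (by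
      intro u hu
      rw [mem_centralizer_singleton_iff, ← he]
      have := RA.U_central h ha hu
      calc g0 * u * g0⁻¹ * (g0 * x ρ * g0⁻¹) = g0 * (u * x ρ) * g0⁻¹ := by group
        _ = g0 * (x ρ * u) * g0⁻¹ := by rw [this]
        _ = _ := by group)
  refine ⟨c * g0, ?_, h1, h2⟩
  rw [mem_centralizer_singleton_iff] at hc
  calc c * g0 * x ρ * (c * g0)⁻¹ = c * (g0 * x ρ * g0⁻¹) * c⁻¹ := by group
    _ = c * e * c⁻¹ := by rw [he]
    _ = e := by rw [hc, mul_inv_cancel_right]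

/-- **Frames**: an invariant Sylow 2-subgroup. -/
theorem exists_frame' [Finite Y] (h : RE B Φ x ht) (ha : RA B Φ x ht ρ Fl) {α β : MulAut Y} (aa : α * α = 1)
    (bb : β * β = 1) (ab : α * β = β * α) :
    ∃ g : Y, (∀ u ∈ XS (mv (MulAut.conj g) x) (Pos Φ ht), α u ∈ XS (mv (MulAut.conj g) x) (Pos Φ ht)) ∧
      ∀ u ∈ XS (mv (MulAut.conj g) x) (Pos Φ ht), β u ∈ XS (mv (MulAut.conj g) x) (Pos Φ ht) := by
  obtain ⟨c, -, h1, h2⟩ := exists_frame_gen h ha aa bb ab ⊤ ⊤ (fun _ _ _ _ => mem_top _) (fun _ _ => mem_top _)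
    (mem_top _) (mem_top _) (g0 := 1) (fun _ _ => mem_top _)
  exact ⟨c * 1, h1, h2⟩

end Cfsg.Agent.OddHalf.D4.En2
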