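import Mathlib
import Cfsg.Agent.OddHalf.D4.En2.CaseA
import Cfsg.Agent.OddHalf.D4.En2.CaseB
import Cfsg.Agent.OddHalf.D4.En2.Fr

/-!
# ODD, D4, `E_n(2)`: no configuration

`false_of_conf` : `RE`, `RA` and `FlOK Fl` exclude `Conf α β D N`.
-/

set_option autoImplicit false
set_option linter.unusedSectionVars false

namespace Cfsg.Agent.OddHalf.D4.En2

open Subgroup Cfsg.Agent.OddHalf.SL.Defs Cfsg.Agent.OddHalf.D4.Basic

variable {L Y : Type*} [AddCommGroup L] [Group Y]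
variable {B : L → L → ℤ} {Φ : Set L} {x : L → Y} {ht : L →+ ℤ} {ρ : L} {Fl : (L →+ L) → Prop}

/-- The conditions on the diagram automorphisms: they permute the positive roots, at most one is nontrivial and it moves
more than 8 of the roots `t` with `⟨t, ρ⟩ = 1`. -/
structure FlOK (B : L → L → ℤ) (Φ : Set L) (ht : L →+ ℤ) (ρ : L) (Fl : (L →+ L) → Prop) : Prop where
  pos : ∀ τ, Fl τ → ∀ c ∈ Pos Φ ht, τ c ∈ Pos Φ ht
  inj : ∀ τ, Fl τ → Function.Injective τ
  alt : ∀ τ, Fl τ → (∀ c ∈ Φ, τ c = c) ∨ 8 < {t | t ∈ Φ ∧ B t ρ = 1 ∧ τ t ≠ t}.ncard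
  comp : ∀ τ τ', Fl τ → Fl τ' → (¬ ∀ c ∈ Φ, τ c = c) → (¬ ∀ c ∈ Φ, τ' c = c) → ∀ c ∈ Φ, τ (τ' c) = c

/-- the positive unipotent group of the root elements conjugated by one of its elements -/
theorem XS_conj_self (_ : RE B Φ x ht) {g : Y} (hg : g ∈ XS x (Pos Φ ht)) {u : Y} :
    u ∈ XS (mv (MulAut.conj g) x) (Pos Φ ht) ↔ u ∈ XS x (Pos Φ ht) := by
  rw [mem_XS_mv]
  have e1 : (MulAut.conj g).symm u = g⁻¹ * u * g := rfl
  rw [e1]
  constructor
  · intro h1
    have := mul_mem (mul_mem hg h1) (inv_mem hg)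
    have e : g * (g⁻¹ * u * g) * g⁻¹ = u := by group
    rwa [e] at this
  · intro h1
    exact mul_mem (mul_mem (inv_mem hg) h1) hg

/-- leading terms -/
theorem lead_conj (h : RE B Φ x ht) {s : Y} (hs : s ∈ XS x (Pos Φ ht)) {d : L} (hd : d ∈ Pos Φ ht) :
    (x d)⁻¹ * (s * x d * s⁻¹) ∈ XS x {e | e ∈ Pos Φ ht ∧ ht d < ht e} := by
  have hT : ∀ c ∈ Pos Φ ht, ∀ u ∈ XS x {e | e ∈ Pos Φ ht ∧ ht d < ht e},
      x c * u * (x c)⁻¹ ∈ XS x {e | e ∈ Pos Φ ht ∧ ht d < ht e} := by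
    intro c hc u hu
    apply h.conj_XS hc.1 (fun e he => he.1.1) _ _ hu
    · rintro ⟨⟨-, h3⟩, -⟩
      have := hc.2
      rw [map_neg] at h3
      omega
    · rintro e ⟨he, he'⟩ hce
      refine ⟨h.closed_pos c hc e he hce, ?_⟩
      have := hc.2
      rw [map_add]; omega
  have hN : XS x (Pos Φ ht) ≤ normalizer (XS x {e | e ∈ Pos Φ ht ∧ ht d < ht e} : Set Y) := by
    apply XS_le
    intro c hc
    rw [mem_normalizer_iff]
    intro u
    refine ⟨fun hu => hT c hc u hu, fun h3 => ?_⟩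
    have h4 := hT c hc _ h3
    rw [h.inv hc.1] at h4
    have e : x c * (x c * u * x c) * x c = (x c * x c) * u * (x c * x c) := by group
    rw [e, h.sq c hc.1, one_mul, mul_one] at h4
    exact h4
  have hN' : ∀ g ∈ XS x (Pos Φ ht), ∀ u ∈ XS x {e | e ∈ Pos Φ ht ∧ ht d < ht e},
      g * u * g⁻¹ ∈ XS x {e | e ∈ Pos Φ ht ∧ ht d < ht e} := fun g hg u hu =>
    (mem_normalizer_iff.mp (hN hg) u).mp hu
  have hdU : x d ∈ XS x (Pos Φ ht) := mem_XS hd
  unfold XS at hs
  induction hs using closure_induction with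
  | mem z hz =>
    obtain ⟨c, hc, rfl⟩ := hz
    rcases h.cases hc.1 hd.1 with h1 | h1 | h1
    · exfalso
      have := h.rt.eq_neg hc.1 hd.1 h1
      have h2 := hc.2
      have h3 := hd.2
      rw [this, map_neg] at h2
      omega
    · rw [h.conj_neg hc.1 hd.1 h1, inv_mul_cancel_left]
      apply mem_XS
      refine ⟨h.closed_pos c hc d hd h1, ?_⟩
      have := hc.2
      rw [map_add]; omega
    · rw [h.conj_pos hc.1 hd.1 (by omega), inv_mul_cancel]
      exact one_mem _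
  | one => rw [one_mul, inv_one, mul_one, inv_mul_cancel]; exact one_mem _
  | mul y1 y2 hy1 hy2 ih1 ih2 =>
    have e1 : (x d)⁻¹ * (y1 * y2 * x d * (y1 * y2)⁻¹) =
        ((x d)⁻¹ * (y1 * x d * y1⁻¹)) * (y1 * ((x d)⁻¹ * (y2 * x d * y2⁻¹)) * y1⁻¹) := by group
    rw [e1]
    exact mul_mem ih1 (hN' y1 hy1 _ ih2)
  | inv y1 hy1 ih1 =>
    have h3 : (x d)⁻¹ * (y1⁻¹ * x d * y1⁻¹⁻¹) =
        ((x d)⁻¹ * y1⁻¹ * x d) * (((x d)⁻¹ * (y1 * x d * y1⁻¹))⁻¹) * ((x d)⁻¹ * y1⁻¹ * x d)⁻¹ := by group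
    rw [h3]
    exact hN' _ (mul_mem (mul_mem (inv_mem hdU) (inv_mem hy1)) hdU) _ (inv_mem ih1)

/-- `x d ∉ XS x S` up to higher terms -/
theorem lead_notMem (h : RE B Φ x ht) {s : Y} (hs : s ∈ XS x (Pos Φ ht)) {d : L} (hd : d ∈ Pos Φ ht) {S : Set L}
    (hS : S ⊆ Pos Φ ht) (hSc : Closed B (S ∪ {e | e ∈ Pos Φ ht ∧ ht d < ht e})) (hdS : d ∉ S)
    (h1 : s * x d * s⁻¹ ∈ XS x S) : False := by
  have h2 := lead_conj h hs hd
  have h3 : x d ∈ XS x (S ∪ {e | e ∈ Pos Φ ht ∧ ht d < ht e}) := by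
    have e : x d = (s * x d * s⁻¹) * ((x d)⁻¹ * (s * x d * s⁻¹))⁻¹ := by group
    rw [e]
    exact mul_mem (XS_mono Set.subset_union_left h1) (inv_mem (XS_mono Set.subset_union_right h2))
  refine h.notMem_of_notMem ?_ hSc hd ?_ h3
  · rintro e (he | he)
    · exact hS he
    · exact he.1
  · rintro (h4 | h4)
    · exact hdS h4
    · exact lt_irrefl _ h4.2

theorem lead_eq (h : RE B Φ x ht) {s : Y} (hs : s ∈ XS x (Pos Φ ht)) {d c : L} (hd : d ∈ Pos Φ ht)
    (hc : c ∈ Pos Φ ht) (h1 : s * x d * s⁻¹ = x c) : d = c := by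
  by_contra hdc
  refine lead_notMem h hs hd (S := {c}) ?_ ?_ hdc (by rw [h1]; exact mem_XS rfl)
  · rintro e he
    rw [Set.mem_singleton_iff] at he
    rw [he]; exact hc
  · rintro a (ha | ha) b (hb | hb) hab
    · exfalso
      rw [Set.mem_singleton_iff] at ha hb
      rw [ha, hb, h.self hc.1] at hab
      omega
    · right
      rw [Set.mem_singleton_iff] at ha
      rw [ha] at hab ⊢
      refine ⟨h.closed_pos c hc b hb.1 hab, ?_⟩
      have := hc.2
      have := hb.2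
      rw [map_add]; omega
    · right
      rw [Set.mem_singleton_iff] at hb
      rw [hb] at hab ⊢
      refine ⟨h.closed_pos a ha.1 c hc hab, ?_⟩
      have := hc.2
      have := ha.2
      rw [map_add]; omega
    · right
      refine ⟨h.closed_pos a ha.1 b hb.1 hab, ?_⟩
      have := hb.1.2
      have := ha.2
      rw [map_add]; omega

/-- an automorphism with trivial diagram part is inner -/
theorem inner_of_id (h : RE B Φ x ht) {β : MulAut Y} {s : Y} {τ : L →+ L}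
    (hβ : ∀ c ∈ Φ, β (x c) = s * x (τ c) * s⁻¹) (hτ : ∀ c ∈ Φ, τ c = c) : β = MulAut.conj s :=
  h.aut_ext fun c hc => by rw [hβ c hc, hτ c hc, MulAut.conj_apply]

section

variable [Finite Y] (h : RE B Φ x ht) (ha : RA B Φ x ht ρ Fl) (hFl : FlOK B Φ ht ρ Fl) {α β : MulAut Y}
  {D N : Subgroup Y} (hc : Conf α β D N)
include h ha

omit [Finite Y] ha in
/-- every involution of `U` is a product of orthogonal root elements for conjugate root elements -/
theorem exists_list {w : Y} (hw : w ∈ XS x (Pos Φ ht)) (hw2 : w * w = 1) :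
    ∃ g ∈ XS x (Pos Φ ht), ∃ F : List L, Ort B Φ F ∧ (∀ r ∈ F, r ∈ Pos Φ ht) ∧
      w = pr (mv (MulAut.conj g) x) F := by
  obtain ⟨g, hg, F, hF, hFp, hgF⟩ := h.exists_conj hw hw2
  refine ⟨g⁻¹, inv_mem hg, F, hF, hFp, ?_⟩
  rw [pr_mv, MulAut.conj_apply, ← hgF]; group

include hc

/-- **Case (B).** -/
theorem caseB (hFl : FlOK B Φ ht ρ Fl) (hB : NoN x ρ α β N) (hαU : ∀ u ∈ XS x (Pos Φ ht), α u ∈ XS x (Pos Φ ht))
    (hβU : ∀ u ∈ XS x (Pos Φ ht), β u ∈ XS x (Pos Φ ht)) {a : Y} (hα : α = MulAut.conj a) : False := by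
  have haU : a ∈ XS x (Pos Φ ht) := ha.norm a (by rw [hα] at hαU; exact hαU)
  have ha2 : a * a = 1 := by
    apply h.conj_inj
    rw [map_mul, ← hα, hc.aa, map_one]
  obtain ⟨g, hg, F, hF, hFp, haF⟩ := exists_list h haU ha2
  -- the new root elements
  have h' := h.map (MulAut.conj g)
  have ha' := ha.map (MulAut.conj g)
  have hB' := hB.mv g
  have hβU' : ∀ u ∈ XS (mv (MulAut.conj g) x) (Pos Φ ht), β u ∈ XS (mv (MulAut.conj g) x) (Pos Φ ht) := by
    intro u hu
    rw [XS_conj_self h hg] at hu ⊢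
    exact hβU u hu
  have hρF : ρ ∈ Cone B Φ F := ⟨ha.ρmem, fun r hr => by
    rw [h.rt.symm]; exact ha.high r (hFp r hr).1 (hFp r hr).2⟩
  have hfix := RA.aut_fix h' ha' hβU'
  have hα' : α = MulAut.conj (pr (mv (MulAut.conj g) x) F) := by rw [← haF]; exact hα
  obtain ⟨s, hs, τ, hτ, hβτ⟩ := ha'.auto β hβU'
  by_cases hid : ∀ c ∈ Φ, τ c = c
  · have hβs := inner_of_id h' hβτ hid
    exact caseB_ind F.length _ h' ha' α β hc hB' F hF le_rfl hα' s hβs ρ hρF hfix
  · -- outer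
    have hcone : ∀ c ∈ Cone B Φ F, c ∈ Pos Φ ht → τ c = c := by
      intro c hcF hcp
      have h1 := B_cone h' ha' hc hB' hF hα' hρF hfix hcF
      rw [hβτ c hcF.1] at h1
      exact lead_eq h' hs (hFl.pos τ hτ c hcp) hcp h1
    -- a moved positive root
    obtain ⟨b, hb, hbτ⟩ : ∃ b ∈ Pos Φ ht, τ b ≠ b := by
      by_contra hcon
      push Not at hcon
      apply hid
      intro c hcΦ
      by_cases h0 : 0 < ht c
      · exact hcon c ⟨hcΦ, h0⟩
      · have h1 := h.ht0 c hcΦ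
        have h2 := hcon (-c) ⟨h.rt.neg_mem c hcΦ, by rw [map_neg]; omega⟩
        rw [map_neg] at h2
        exact neg_injective h2
    have hFτ : ∀ r ∈ F, τ r = r := fun r hr => hcone r (h.mem_cone hF hr) (hFp r hr)
    obtain ⟨b', hb', g1, -, -, g4, g5⟩ := exists_plus h.rt hF hb.1 (by
      intro r hr hbr
      have e := h.rt.eq_neg hb.1 (hF.mem r hr) hbr
      have h1 := hb.2
      have h2 := (hFp r hr).2
      rw [e, map_neg] at h1
      omega)
    have h1 := g4 ht fun r hr => (hFp r hr).2.le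
    have h2 := hcone b' ⟨hb', g1⟩ ⟨hb', by have := hb.2; omega⟩
    have h3 := g5 τ hFτ
    rw [h2, sub_self] at h3
    exact hbτ (sub_eq_zero.mp h3.symm)

/-- **Case (A), `β` outer.** -/
theorem caseA_outer (hFl : FlOK B Φ ht ρ Fl) (hne : ∃ n ∈ N, n ∈ Qs B Φ x ρ ∧ n ≠ 1)
    (hβU : ∀ u ∈ XS x (Pos Φ ht), β u ∈ XS x (Pos Φ ht)) (hβo : ¬ ∃ b, β = MulAut.conj b) : False := by
  have rt := h.rt
  obtain ⟨w, hwN, hwQ, hw1, hwρ, hw2, hN, hD⟩ := exists_w0 h ha hc hne
  obtain ⟨g, hg, F, hF, hFp, hwF⟩ := exists_list h (RA.Qρ_le h ha hwQ) hw2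
  have h' := h.map (MulAut.conj g)
  have ha' := ha.map (MulAut.conj g)
  have hβU' : ∀ u ∈ XS (mv (MulAut.conj g) x) (Pos Φ ht), β u ∈ XS (mv (MulAut.conj g) x) (Pos Φ ht) := by
    intro u hu
    rw [XS_conj_self h hg] at hu ⊢
    exact hβU u hu
  have hxρ : mv (MulAut.conj g) x ρ = x ρ := by
    rw [mv_apply, MulAut.conj_apply, ← RA.U_central h ha hg, mul_inv_cancel_right]
  have hQ' : Qs B Φ (mv (MulAut.conj g) x) ρ = Qs B Φ x ρ := by
    rw [← RA.OO_eq h' ha' ha.ρmem, ← RA.OO_eq h ha ha.ρmem, hxρ]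
  set x' := mv (MulAut.conj g) x with hx'
  have hρ := ha.ρmem
  -- `F` lies in `Φ_1(ρ)`
  have hFcl : ∀ S : Set L, (∀ c ∈ S, c ∈ F) → Closed B S := by
    intro S hS a ha b hb hab
    exfalso
    by_cases e : a = b
    · rw [e, h.self (hF.mem b (hS b hb))] at hab
      omega
    · rw [hF.eq_zero rt (hS a ha) (hS b hb) e] at hab
      omega
  have hQpos : {c | c ∈ Φ ∧ 0 < B c ρ} ⊆ Pos Φ ht := fun c hc => RA.pos_of h ha hc.1 hc.2
  have hQcl : Closed B {c | c ∈ Φ ∧ 0 < B c ρ} := by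
    rintro a ⟨ha1, ha2⟩ b ⟨hb1, hb2⟩ hab
    exact ⟨rt.add a ha1 b hb1 hab, by rw [rt.add_left]; omega⟩
  have hwF' : w ∈ XS x' ({c | c ∈ F} ∩ {c | c ∈ Φ ∧ 0 < B c ρ}) := by
    apply h'.inf _ _ (fun c hc => hFp c hc) hQpos (hFcl _ fun c hc => hc) hQcl
    refine ⟨?_, ?_⟩
    · rw [hwF]; exact RE.pr_mem fun a ha => ha
    · have : w ∈ Qs B Φ x' ρ := by rw [hQ']; exact hwQ
      exact this
  have hperm : ∀ r ∈ F, ∃ F', F.Perm (r :: F') := by
    classical
    exact fun r hr => ⟨F.erase r, List.perm_cons_erase hr⟩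
  have hF0 : ∀ r ∈ F, 0 < B r ρ := by
    intro r hr
    by_contra hcon
    obtain ⟨F', hp⟩ := hperm r hr
    have hO := hF.perm rt hp
    have hrF' : r ∉ F' := by
      intro h1
      have := hO.orth r h1
      rw [h.self (hF.mem r hr)] at this
      omega
    have h1 : w ∈ XS x' {c | c ∈ F'} := by
      refine XS_mono ?_ hwF'
      rintro c ⟨hcF, hcQ⟩
      have h2 : c ∈ r :: F' := hp.mem_iff.mp hcF
      rcases List.mem_cons.mp h2 with rfl | h2
      · exact absurd hcQ.2 hcon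
      · exact h2
    have h2 : pr x' F' ∈ XS x' {c | c ∈ F'} := RE.pr_mem fun a ha => ha
    have h3 : x' r ∈ XS x' {c | c ∈ F'} := by
      have e : x' r = w * (pr x' F')⁻¹ := by
        rw [hwF, h'.pr_perm hF hp, pr_cons, mul_inv_cancel_right]
      rw [e]; exact mul_mem h1 (inv_mem h2)
    refine h'.notMem_of_notMem ?_ ?_ (hFp r hr) hrF' h3
    · intro c hc'
      exact hFp c (hp.mem_iff.mpr (List.mem_cons_of_mem _ hc'))
    · exact hFcl _ fun c hc' => hp.mem_iff.mpr (List.mem_cons_of_mem _ hc')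
  have hF1 : ∀ r ∈ F, B r ρ = 1 := by
    intro r hr
    have h1 := hF0 r hr
    have h2 := rt.le r (hF.mem r hr) ρ hρ
    have h3 : B r ρ ≠ 2 := by
      intro h4
      have hrρ : r = ρ := rt.eq r (hF.mem r hr) ρ hρ h4
      obtain ⟨F', hp⟩ := hperm r hr
      have hO := hF.perm rt hp
      have hF'0 : F' = [] := by
        rw [List.eq_nil_iff_forall_not_mem]
        intro c hc'
        have h5 := hO.orth c hc'
        have h6 := hF0 c (hp.mem_iff.mpr (List.mem_cons_of_mem _ hc'))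
        rw [rt.symm, ← hrρ] at h6
        omega
      apply hwρ
      rw [hwF, h'.pr_perm hF hp, hF'0, pr_cons, pr_nil, mul_one, hrρ, hxρ]
    omega
  have hF4 : F.length ≤ 4 := by
    by_contra hcon
    push Not at hcon
    rcases F with _ | ⟨r1, _ | ⟨r2, _ | ⟨r3, _ | ⟨r4, _ | ⟨r5, F'⟩⟩⟩⟩⟩
    all_goals first
      | (simp only [List.length_cons, List.length_nil] at hcon; omega)
      | skip
    have hr1 : r1 ∈ Φ := hF.mem r1 (by simp)
    have hr2 : r2 ∈ Φ := hF.mem r2 (by simp)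
    have hr3 : r3 ∈ Φ := hF.mem r3 (by simp)
    have hr4 : r4 ∈ Φ := hF.mem r4 (by simp)
    have o12 : B r1 r2 = 0 := hF.orth r2 (by simp)
    have o13 : B r1 r3 = 0 := hF.orth r3 (by simp)
    have o14 : B r1 r4 = 0 := hF.orth r4 (by simp)
    have o15 : B r1 r5 = 0 := hF.orth r5 (by simp)
    have o23 : B r2 r3 = 0 := hF.tail.orth r3 (by simp)
    have o24 : B r2 r4 = 0 := hF.tail.orth r4 (by simp)
    have o25 : B r2 r5 = 0 := hF.tail.orth r5 (by simp)
    have o34 : B r3 r4 = 0 := hF.tail.tail.orth r4 (by simp)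
    have o35 : B r3 r5 = 0 := hF.tail.tail.orth r5 (by simp)
    have o45 : B r4 r5 = 0 := hF.tail.tail.tail.orth r5 (by simp)
    have b1 := hF1 r1 (by simp)
    have b2 := hF1 r2 (by simp)
    have b3 := hF1 r3 (by simp)
    have b4 := hF1 r4 (by simp)
    have b5 := hF1 r5 (by simp)
    have c1 : B ρ r1 = 1 := by rw [rt.symm]; exact b1
    have c2 : B ρ r2 = 1 := by rw [rt.symm]; exact b2
    have c3 : B ρ r3 = 1 := by rw [rt.symm]; exact b3
    have c4 : B ρ r4 = 1 := by rw [rt.symm]; exact b4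
    have c5 : B ρ r5 = 1 := by rw [rt.symm]; exact b5
    have q1 : ρ - r1 ∈ Φ := rt.sub_mem hρ hr1 c1
    have q2 : ρ - r1 - r2 ∈ Φ := rt.sub_mem q1 hr2 (by rw [rt.sub_left]; omega)
    have q3 : ρ - r1 - r2 - r3 ∈ Φ := rt.sub_mem q2 hr3 (by rw [rt.sub_left, rt.sub_left]; omega)
    have q4 : ρ - r1 - r2 - r3 - r4 ∈ Φ := rt.sub_mem q3 hr4 (by
      rw [rt.sub_left, rt.sub_left, rt.sub_left]; omega)
    have q5 : B (ρ - r1 - r2 - r3 - r4) ρ = -2 := by
      rw [rt.sub_left, rt.sub_left, rt.sub_left, rt.sub_left, h.self hρ]; omega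
    have q6 := rt.eq_neg q4 hρ q5
    have q7 : B (ρ - r1 - r2 - r3 - r4) r5 = B (-ρ) r5 := by rw [q6]
    rw [rt.sub_left, rt.sub_left, rt.sub_left, rt.sub_left, rt.neg_left] at q7
    omega
  obtain ⟨s, hs, τ, hτ, hβτ⟩ := ha'.auto β hβU'
  have hid : ¬ ∀ c ∈ Φ, τ c = c := fun hid => hβo ⟨s, inner_of_id h' hβτ hid⟩
  have hβρ : β (x' ρ) = x' ρ := RA.aut_fix h' ha' hβU'
  -- moved roots
  have key : ∀ t ∈ Φ, B t ρ = 1 → τ t ≠ t → ρ - t ∉ F → τ t ∈ F := by
    intro t htΦ htρ htτ htF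
    by_contra hτF
    have htp : t ∈ Pos Φ ht := RA.pos_of h ha htΦ (by omega)
    have htQ : x' t ∈ Qs B Φ x' ρ := mem_XS ⟨htΦ, by omega⟩
    have hcw : x' t * w = w * x' t := by
      rw [hwF]
      apply h'.comm_pr' htΦ hF
      intro r hr
      rcases h.cases htΦ (hF.mem r hr) with h1 | h1 | h1
      · exfalso
        have e := rt.eq_neg htΦ (hF.mem r hr) h1
        have h2 := hF1 r hr
        rw [e, rt.neg_left] at htρ
        omega
      · exfalso
        have h2 := rt.add t htΦ r (hF.mem r hr) h1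
        have h3 : t + r = ρ := rt.eq _ h2 ρ hρ (by rw [rt.add_left, htρ, hF1 r hr]; norm_num)
        apply htF
        rw [← h3]
        have : t + r - t = r := by abel
        rw [this]; exact hr
      · omega
    have hQQ : x' t ∈ Qs B Φ x ρ := by rw [← hQ']; exact htQ
    have hDt := hD _ hQQ hcw
    have hNt := hc.comm β (Or.inr (Or.inl rfl)) _ hDt
    have hβQ : β (x' t) ∈ Qs B Φ x ρ := by
      have h3 := htQ
      rw [← RA.OO_eq h' ha' hρ] at h3
      have h4 := OO_map β (x' ρ) h3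
      rw [hβρ, RA.OO_eq h' ha' hρ, hQ'] at h4
      exact h4
    have hτp := hFl.pos τ hτ t htp
    rcases hN _ hNt (mul_mem hβQ (inv_mem hQQ)) with h1 | h1
    · apply htτ
      have h2 : β (x' t) = x' t := mul_inv_eq_one.mp h1
      rw [hβτ t htΦ] at h2
      exact lead_eq h' hs hτp htp h2
    · have h2 : β (x' t) = w * x' t := mul_inv_eq_iff_eq_mul.mp h1
      rw [hβτ t htΦ] at h2
      refine lead_notMem h' hs hτp (S := {c | c = t ∨ c ∈ F}) ?_ ?_ ?_ ?_
      · rintro c (rfl | hc')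
        · exact htp
        · exact hFp c hc'
      · have hge : ∀ a b, (a = t ∨ a ∈ F) → (b = t ∨ b ∈ F) → B a b ≠ -1 := by
          have htr : ∀ r ∈ F, B t r ≠ -1 := by
            intro r hr h4
            have h5 := rt.add t htΦ r (hF.mem r hr) h4
            have h6 : t + r = ρ := rt.eq _ h5 ρ hρ (by rw [rt.add_left, htρ, hF1 r hr]; norm_num)
            apply htF
            rw [← h6]
            have : t + r - t = r := by abel
            rw [this]; exact hr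
          rintro a b (rfl | ha1) (rfl | hb1)
          · rw [h.self htΦ]; norm_num
          · exact htr b hb1
          · rw [rt.symm]; exact htr a ha1
          · by_cases e : a = b
            · rw [e, h.self (hF.mem b hb1)]; norm_num
            · rw [hF.eq_zero rt ha1 hb1 e]; norm_num
        have hpos : ∀ a, (a = t ∨ a ∈ F) → a ∈ Pos Φ ht := by
          rintro a (rfl | ha1)
          · exact htp
          · exact hFp a ha1
        rintro a (ha1 | ha1) b (hb1 | hb1) hab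
        · exact absurd hab (hge a b ha1 hb1)
        · right
          refine ⟨h.closed_pos a (hpos a ha1) b hb1.1 hab, ?_⟩
          have := (hpos a ha1).2
          have := hb1.2
          rw [map_add]; omega
        · right
          refine ⟨h.closed_pos a ha1.1 b (hpos b hb1) hab, ?_⟩
          have := (hpos b hb1).2
          have := ha1.2
          rw [map_add]; omega
        · right
          refine ⟨h.closed_pos a ha1.1 b hb1.1 hab, ?_⟩
          have := ha1.1.2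
          have := hb1.2
          rw [map_add]; omega
      · rintro (h3 | h3)
        · exact htτ h3
        · exact hτF h3
      · rw [h2, hwF]
        exact mul_mem (RE.pr_mem fun a ha => Or.inr ha) (mem_XS (Or.inl rfl))
  -- counting
  have hcard := (hFl.alt τ hτ).resolve_left hid
  have hsub : {t | t ∈ Φ ∧ B t ρ = 1 ∧ τ t ≠ t} ⊆ ((fun r => ρ - r) '' {c | c ∈ F}) ∪ (τ ⁻¹' {c | c ∈ F}) := by
    rintro t ⟨ht1, ht2, ht3⟩
    by_cases h1 : ρ - t ∈ F
    · left
      exact ⟨ρ - t, h1, by show ρ - (ρ - t) = t; abel⟩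
    · right
      exact key t ht1 ht2 ht3 h1
  have hFfin : {c : L | c ∈ F}.Finite := List.finite_toSet F
  have hFcard : {c : L | c ∈ F}.ncard ≤ 4 := by
    classical
    have e : {c : L | c ∈ F} = ((F.toFinset : Finset L) : Set L) := by ext c; simp
    rw [e, Set.ncard_coe_finset]
    exact (List.toFinset_card_le F).trans hF4
  have hpre : (τ ⁻¹' {c | c ∈ F}).Finite := hFfin.preimage (hFl.inj τ hτ).injOn
  have h1 : (((fun r => ρ - r) '' {c | c ∈ F}) ∪ (τ ⁻¹' {c | c ∈ F})).ncard ≤ 8 := by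
    have h2 := Set.ncard_union_le ((fun r => ρ - r) '' {c | c ∈ F}) (τ ⁻¹' {c | c ∈ F})
    have h3 : ((fun r => ρ - r) '' {c | c ∈ F}).ncard ≤ {c | c ∈ F}.ncard := Set.ncard_image_le hFfin
    have h4 : (τ ⁻¹' {c | c ∈ F}).ncard ≤ {c | c ∈ F}.ncard := by
      rw [← Set.ncard_image_of_injective _ (hFl.inj τ hτ)]
      exact Set.ncard_le_ncard (Set.image_preimage_subset _ _) hFfin
    omega
  have h2 := Set.ncard_le_ncard hsub ((hFfin.image _).union hpre)
  omega

/-- with one inner automorphism -/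
theorem false_of_inner (hFl : FlOK B Φ ht ρ Fl) {a : Y} (hα : α = MulAut.conj a) : False := by
  by_cases hB : NoN x ρ α β N
  · obtain ⟨g, h1, h2⟩ := exists_frame' h ha hc.aa hc.bb hc.ab
    exact caseB (h.map (MulAut.conj g)) (ha.map (MulAut.conj g)) hc hFl (hB.mv g) h1 h2 hα
  · unfold NoN at hB
    push Not at hB
    obtain ⟨g0, e1, e2, n, hn, hnO, hn1⟩ := hB
    obtain ⟨g, hg, h1, h2⟩ := exists_frame h ha hc.aa hc.bb hc.ab rfl e1 e2
    have h' := h.map (MulAut.conj g)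
    have ha' := ha.map (MulAut.conj g)
    have hne : ∃ n ∈ N, n ∈ Qs B Φ (mv (MulAut.conj g) x) ρ ∧ n ≠ 1 := by
      refine ⟨n, hn, ?_, hn1⟩
      rw [← RA.OO_eq h' ha' ha.ρmem]
      have e : mv (MulAut.conj g) x ρ = g0 * x ρ * g0⁻¹ := hg
      rw [e]; exact hnO
    by_cases hβo : ∃ b, β = MulAut.conj b
    · obtain ⟨b, hb⟩ := hβo
      exact caseA_inner h' ha' hc hne h1 h2 hα hb
    · exact caseA_outer h' ha' hc hFl hne h2 hβo

/-- **No configuration.** -/
theorem false_of_conf (hFl : FlOK B Φ ht ρ Fl) : False := by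
  by_cases hα : ∃ a, α = MulAut.conj a
  · obtain ⟨a, hα⟩ := hα
    exact false_of_inner h ha hc hFl hα
  by_cases hβ : ∃ b, β = MulAut.conj b
  · obtain ⟨b, hβ⟩ := hβ
    exact false_of_inner h ha (conf_symm hc) hFl hβ
  -- both outer: the product is inner
  obtain ⟨g, h1, h2⟩ := exists_frame' h ha hc.aa hc.bb hc.ab
  have h' := h.map (MulAut.conj g)
  have ha' := ha.map (MulAut.conj g)
  obtain ⟨s, hs, τ, hτ, hατ⟩ := ha'.auto α h1
  obtain ⟨s', hs', τ', hτ', hβτ⟩ := ha'.auto β h2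
  have hid : ¬ ∀ c ∈ Φ, τ c = c := fun hid => hα ⟨s, inner_of_id h' hατ hid⟩
  have hid' : ¬ ∀ c ∈ Φ, τ' c = c := fun hid => hβ ⟨s', inner_of_id h' hβτ hid⟩
  have hττ : ∀ c ∈ Φ, τ (τ' c) = c := hFl.comp τ τ' hτ hτ' hid hid'
  have hτΦ : ∀ c ∈ Φ, τ' c ∈ Φ := by
    intro c hcΦ
    by_cases h0 : 0 < ht c
    · exact (hFl.pos τ' hτ' c ⟨hcΦ, h0⟩).1
    · have h3 := h.ht0 c hcΦ
      have h4 := (hFl.pos τ' hτ' (-c) ⟨h.rt.neg_mem c hcΦ, by rw [map_neg]; omega⟩).1
      rw [map_neg] at h4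
      have := h.rt.neg_mem _ h4
      rwa [neg_neg] at this
  have hin : α * β = MulAut.conj (α s' * s) := by
    apply h'.aut_ext
    intro c hcΦ
    show α (β _) = _
    rw [hβτ c hcΦ, map_mul, map_mul, map_inv, hατ _ (hτΦ c hcΦ), hττ c hcΦ, MulAut.conj_apply]
    group
  exact false_of_inner h ha (conf_mul hc) hFl hin

end

end Cfsg.Agent.OddHalf.D4.En2
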