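import Mathlib
import Cfsg.Agent.OddHalf.D4.En2.Kill
import Cfsg.Agent.KFacts.En.Dir
import Cfsg.Agent.KFacts.RgdDiag
import Cfsg.Agent.OddHalf.SL.Index
import Cfsg.Agent.KFacts.SLRow.Diag

/-!
# ODD, D4, `E_n(2)`: the diagram automorphisms

* `FlM M A τ` : `τ r = r ∘ σ⁻¹` for a symmetry `σ` of the diagram;
* `flOK_E6`, `flOK_E7`, `flOK_E8`.
-/

set_option autoImplicit false
set_option linter.unusedSectionVars false

namespace Cfsg.Agent.OddHalf.D4.En2.FlM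

open CoxeterSystem Cfsg.Lie Cfsg.Agent.ChevalleyStructure.CoxeterGeom Cfsg.Agent.Tits.Roots Cfsg.Agent.Tits.Core
  Cfsg.Agent.Nodes.Reps Cfsg.Agent.OddHalf.SL.Index Cfsg.Agent.OddHalf.SL.Defs

section

variable {I W : Type*} [Fintype I] [DecidableEq I] [Group W] {M : CoxeterMatrix I}
  {cs : CoxeterSystem M W} {A : I → I → ℤ} {h : IsCartan M A}

/-- the diagram automorphisms of the root lattice -/
def FlM {I : Type*} (M : CoxeterMatrix I) (A : I → I → ℤ) (τ : (I → ℤ) →+ (I → ℤ)) : Prop :=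
  ∃ σ : Equiv.Perm I, (∀ i j, M (σ i) (σ j) = M i j) ∧ (∀ i j, A (σ i) (σ j) = A i j) ∧ ∀ r, τ r = r ∘ σ.symm

theorem isRoot_comp {σ : Equiv.Perm I} (hσ : ∀ i j, M (σ i) (σ j) = M i j) (hA : ∀ i j, A (σ i) (σ j) = A i j)
    {c : I → ℤ} (hc : IsRoot cs h c) : IsRoot cs h (c ∘ σ.symm) := by
  obtain ⟨w, i, rfl⟩ := hc
  refine ⟨Cfsg.Agent.KFacts.RgdDiag.hat cs σ hσ w, σ i, ?_⟩
  rw [← Cfsg.Agent.KFacts.RgdDiag.rep_hat hσ hA, Cfsg.Agent.KFacts.RgdDiag.sr_comp]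

/-- `FlOK` from the list of symmetries -/
theorem flOK {ht : (I → ℤ) →+ ℤ} (htp : ∀ x, IsRoot cs h x → (0 < ht x ↔ 0 ≤ x)) (f : I → I)
    (hcl : ∀ σ : Equiv.Perm I, (∀ i j, M (σ i) (σ j) = M i j) → (∀ i, σ i = i) ∨ ∀ i, σ i = f i)
    (hff : ∀ i, f (f i) = i) {ρ : I → ℤ}
    (hcount : (∃ i, f i ≠ i) → 8 < {t | t ∈ {x | IsRoot cs h x} ∧ Bf A t ρ = 1 ∧ t ∘ f ≠ t}.ncard) :
    FlOK (Bf A) {x | IsRoot cs h x} ht ρ (FlM M A) := by
  have hsymm : ∀ σ : Equiv.Perm I, (∀ i, σ i = f i) → ∀ i, σ.symm i = f i := by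
    intro σ h1 i
    apply σ.injective
    rw [Equiv.apply_symm_apply, h1, hff]
  constructor
  · rintro τ ⟨σ, hσ, hA, hτ⟩ c ⟨hc, hc0⟩
    rw [hτ]
    have h1 := isRoot_comp (h := h) hσ hA hc
    refine ⟨h1, (htp _ h1).2 ?_⟩
    intro i
    exact (htp c hc).1 hc0 (σ.symm i)
  · rintro τ ⟨σ, -, -, hτ⟩ c d hcd
    rw [hτ, hτ] at hcd
    funext i
    have := congrFun hcd (σ i)
    simpa using this
  · rintro τ ⟨σ, hσ, -, hτ⟩
    rcases hcl σ hσ with h1 | h1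
    · left
      intro c _
      rw [hτ]
      funext i
      show c (σ.symm i) = c i
      congr 1
      rw [Equiv.symm_apply_eq]; exact (h1 i).symm
    · by_cases hex : ∃ i, f i ≠ i
      · right
        have e : {t | t ∈ {x | IsRoot cs h x} ∧ Bf A t ρ = 1 ∧ τ t ≠ t} =
            {t | t ∈ {x | IsRoot cs h x} ∧ Bf A t ρ = 1 ∧ t ∘ f ≠ t} := by
          ext t
          have : τ t = t ∘ f := by
            rw [hτ]
            funext i
            show t (σ.symm i) = t (f i)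
            rw [hsymm σ h1 i]
          constructor
          · rintro ⟨a, b, c⟩
            exact ⟨a, b, by rw [← this]; exact c⟩
          · rintro ⟨a, b, c⟩
            exact ⟨a, b, by rw [this]; exact c⟩
        rw [e]
        exact hcount hex
      · left
        push Not at hex
        intro c _
        rw [hτ]
        funext i
        show c (σ.symm i) = c i
        rw [hsymm σ h1 i, hex i]
  · rintro τ τ' ⟨σ, hσ, -, hτ⟩ ⟨σ', hσ', -, hτ'⟩ n1 n2 c _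
    have key : ∀ (τ : (I → ℤ) →+ (I → ℤ)) (σ : Equiv.Perm I), (∀ i j, M (σ i) (σ j) = M i j) →
        (∀ r, τ r = r ∘ σ.symm) → (¬ ∀ c ∈ {x | IsRoot cs h x}, τ c = c) → ∀ i, σ.symm i = f i := by
      intro τ σ hσ hτ hn
      rcases hcl σ hσ with h1 | h1
      · exfalso
        apply hn
        intro c _
        rw [hτ]
        funext i
        show c (σ.symm i) = c i
        congr 1
        rw [Equiv.symm_apply_eq]; exact (h1 i).symm
      · exact hsymm σ h1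
    rw [hτ', hτ]
    funext i
    show c (σ'.symm (σ.symm i)) = c i
    rw [key τ σ hσ hτ n1, key τ' σ' hσ' hτ' n2, hff]

end

/-! ### Exceptional types -/

open Cfsg.Agent.KFacts.SLRow.Diag

/-- the flip -/
def fl6 : Fin 6 → Fin 6 := ![5, 1, 4, 3, 2, 0]

theorem sym_E6 (σ : Equiv.Perm (Fin 6)) (hσ : ∀ i j, CoxeterMatrix.E₆ (σ i) (σ j) = CoxeterMatrix.E₆ i j) :
    (∀ i, σ i = i) ∨ ∀ i, σ i = fl6 i := by
  have hm : ∀ i j, m6 i j = 3 → m6 (σ i) (σ j) = 3 := fun i j h => (hσ i j).trans h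
  have hi : ∀ i j, i ≠ j → σ i ≠ σ j := fun i j h => σ.injective.ne h
  rcases e6 (σ 3) (σ 1) (hm 1 3 rfl) (σ 2) (hm 2 3 rfl) (hi _ _ (by decide)) (σ 4) (hm 4 3 rfl) (hi _ _ (by decide))
    (hi _ _ (by decide)) (σ 0) (hm 0 2 rfl) (hi _ _ (by decide)) (σ 5) (hm 5 4 rfl) (hi _ _ (by decide)) with h | h
  · left
    intro i
    fin_cases i
    · exact h.1
    · exact h.2.1
    · exact h.2.2.1
    · exact h.2.2.2.1
    · exact h.2.2.2.2.1
    · exact h.2.2.2.2.2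
  · right
    intro i
    fin_cases i
    · exact h.1
    · exact h.2.1
    · exact h.2.2.1
    · exact h.2.2.2.1
    · exact h.2.2.2.2.1
    · exact h.2.2.2.2.2

theorem sym_E7 (σ : Equiv.Perm (Fin 7)) (hσ : ∀ i j, CoxeterMatrix.E₇ (σ i) (σ j) = CoxeterMatrix.E₇ i j) (i : Fin 7) :
    σ i = i := by
  have hm : ∀ i j, m7 i j = 3 → m7 (σ i) (σ j) = 3 := fun i j h => (hσ i j).trans h
  have hi : ∀ i j, i ≠ j → σ i ≠ σ j := fun i j h => σ.injective.ne h
  have h := e7 (σ 3) (σ 1) (hm 1 3 rfl) (σ 2) (hm 2 3 rfl) (hi _ _ (by decide)) (σ 4) (hm 4 3 rfl) (hi _ _ (by decide))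
    (hi _ _ (by decide)) (σ 0) (hm 0 2 rfl) (hi _ _ (by decide)) (σ 5) (hm 5 4 rfl) (hi _ _ (by decide))
    (σ 6) (hm 6 5 rfl) (hi _ _ (by decide))
  fin_cases i
  · exact h.1
  · exact h.2.1
  · exact h.2.2.1
  · exact h.2.2.2.1
  · exact h.2.2.2.2.1
  · exact h.2.2.2.2.2.1
  · exact h.2.2.2.2.2.2

theorem sym_E8 (σ : Equiv.Perm (Fin 8)) (hσ : ∀ i j, CoxeterMatrix.E₈ (σ i) (σ j) = CoxeterMatrix.E₈ i j) (i : Fin 8) :
    σ i = i := by
  have hm : ∀ i j, m8 i j = 3 → m8 (σ i) (σ j) = 3 := fun i j h => (hσ i j).trans h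
  have hi : ∀ i j, i ≠ j → σ i ≠ σ j := fun i j h => σ.injective.ne h
  have h := e8 (σ 3) (σ 1) (hm 1 3 rfl) (σ 2) (hm 2 3 rfl) (hi _ _ (by decide)) (σ 4) (hm 4 3 rfl) (hi _ _ (by decide))
    (hi _ _ (by decide)) (σ 0) (hm 0 2 rfl) (hi _ _ (by decide)) (σ 5) (hm 5 4 rfl) (hi _ _ (by decide))
    (σ 6) (hm 6 5 rfl) (hi _ _ (by decide)) (σ 7) (hm 7 6 rfl) (hi _ _ (by decide))
  fin_cases i
  · exact h.1
  · exact h.2.1
  · exact h.2.2.1
  · exact h.2.2.2.1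
  · exact h.2.2.2.2.1
  · exact h.2.2.2.2.2.1
  · exact h.2.2.2.2.2.2.1
  · exact h.2.2.2.2.2.2.2

variable {W : Type*} [Group W]

theorem flOK_E7 {cs : CoxeterSystem CoxeterMatrix.E₇ W} {A : Fin 7 → Fin 7 → ℤ} {h : IsCartan CoxeterMatrix.E₇ A}
    {ht : (Fin 7 → ℤ) →+ ℤ} (htp : ∀ x, IsRoot cs h x → (0 < ht x ↔ 0 ≤ x)) {ρ : Fin 7 → ℤ} :
    FlOK (Bf A) {x | IsRoot cs h x} ht ρ (FlM CoxeterMatrix.E₇ A) :=
  flOK htp id (fun σ hσ => Or.inl (sym_E7 σ hσ)) (fun _ => rfl) (fun ⟨_, hi⟩ => absurd rfl hi)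

theorem flOK_E8 {cs : CoxeterSystem CoxeterMatrix.E₈ W} {A : Fin 8 → Fin 8 → ℤ} {h : IsCartan CoxeterMatrix.E₈ A}
    {ht : (Fin 8 → ℤ) →+ ℤ} (htp : ∀ x, IsRoot cs h x → (0 < ht x ↔ 0 ≤ x)) {ρ : Fin 8 → ℤ} :
    FlOK (Bf A) {x | IsRoot cs h x} ht ρ (FlM CoxeterMatrix.E₈ A) :=
  flOK htp id (fun σ hσ => Or.inl (sym_E8 σ hσ)) (fun _ => rfl) (fun ⟨_, hi⟩ => absurd rfl hi)

/-! ### `E₆` -/

section E6

open Cfsg.Agent.ChevalleyStructure Cfsg.Agent.ChevalleyStructure.RootVec Cfsg.Agent.ChevalleyStructure.RootVecTab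
  Cfsg.Agent.ChevalleyStructure.CoxeterGeomTypes Cfsg.Agent.Nodes.RGDChev Cfsg.Agent.KFacts.En.Roots
  Cfsg.Agent.KFacts.En.Tab

/-- the flip on indices -/
def flN (k : ℕ) : ℕ := if k = 0 then 5 else if k = 2 then 4 else if k = 4 then 2 else if k = 5 then 0 else k

/-- moved roots with coefficient one at the second simple root -/
def chkMv (r : ℕ) : Bool :=
  Nat.beq (dig (code chevE6 r) 4) 9 &&
    anyLT (fun k => !(Nat.beq (dig (code chevE6 r) (5 - k)) (dig (code chevE6 r) (5 - flN k)))) 6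

theorem len_Mv : ((List.range 72).filter chkMv).length = 12 := by decide +kernel

theorem nroots_E6 : chevE6.nroots = 72 := by decide +kernel

theorem rank_E6 : chevE6.rank = 6 := by decide +kernel

/-- the pairings of the highest root -/
theorem cart_E6 : allLT (fun k => Nat.beq (cart chevE6 k 71) (if k = 1 then 9 else 8)) 6 = true := by decide +kernel

theorem cartan_E6 {k : ℕ} (hk : k < 6) : chevE6.cartan k 71 = if k = 1 then 1 else 0 := by
  have h1 := cart_E6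
  simp only [allLT_iff, beq_iff] at h1
  rw [cartan_eq_cart ty_E6.ty.checked (by rw [rank_E6]; exact hk) (by rw [nroots_E6]; norm_num), h1 k hk]
  by_cases h2 : k = 1
  · rw [if_pos h2, if_pos h2]; norm_num
  · rw [if_neg h2, if_neg h2]; norm_num

theorem bf_ρ (r : ℕ) : bf chevE6 6 (vec chevE6 6 r) (vec chevE6 6 71) = rt chevE6 r 1 := by
  rw [bf_vec ty_E6.ty (by rw [nroots_E6]; norm_num), rank_E6]
  rw [Finset.sum_eq_single 1]
  · rw [cartan_E6 (by norm_num), if_pos rfl, mul_one]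
  · intro k hk h1
    rw [cartan_E6 (Finset.mem_range.mp hk), if_neg h1, mul_zero]
  · intro h1
    exact absurd (Finset.mem_range.mpr (by norm_num)) h1

theorem Bf_eq (x y : Fin 6 → ℤ) : Bf (cartanOf chevE6 6) x y = bf chevE6 6 x y := by
  rw [bf_symm ty_E6]
  rfl

theorem count_E6 (cs : CoxeterSystem CoxeterMatrix.E₆ W) :
    8 < {t | t ∈ {x | IsRoot cs ty_E6.ty.isCartan x} ∧ Bf (cartanOf chevE6 6) t (vec chevE6 6 71) = 1 ∧
      t ∘ fl6 ≠ t}.ncard := by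
  classical
  have hroots : {x | IsRoot cs ty_E6.ty.isCartan x} = Phi chevE6 6 := by
    ext x
    exact isRoot_iff ty_E6.ty cs x
  have hfin : {t | t ∈ {x | IsRoot cs ty_E6.ty.isCartan x} ∧ Bf (cartanOf chevE6 6) t (vec chevE6 6 71) = 1 ∧
      t ∘ fl6 ≠ t}.Finite := by
    rw [hroots]
    exact finite_Phi.subset fun x hx => hx.1
  have hnd : ((List.range 72).filter chkMv).Nodup := List.nodup_range.filter _
  let S : Finset ℕ := ((List.range 72).filter chkMv).toFinset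
  have hS : S.card = 12 := by
    rw [List.toFinset_card_of_nodup hnd, len_Mv]
  have hSm : ∀ r ∈ S, r < 72 ∧ chkMv r = true := by
    intro r hr
    rw [List.mem_toFinset, List.mem_filter, List.mem_range] at hr
    exact hr
  have hsub : ((S.image (vec chevE6 6) : Finset (Fin 6 → ℤ)) : Set (Fin 6 → ℤ)) ⊆
      {t | t ∈ {x | IsRoot cs ty_E6.ty.isCartan x} ∧ Bf (cartanOf chevE6 6) t (vec chevE6 6 71) = 1 ∧
        t ∘ fl6 ≠ t} := by
    intro t ht
    rw [Finset.mem_coe, Finset.mem_image] at ht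
    obtain ⟨r, hr, rfl⟩ := ht
    obtain ⟨h1, h2⟩ := hSm r hr
    have hr' : r < chevE6.nroots := by rw [nroots_E6]; exact h1
    simp only [chkMv, Bool.and_eq_true, beq_iff, anyLT_iff, Bool.not_eq_true'] at h2
    obtain ⟨h3, k, hk, h4⟩ := h2
    have hrt : ∀ k : ℕ, k < 6 → rt chevE6 r k = (dig (code chevE6 r) (5 - k) : ℤ) - 8 := by
      intro k hk
      rw [rt_of_lt hr' (by rw [rank_E6]; exact hk), rank_E6]
    refine ⟨?_, ?_, ?_⟩
    · rw [hroots]; exact vec_mem hr'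
    · rw [Bf_eq, bf_ρ, hrt 1 (by norm_num)]
      have : dig (code chevE6 r) (5 - 1) = 9 := h3
      rw [this]; norm_num
    · intro h5
      have h6 := congrFun h5 ⟨k, hk⟩
      have h7 : rt chevE6 r (fl6 ⟨k, hk⟩ : Fin 6) = rt chevE6 r k := h6
      have h8 : ((fl6 ⟨k, hk⟩ : Fin 6) : ℕ) = flN k := by
        interval_cases k <;> rfl
      rw [h8, hrt k hk, hrt (flN k) (by rw [← h8]; exact Fin.is_lt _)] at h7
      have h9 : dig (code chevE6 r) (5 - k) = dig (code chevE6 r) (5 - flN k) := by omega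
      rw [← h9] at h4
      rw [Nat.beq_refl] at h4
      exact absurd h4 (by decide)
  have h1 := Set.ncard_le_ncard hsub hfin
  rw [Set.ncard_coe_finset, Finset.card_image_of_injOn, hS] at h1
  · omega
  · intro r hr s hs hrs
    exact vec_inj ty_E6.ty (by rw [nroots_E6]; exact (hSm r hr).1) (by rw [nroots_E6]; exact (hSm s hs).1) hrs

theorem flOK_E6 {cs : CoxeterSystem CoxeterMatrix.E₆ W} {ht : (Fin 6 → ℤ) →+ ℤ}
    (htp : ∀ x, IsRoot cs ty_E6.ty.isCartan x → (0 < ht x ↔ 0 ≤ x)) :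
    FlOK (Bf (cartanOf chevE6 6)) {x | IsRoot cs ty_E6.ty.isCartan x} ht (vec chevE6 6 71)
      (FlM CoxeterMatrix.E₆ (cartanOf chevE6 6)) :=
  flOK htp fl6 sym_E6 (by decide) fun _ => count_E6 cs

/-- `vec chevE6 6 71` is a dominant root -/
theorem dom_E6 {r : ℕ} (h0 : ∀ k < 6, 0 ≤ rt chevE6 r k) :
    0 ≤ Bf (cartanOf chevE6 6) (vec chevE6 6 71) (vec chevE6 6 r) := by
  rw [Bf_eq, bf_symm ty_E6, bf_ρ]
  exact h0 1 (by norm_num)

theorem pos_E6 {k : ℕ} (hk : k < 6) : 0 ≤ rt chevE6 71 k := by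
  have h1 : allLT (fun k => Nat.ble 8 (dig (code chevE6 71) (5 - k))) 6 = true := by decide +kernel
  simp only [allLT_iff, ble_iff] at h1
  rw [rt_of_lt (by rw [nroots_E6]; norm_num) (by rw [rank_E6]; exact hk), rank_E6]
  have := h1 k hk
  have e : 6 - 1 - k = 5 - k := by omega
  rw [e]
  omega

end E6

end Cfsg.Agent.OddHalf.D4.En2.FlM
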