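import Mathlib
import Cfsg.Agent.OddHalf.D4.En2.Base
import Cfsg.Agent.OddHalf.SL.OfRGD
import Cfsg.Agent.KFacts.ChevTwoSys
import Cfsg.Agent.KFacts.RgdAutFacts
import Cfsg.Agent.KFacts.RgdTau

/-!
# ODD, D4, `E_n(2)`: `RE` and `RA` from a simply laced root group datum with coordinates over the field of two elements

* `re` : `RE (Bf A) {x | IsRoot cs h x} (fun c => e c 1) ht`;
* `ra` : `RA ..`, the diagram automorphisms are the `x ↦ x ∘ σ⁻¹`, `A (σ i) (σ j) = A i j`.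
-/

set_option autoImplicit false
set_option linter.unusedSectionVars false

namespace Cfsg.Agent.OddHalf.D4.En2.InstRE

open CoxeterSystem Cfsg.Agent.ChevalleyStructure.CoxeterGeom Cfsg.Agent.Tits.Roots Cfsg.Agent.Tits.Core
  Cfsg.Agent.Tits.RootComb Cfsg.Agent.Nodes.Comb Cfsg.Agent.Nodes.Reps Cfsg.Agent.Nodes.BNOf
  Cfsg.Agent.KFacts.ChevTwo Cfsg.Agent.KFacts.RgdPar Cfsg.Agent.KFacts.RgdCent Cfsg.Agent.OddHalf.SL.Index
  Cfsg.Agent.Nodes.RGDLib Cfsg.Agent.Nodes.Bruhat Cfsg.Agent.Nodes.Coroot Cfsg.Agent.Nodes.SimplyLaced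

variable {I W Y F : Type*} [Fintype I] [DecidableEq I] [Group W] [Group Y] [Field F]
  {M : CoxeterMatrix I} {cs : CoxeterSystem M W} {A : I → I → ℤ} {h : IsCartan M A} {T : Subgroup Y}
  {n : I → Y} {X : (I → ℤ) → Subgroup Y} {e : (I → ℤ) → F → Y}

section

variable {R : RGD cs h 2 T n X} (S : Sys R e) (h2 : ∀ t : F, t = 0 ∨ t = 1) (hN : NoCent cs h T X)

include S h2

/-- The root groups. -/
theorem mem_X_iff {x : I → ℤ} (hx : IsRoot cs h x) (g : Y) : g ∈ X x ↔ g = 1 ∨ g = e x 1 := by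
  rw [S.mem_X x hx]
  constructor
  · rintro ⟨t, rfl⟩
    rcases h2 t with rfl | rfl
    · left; exact S.data.zero hx
    · right; rfl
  · rintro (rfl | rfl)
    · exact ⟨0, S.data.zero hx⟩
    · exact ⟨1, rfl⟩

theorem XS_eq {P : Set (I → ℤ)} (hP : ∀ x ∈ P, IsRoot cs h x) : XS (fun c => e c 1) P = RGD.Sup X P := by
  apply le_antisymm
  · unfold XS
    rw [Subgroup.closure_le]
    rintro _ ⟨c, hc, rfl⟩
    exact RGD.le_Sup hc ((mem_X_iff S h2 (hP c hc) _).2 (Or.inr rfl))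
  · refine RGD.Sup_le fun x hx g hg => ?_
    rcases (mem_X_iff S h2 (hP x hx) g).1 hg with rfl | rfl
    · exact one_mem _
    · exact Subgroup.subset_closure ⟨x, hx, rfl⟩

include hN

/-- The torus is trivial. -/
theorem T_eq {t : Y} (ht : t ∈ T) : t = 1 := by
  obtain ⟨χ, hχ⟩ := S.chi t ht
  apply hN t ht
  intro b hb v hv
  obtain ⟨u, rfl⟩ := (S.mem_X b hb v).1 hv
  have h3 := hχ b hb u
  have h4 : (((χ b).toMul : Fˣ) : F) = 1 := by
    rcases h2 (((χ b).toMul : Fˣ) : F) with h5 | h5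
    · exact absurd h5 (Units.ne_zero _)
    · exact h5
  rw [h4, one_mul] at h3
  calc t * e b u = t * e b u * t⁻¹ * t := by group
    _ = e b u * t := by rw [h3]

theorem PS_eq {P : Set (I → ℤ)} : PS T X P = RGD.Sup X P := by
  have h3 : T = ⊥ := by
    rw [eq_bot_iff]
    intro t ht
    rw [Subgroup.mem_bot]
    exact T_eq S h2 hN ht
  unfold PS
  rw [h3, bot_sup_eq]

end

section RE

variable [Finite W] {R : RGD cs h 2 T n X} (S : Sys R e) (h2 : ∀ t : F, t = 0 ∨ t = 1) (hN : NoCent cs h T X)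
  (hG : GG cs h T X = ⊤) (h4 : ∀ i j, M i j ≠ 4) (h6 : ∀ i j, M i j ≠ 6) (hirr : ∀ J : Set I, J.Nonempty → Jᶜ.Nonempty → ∃ i ∈ J, ∃ j ∈ Jᶜ, M i j ≠ 2)
  (h3 : 3 ≤ Fintype.card I) {ht : (I → ℤ) →+ ℤ} (ht0 : ∀ x, IsRoot cs h x → ht x ≠ 0)
  (hti : ∀ x y, IsRoot cs h x → IsRoot cs h y → ht x = ht y → x = y)
  (htp : ∀ x, IsRoot cs h x → (0 < ht x ↔ 0 ≤ x))
  (hq : ∀ r s b, IsRoot cs h r → IsRoot cs h s → IsRoot cs h b → Bf A r s = 0 → Bf A b r = 1 → Bf A b s = 1 →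
    ∃ c, IsRoot cs h c ∧ Bf A c r = 1 ∧ Bf A c s = 1 ∧ Bf A c b = 1)

omit S in
include htp in
theorem Pos_eq : Pos {x | IsRoot cs h x} ht = RGD.Pos cs h := by
  ext x
  constructor
  · rintro ⟨h1, h2⟩
    exact ⟨h1, (htp x h1).1 h2⟩
  · rintro ⟨h1, h2⟩
    exact ⟨h1, (htp x h1).2 h2⟩

include S in
theorem braid_of {a : I → ℤ} (ha : IsRoot cs h a) :
    e a 1 * e (-a) 1 * e a 1 = e (-a) 1 * e a 1 * e (-a) 1 := by
  have h5 := S.data.nel_conj ha ha (1 : F)
  rw [cpr_self cs h ha, nel_def] at h5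
  have h7 : a - (2 : ℤ) • a = -a := by rw [two_smul]; abel
  rw [h7] at h5
  have h8 : e a 1 * e (-a) 1 * e a 1 * e a 1 * (e a 1 * e (-a) 1 * e a 1)⁻¹ =
      e a 1 * e (-a) 1 * (e a 1 * (e (-a) 1)⁻¹ * (e a 1)⁻¹) := by group
  rw [h8, S.data.inv ha, S.data.inv ha.neg] at h5
  calc e a 1 * e (-a) 1 * e a 1 = e a 1 * e (-a) 1 * (e a 1 * e (-a) 1 * e a 1) * (e (-a) 1 * e a 1)⁻¹ := by group
    _ = e (-a) 1 * ((e a 1)⁻¹ * (e (-a) 1)⁻¹) := by rw [h5, mul_inv_rev]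
    _ = e (-a) 1 * e a 1 * e (-a) 1 := by rw [S.data.inv ha, S.data.inv ha.neg, mul_assoc]

include S h2 hN hG h4 h6 hirr h3 ht0 hti htp hq in
/-- **`RE`.** -/
theorem re : RE (Bf A) {x | IsRoot cs h x} (fun c => e c 1) ht where
  rt := roots cs h h4 h6
  orth := orth h4 h6 hirr
  tri := three h4 h6 hirr h3
  quad r hr s hs b hb h7 h8 h9 := hq r s b hr hs hb h7 h8 h9
  ht0 := ht0
  hti a ha b hb := hti a b ha hb
  gen := by
    rw [XS_eq (P := {x | IsRoot cs h x}) S h2 fun x hx => hx, ← PS_eq S h2 hN, ← hG]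
    rfl
  sq a ha := S.data.sq ha 1
  ne a ha := S.data.ne_one ha one_ne_zero
  comm a ha b hb hab := S.data.comm_of_nonneg ha hb (by rw [← bf_eq_cpr h4 h6 a hb]; exact hab) 1 1
  add a ha b hb hab := by
    have h5 : cpr cs h a b = -1 := by rw [← bf_eq_cpr h4 h6 a hb]; exact hab
    have h7 : cpr cs h b a = -1 := by rw [← bf_eq_cpr h4 h6 b ha, bf_symm h h4 h6]; exact hab
    have h8 := S.data.comm1 a b ha hb h5 h7 1 1
    rw [commutatorElement_def, S.data.inv ha, S.data.inv hb, one_mul] at h8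
    have h9 : IsRoot cs h (a + b) := (roots cs h h4 h6).add a ha b hb hab
    have h10 : e a 1 * e b 1 * e a 1 = e (a + b) 1 * e b 1 := by
      rw [← h8, mul_assoc _ (e b 1) (e b 1), S.data.sq hb, mul_one]
    have hR := roots cs h h4 h6
    show e a 1 * e b 1 * e a 1 = e b 1 * e (a + b) 1
    rw [h10]
    exact S.data.comm_of_nonneg h9 hb (by
      rw [← bf_eq_cpr h4 h6 (a + b) hb, hR.add_left, hR.two b hb, hab]; norm_num) 1 1
  braid a ha := braid_of S ha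
  cent a ha g hg := by
    have hP : ∀ x ∈ star cs h {a}, IsRoot cs h x := fun x hx => hx.1
    obtain ⟨t, ht, -, q, hq', rfl⟩ := S.centralizer (Ψ := {a}) (fun b hb => by
      rw [Set.mem_singleton_iff] at hb
      rw [hb]; exact ha) (g := g) (by rw [hG]; exact Subgroup.mem_top g) (z := fun b => e b 1) (fun b hb => by
      rw [Set.mem_singleton_iff] at hb
      subst hb
      exact ⟨S.mem ha 1, S.data.ne_one ha one_ne_zero, hg⟩)
    rw [T_eq S h2 hN ht, one_mul]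
    rw [XS_eq S h2 fun x hx => hx.1]
    have hsub : star cs h {a} ⊆ {c | c ∈ {x | IsRoot cs h x} ∧ 0 ≤ Bf A c a} := fun c hc => ⟨hc.1, by
      rw [bf_eq_cpr h4 h6 c ha]
      exact hc.2 a rfl⟩
    exact RGD.Sup_mono hsub hq'
  inter g Fs hFs := by
    have h5 := (inter R Fs (g := g) (by rw [hG]; exact Subgroup.mem_top g) (by
      intro f hf
      rw [PS_eq S h2 hN]
      have := hFs f hf
      rwa [XS_eq S h2 fun x hx => hx.1] at this)).1
    rw [PS_eq S h2 hN] at h5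
    rwa [XS_eq S h2 fun x hx => hx.1]
  inf P Q hP hQ hPc hQc := by
    have hR := roots cs h h4 h6
    have hcl : ∀ P : Set (I → ℤ), P ⊆ Pos {x | IsRoot cs h x} ht → Closed (Bf A) P →
        Cfsg.Agent.Nodes.Unique.Closed cs h P := by
      intro P hP hPc x hx y hy z hz
      have hxr := (hP hx).1
      have hyr := (hP hy).1
      by_cases hxy : x = y
      · subst hxy
        obtain ⟨hzr, m, a, b, hm, ha, hb, he⟩ := hz
        have : z = x := Cfsg.Agent.Nodes.Unique.eq_of_ray hzr hxr hm (add_pos ha hb) (by rw [he, add_smul])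
        rw [this]; exact hx
      · have hxy' : x ≠ -y := by
          rintro rfl
          have h7 := (hP hx).2
          rw [map_neg] at h7
          have h8 := (hP hy).2
          omega
        obtain ⟨h7, rfl⟩ := (Cfsg.Agent.OddHalf.SL.OfRGD.btwn_iff h4 h6 hxr hyr hxy hxy').1 hz
        exact hPc x hx y hy h7
    have hpos := Pos_eq (cs := cs) (h := h) htp
    have h5 := Cfsg.Agent.Nodes.Unique.inf_eq R (hpos ▸ hP) (hpos ▸ hQ) (hcl P hP hPc) (hcl Q hQ hQc)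
    rw [XS_eq S h2 fun x hx => (hP hx).1, XS_eq S h2 fun x hx => (hQ hx).1, XS_eq S h2 fun x hx => (hP hx.1).1, h5]

end RE

end Cfsg.Agent.OddHalf.D4.En2.InstRE
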