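import Mathlib
import Cfsg.Agent.OddHalf.D4.En2.InstRE
import Cfsg.Agent.OddHalf.D4.En2.Qa
import Cfsg.Agent.KFacts.RgdDiag
import Cfsg.Agent.KFacts.RgdTau

/-!
# ODD, D4, `E_n(2)`: `RA` from a simply laced root group datum with coordinates over the field of two elements

* `core` : `O_2(C(x a)) ≤ Q a` from `RE` and `U` Sylow;
* `ra` : `RA`; the diagram automorphisms are the maps `c ↦ c ∘ σ⁻¹`, `A (σ i) (σ j) = A i j`.
-/

set_option autoImplicit false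
set_option linter.unusedSectionVars false

namespace Cfsg.Agent.OddHalf.D4.En2

open Subgroup Cfsg.Agent.OddHalf.SL.Defs

section Core

variable {L Y : Type*} [AddCommGroup L] [Group Y]
variable {B : L → L → ℤ} {Φ : Set L} {x : L → Y} {ht : L →+ ℤ} {ρ : L}

/-- `ht` after the reflection in `c` -/
def htr (rt : Roots B Φ) (ht : L →+ ℤ) (c : L) : L →+ ℤ :=
  AddMonoidHom.mk' (fun d => ht d - B d c * ht c) fun a b => by
    rw [map_add, rt.add_left]; ring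

theorem htr_apply (rt : Roots B Φ) (ht : L →+ ℤ) (c d : L) : htr rt ht c d = ht d - B d c * ht c := rfl

theorem htr_eq (rt : Roots B Φ) (ht : L →+ ℤ) (c d : L) : htr rt ht c d = ht (d - B d c • c) := by
  rw [htr_apply, map_sub, map_zsmul, smul_eq_mul]

theorem core_rho [Finite Y] (h : RE B Φ x ht) (hρ : ρ ∈ Φ) (high : ∀ c ∈ Φ, 0 < ht c → 0 ≤ B c ρ)
    (syl : ∃ S : Sylow 2 Y, (S : Subgroup Y) = XS x (Pos Φ ht)) {P : Subgroup Y} (hP : IsPGroup 2 ↥P)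
    (_ : ∀ p ∈ P, p * x ρ = x ρ * p) (hn : ∀ c, c * x ρ = x ρ * c → ∀ p ∈ P, c * p * c⁻¹ ∈ P) :
    P ≤ XS x {c | c ∈ Φ ∧ 0 < B c ρ} := by
  classical
  have rt := h.rt
  obtain ⟨S, hS⟩ := syl
  have hUc : ∀ u ∈ XS x (Pos Φ ht), u * x ρ = x ρ * u := by
    intro u hu
    exact (comm_XS (g := x ρ) (fun c hc' => h.comm ρ hρ c hc'.1 (by rw [rt.symm]; exact high c hc'.1 hc'.2)) hu).symm
  have hPU : P ≤ XS x (Pos Φ ht) := by
    have hU2 : IsPGroup 2 ↥(XS x (Pos Φ ht)) := by rw [← hS]; exact S.2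
    have hN : XS x (Pos Φ ht) ≤ normalizer (P : Set Y) := by
      intro u hu
      rw [mem_normalizer_iff]
      intro p
      refine ⟨hn u (hUc u hu) p, fun hp => ?_⟩
      have h3 := hn u⁻¹ (by
        have := hUc u⁻¹ ((XS x (Pos Φ ht)).inv_mem hu)
        exact this) _ hp
      have e1 : u⁻¹ * (u * p * u⁻¹) * u⁻¹⁻¹ = p := by group
      rwa [e1] at h3
    have h3 : IsPGroup 2 ↥(P ⊔ XS x (Pos Φ ht)) := hP.to_sup_of_normal_left' hU2 hN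
    have h4 := S.3 h3 (by rw [hS]; exact le_sup_right)
    rw [← hS, ← h4]
    exact le_sup_left
  intro p hp
  have hfin : {c | c ∈ Φ ∧ B c ρ = 0}.Finite := rt.fin.subset fun c hc' => hc'.1
  let Fs : List (L →+ ℤ) := ht :: (hfin.toFinset.toList.map fun c => htr rt ht c)
  have hF : ∀ f ∈ Fs, p ∈ XS x {c | c ∈ Φ ∧ 0 ≤ f c} := by
    intro f hf
    rcases List.mem_cons.1 hf with rfl | hf
    · have hsub : Pos Φ f ⊆ {c | c ∈ Φ ∧ 0 ≤ f c} := fun c hc' => ⟨hc'.1, le_of_lt hc'.2⟩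
      exact XS_mono hsub (hPU hp)
    · obtain ⟨c, hc', rfl⟩ := List.mem_map.1 hf
      rw [Finset.mem_toList, Set.Finite.mem_toFinset] at hc'
      obtain ⟨hcΦ, hcρ⟩ := hc'
      have hact : ∀ d ∈ Φ, (x c * x (-c) * x c) * x d * (x c * x (-c) * x c)⁻¹ = x (d - B d c • c) :=
        fun d hd => h.refl_conj hcΦ hd
      generalize hgdef : x c * x (-c) * x c = g at hact
      have hgρ : g * x ρ = x ρ * g := by
        have h3 := hact ρ hρ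
        rw [rt.symm, hcρ, zero_smul, sub_zero, mul_inv_eq_iff_eq_mul] at h3
        exact h3
      have hgρ' : g⁻¹ * x ρ = x ρ * g⁻¹ := by
        calc g⁻¹ * x ρ = g⁻¹ * (x ρ * g) * g⁻¹ := by group
          _ = g⁻¹ * (g * x ρ) * g⁻¹ := by rw [hgρ]
          _ = x ρ * g⁻¹ := by group
      have h3 := hPU (hn g⁻¹ hgρ' p hp)
      have h4 : p = g * (g⁻¹ * p * g⁻¹⁻¹) * g⁻¹ := by group
      rw [h4]
      refine conj_mem_XS (fun d hd => ?_) h3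
      rw [hact d hd.1]
      refine mem_XS ⟨h.refl_mem hcΦ hd.1, ?_⟩
      rw [htr_eq]
      have h5 : d - B d c • c - B (d - B d c • c) c • c = d := by
        rw [rt.sub_left, h.B_smul_left, h.self hcΦ]
        have h6 : (B d c - B d c * 2) • c = -(B d c • c) := by
          rw [← neg_smul]; congr 1; ring
        rw [h6]; abel
      rw [h5]
      exact le_of_lt hd.2
  have h5 := h.inter p Fs hF
  have hsub : {c | c ∈ Φ ∧ ∀ f ∈ Fs, 0 ≤ f c} ⊆ {c | c ∈ Φ ∧ 0 < B c ρ} := by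
    intro c hc'
    refine ⟨hc'.1, ?_⟩
    have h6 : 0 ≤ ht c := hc'.2 ht (List.mem_cons_self ..)
    have h7 : 0 < ht c := lt_of_le_of_ne h6 (h.ht0 c hc'.1).symm
    have h8 := high c hc'.1 h7
    rcases h8.lt_or_eq with h9 | h9
    · exact h9
    · exfalso
      have h10 := hc'.2 (htr rt ht c) (List.mem_cons_of_mem _ (List.mem_map.2 ⟨c, by
        rw [Finset.mem_toList, Set.Finite.mem_toFinset]
        exact ⟨hc'.1, h9.symm⟩, rfl⟩))
      rw [htr_apply, rt.two c hc'.1] at h10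
      omega
  exact XS_mono hsub h5

theorem core [Finite Y] (h : RE B Φ x ht) (hρ : ρ ∈ Φ) (high : ∀ c ∈ Φ, 0 < ht c → 0 ≤ B c ρ)
    (syl : ∃ S : Sylow 2 Y, (S : Subgroup Y) = XS x (Pos Φ ht)) {a : L} (ha : a ∈ Φ) {P : Subgroup Y}
    (hP : IsPGroup 2 ↥P) (hc : ∀ p ∈ P, p * x a = x a * p)
    (hn : ∀ c, c * x a = x a * c → ∀ p ∈ P, c * p * c⁻¹ ∈ P) : P ≤ XS x {c | c ∈ Φ ∧ 0 < B c a} := by
  obtain ⟨g, w, hw, hwa⟩ := h.exists_wl hρ ha
  have hga : g * x ρ * g⁻¹ = x a := by rw [hw.act ρ hρ, hwa]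
  have h3 := core_rho h hρ high syl (P := P.map (MulAut.conj g⁻¹).toMonoidHom) (hP.map _) (by
    rintro _ ⟨p, hp, rfl⟩
    show g⁻¹ * p * g⁻¹⁻¹ * x ρ = x ρ * (g⁻¹ * p * g⁻¹⁻¹)
    have h4 := hc p hp
    rw [← hga] at h4
    calc g⁻¹ * p * g⁻¹⁻¹ * x ρ = g⁻¹ * (p * (g * x ρ * g⁻¹)) * g := by group
      _ = g⁻¹ * (g * x ρ * g⁻¹ * p) * g := by rw [h4]
      _ = x ρ * (g⁻¹ * p * g⁻¹⁻¹) := by group) (by
    rintro c hcρ _ ⟨p, hp, rfl⟩
    refine ⟨(g * c * g⁻¹) * p * (g * c * g⁻¹)⁻¹, hn _ ?_ p hp, ?_⟩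
    · rw [← hga]
      calc g * c * g⁻¹ * (g * x ρ * g⁻¹) = g * (c * x ρ) * g⁻¹ := by group
        _ = g * (x ρ * c) * g⁻¹ := by rw [hcρ]
        _ = g * x ρ * g⁻¹ * (g * c * g⁻¹) := by group
    · show g⁻¹ * ((g * c * g⁻¹) * p * (g * c * g⁻¹)⁻¹) * g⁻¹⁻¹ = c * (g⁻¹ * p * g⁻¹⁻¹) * c⁻¹
      group)
  intro p hp
  have h4 := h3 ⟨p, hp, rfl⟩
  have h5 := h.Q_wl hw hρ h4
  rw [hwa] at h5
  have h6 : g * (g⁻¹ * p * g⁻¹⁻¹) * g⁻¹ = p := by group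
  change g * (g⁻¹ * p * g⁻¹⁻¹) * g⁻¹ ∈ Qs B Φ x a at h5
  rwa [h6] at h5

end Core

end Cfsg.Agent.OddHalf.D4.En2

namespace Cfsg.Agent.OddHalf.D4.En2.InstRE

open CoxeterSystem Cfsg.Agent.ChevalleyStructure.CoxeterGeom Cfsg.Agent.Tits.Roots Cfsg.Agent.Tits.Core
  Cfsg.Agent.Tits.RootComb Cfsg.Agent.Nodes.Comb Cfsg.Agent.Nodes.Reps Cfsg.Agent.Nodes.BNOf
  Cfsg.Agent.KFacts.ChevTwo Cfsg.Agent.KFacts.RgdPar Cfsg.Agent.KFacts.RgdCent Cfsg.Agent.OddHalf.SL.Index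
  Cfsg.Agent.Nodes.RGDLib Cfsg.Agent.Nodes.Bruhat Cfsg.Agent.Nodes.Coroot Cfsg.Agent.Nodes.SimplyLaced
  Cfsg.Agent.KFacts.RgdAut Cfsg.Agent.KFacts.RgdDiag Cfsg.Agent.KFacts.RgdTau

variable {I W Y F : Type*} [Fintype I] [DecidableEq I] [Group W] [Group Y] [Field F]
  {M : CoxeterMatrix I} {cs : CoxeterSystem M W} {A : I → I → ℤ} {h : IsCartan M A} {T : Subgroup Y}
  {n : I → Y} {X : (I → ℤ) → Subgroup Y} {e : (I → ℤ) → F → Y}

theorem fix_of_le [Finite Y] {γ : MulAut Y} {U : Subgroup Y} (hγ : ∀ u ∈ U, γ u ∈ U) : Fix γ U := by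
  intro x
  refine ⟨fun hx => ?_, hγ x⟩
  let f : ↥U → ↥U := fun u => ⟨γ u, hγ u u.2⟩
  have hf : Function.Injective f := fun u v huv => Subtype.ext (γ.injective (congrArg Subtype.val huv))
  obtain ⟨u, hu⟩ := Finite.surjective_of_injective hf ⟨γ x, hx⟩
  have h3 : γ (u : Y) = γ x := congrArg Subtype.val hu
  rw [← γ.injective h3]
  exact u.2

/-- **`RA`.** -/
theorem ra [Finite W] [Finite Y] {R : RGD cs h 2 T n X} (S : Sys R e) (h2 : ∀ t : F, t = 0 ∨ t = 1)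
    (hN : NoCent cs h T X) (hG : GG cs h T X = ⊤) (h4 : ∀ i j, M i j ≠ 4) (h6 : ∀ i j, M i j ≠ 6)
    {ht : (I → ℤ) →+ ℤ} (htp : ∀ x, IsRoot cs h x → (0 < ht x ↔ 0 ≤ x))
    (hre : RE (Bf A) {x | IsRoot cs h x} (fun c => e c 1) ht) {ρ : I → ℤ} (hρ : IsRoot cs h ρ)
    (high : ∀ c, IsRoot cs h c → 0 < ht c → 0 ≤ Bf A c ρ) :
    RA (Bf A) {x | IsRoot cs h x} (fun c => e c 1) ht ρ
      (fun τ => ∃ σ : Equiv.Perm I, (∀ i j, M (σ i) (σ j) = M i j) ∧ (∀ i j, A (σ i) (σ j) = A i j) ∧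
        ∀ r, τ r = r ∘ σ.symm) := by
  have hp : Fact (Nat.Prime 2) := ⟨Nat.prime_two⟩
  have hpos : XS (fun c => e c 1) (Pos {x | IsRoot cs h x} ht) = RGD.Sup X (RGD.Pos cs h) := by
    rw [Pos_eq htp, XS_eq S h2 fun x hx => hx.1]
  have syl : ∃ P : Sylow 2 Y, (P : Subgroup Y) = XS (fun c => e c 1) (Pos {x | IsRoot cs h x} ht) := by
    rw [hpos]
    exact Cfsg.Agent.KFacts.RgdAutFacts.exists_sylow R hG
  have hU : (RGD.B cs h T X) = RGD.Sup X (RGD.Pos cs h) := PS_eq S h2 hN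
  refine ⟨hρ, high, syl, ?_, ?_, ?_⟩
  · intro g hg
    rw [hpos] at hg ⊢
    rw [← hU, ← normalizer_U' R hG]
    rw [Subgroup.mem_normalizer_iff]
    exact fun u => (fix_of_le (γ := MulAut.conj g) hg u).symm
  · intro a ha P hP hPc hPn
    exact core hre hρ high syl ha hP hPc hPn
  · intro β hβ
    rw [hpos] at hβ ⊢
    obtain ⟨u, hu, hf1, -, hf2, -, -⟩ := exists_frame R hG (fix_of_le hβ)
    obtain ⟨σ, hD⟩ := exists_diag R hG hf1 hf2
    have hσ := hD.matrix R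
    have hA : ∀ i j, A (σ i) (σ j) = A i j := by
      apply cartan_of_laced h _ hσ
      intro i j hij
      rcases h.rel i j hij with ⟨h0, -⟩ | ⟨h0, -⟩ | ⟨h0, -⟩ | ⟨h0, -⟩
      · left; exact h0
      · right; exact h0
      · exact absurd h0 (h4 i j)
      · exact absurd h0 (h6 i j)
    let τ : (I → ℤ) →+ (I → ℤ) := AddMonoidHom.mk' (fun c => c ∘ σ.symm) fun a b => rfl
    refine ⟨u⁻¹, inv_mem hu, τ, ⟨σ, hσ, hA, fun r => rfl⟩, fun c hc => ?_⟩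
    have h5 := (hD.root_comp R hA hc (e c 1)).2 (S.mem hc 1)
    have h7 : IsRoot cs h (c ∘ σ.symm) := by
      obtain ⟨w, i, rfl⟩ := hc
      rw [← rep_hat hσ hA, sr_comp]
      exact ⟨_, _, rfl⟩
    rcases (mem_X_iff S h2 h7 _).1 h5 with h8 | h8
    · exfalso
      rw [map_eq_one_iff _ (MulAut.conj u * β).injective] at h8
      exact S.data.ne_one hc one_ne_zero h8
    · have h9 : u * β (e c 1) * u⁻¹ = e (c ∘ σ.symm) 1 := h8
      show β (e c 1) = u⁻¹ * e (c ∘ σ.symm) 1 * u⁻¹⁻¹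
      rw [← h9]; group

end Cfsg.Agent.OddHalf.D4.En2.InstRE
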