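import Mathlib
import Cfsg.Agent.KFacts.En.Roots
import Cfsg.Agent.OddHalf.SL.Index

/-!
# ODD, D4, `E_n(2)`: kernel check of `quad`

`quad` : two orthogonal roots `r`, `s` and a root `b` at `60°` to both have a common companion `c` at `60°` to all
three (`E₆`, `E₇`, `E₈`).
-/

set_option autoImplicit false
set_option linter.unusedSectionVars false

namespace Cfsg.Agent.OddHalf.D4.En2.QuadTab

open Cfsg.Lie Cfsg.Agent.ChevalleyStructure.RootVecTab Cfsg.Agent.ChevalleyStructure.RootVec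

/-- `64 rank + Σ (8 + r_k) (8 + (α_k, s))` -/
def ipA (D : ChevalleyDatum) (r s : ℕ) : ℕ :=
  Nat.add (sumLT (fun k => Nat.mul (dig (code D r) (D.rank - 1 - k)) (cart D k s)) D.rank) (64 * D.rank)

/-- `8 Σ ((8 + r_k) + (8 + (α_k, s)))` -/
def ipB (D : ChevalleyDatum) (r s : ℕ) : ℕ :=
  Nat.mul 8 (Nat.add (sumLT (fun k => dig (code D r) (D.rank - 1 - k)) D.rank) (sumLT (fun k => cart D k s) D.rank))

/-- every pair of orthogonal roots `r`, `s` at `60°` to `p_0` has a companion -/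
def chkQuad (D : ChevalleyDatum) : Bool :=
  allLT (fun r => !(Nat.beq (cart D 0 r) 9) ||
    allLT (fun s => !(Nat.beq (cart D 0 s) 9) || !(Nat.beq (ipA D r s) (ipB D r s)) ||
      anyLT (fun c => Nat.beq (cart D 0 c) 9 && Nat.beq (ipA D r c) (Nat.add 1 (ipB D r c)) &&
        Nat.beq (ipA D s c) (Nat.add 1 (ipB D s c))) D.nroots) D.nroots) D.nroots

theorem chk_E6 : chkQuad chevE6 = true := by decide +kernel
theorem chk_E7 : chkQuad chevE7 = true := by decide +kernel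
theorem chk_E8 : chkQuad chevE8 = true := by decide +kernel

section Tab

variable {D : ChevalleyDatum}

theorem ip_eq (h : Checked D) {r s : ℕ} (hr : r < D.nroots) (hs : s < D.nroots) :
    ∑ k ∈ Finset.range D.rank, rt D r k * D.cartan k s = (ipA D r s : ℤ) - (ipB D r s : ℤ) := by
  have e1 : ∑ k ∈ Finset.range D.rank, rt D r k * D.cartan k s =
      ∑ k ∈ Finset.range D.rank, ((dig (code D r) (D.rank - 1 - k) : ℤ) * (cart D k s : ℤ)
        - 8 * (dig (code D r) (D.rank - 1 - k) : ℤ) - 8 * (cart D k s : ℤ) + 64) := by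
    refine Finset.sum_congr rfl fun k hk => ?_
    rw [Finset.mem_range] at hk
    rw [rt_of_lt hr hk, cartan_eq_cart h hk hs]
    ring
  have eA : (ipA D r s : ℤ) = (∑ k ∈ Finset.range D.rank, (dig (code D r) (D.rank - 1 - k) : ℤ) * (cart D k s : ℤ)) +
      64 * D.rank := by
    unfold ipA
    rw [sumLT_eq]
    simp only [Nat.add_eq, Nat.mul_eq]
    push_cast
    rfl
  have eB : (ipB D r s : ℤ) = 8 * ((∑ k ∈ Finset.range D.rank, (dig (code D r) (D.rank - 1 - k) : ℤ))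
        + ∑ k ∈ Finset.range D.rank, (cart D k s : ℤ)) := by
    unfold ipB
    rw [sumLT_eq, sumLT_eq]
    simp only [Nat.add_eq, Nat.mul_eq]
    push_cast
    rfl
  rw [e1, eA, eB, Finset.sum_add_distrib, Finset.sum_sub_distrib, Finset.sum_sub_distrib, ← Finset.mul_sum,
    ← Finset.mul_sum, Finset.sum_const, Finset.card_range, nsmul_eq_mul]
  ring

theorem quad_tab (hD : chkQuad D = true) (h : Checked D) (h0 : 0 < D.rank) {r s : ℕ} (hr : r < D.nroots)
    (hs : s < D.nroots) (hr1 : D.cartan 0 r = 1) (hs1 : D.cartan 0 s = 1)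
    (hrs : ∑ k ∈ Finset.range D.rank, rt D r k * D.cartan k s = 0) :
    ∃ c < D.nroots, D.cartan 0 c = 1 ∧ ∑ k ∈ Finset.range D.rank, rt D r k * D.cartan k c = 1 ∧
      ∑ k ∈ Finset.range D.rank, rt D s k * D.cartan k c = 1 := by
  have h1 := hD
  simp only [chkQuad, allLT_iff, anyLT_iff, Bool.or_eq_true, Bool.and_eq_true, Bool.not_eq_true', beq_iff] at h1
  have h9 : ∀ {t : ℕ}, t < D.nroots → (D.cartan 0 t = 1 ↔ cart D 0 t = 9) := by
    intro t ht
    rw [cartan_eq_cart h h0 ht]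
    omega
  rw [ip_eq h hr hs] at hrs
  rcases h1 r hr with h2 | h2
  · exfalso
    rw [(h9 hr).1 hr1] at h2
    exact absurd h2 (by decide)
  · rcases h2 s hs with (h3 | h3) | ⟨c, hc, ⟨h3, h4⟩, h5⟩
    · exfalso
      rw [(h9 hs).1 hs1] at h3
      exact absurd h3 (by decide)
    · exfalso
      have h4 : ipA D r s = ipB D r s := by omega
      rw [h4] at h3
      simp at h3
    · refine ⟨c, hc, (h9 hc).2 h3, ?_, ?_⟩
      · have e : Nat.add 1 (ipB D r c) = 1 + ipB D r c := rfl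
        rw [ip_eq h hr hc, h4, e]
        push_cast
        ring
      · have e : Nat.add 1 (ipB D s c) = 1 + ipB D s c := rfl
        rw [ip_eq h hs hc, h5, e]
        push_cast
        ring

end Tab

open CoxeterSystem Cfsg.Agent.ChevalleyStructure.CoxeterGeom Cfsg.Agent.Tits.Roots Cfsg.Agent.Tits.Core
  Cfsg.Agent.Tits.RootComb Cfsg.Agent.Nodes.Comb Cfsg.Agent.Nodes.Reps Cfsg.Agent.Nodes.BNOf
  Cfsg.Agent.Nodes.Coroot Cfsg.Agent.Nodes.SimplyLaced Cfsg.Agent.OddHalf.SL.Index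

section Gen

variable {I W : Type*} [Fintype I] [DecidableEq I] [Group W] {M : CoxeterMatrix I}
  {cs : CoxeterSystem M W} {A : I → I → ℤ} {h : IsCartan M A}

/-- Enough for one root `b`. -/
theorem quad_of_one [Finite W] (h4 : ∀ i j, M i j ≠ 4) (h6 : ∀ i j, M i j ≠ 6)
    (hirr : ∀ J : Set I, J.Nonempty → Jᶜ.Nonempty → ∃ i ∈ J, ∃ j ∈ Jᶜ, M i j ≠ 2) (hI : 2 ≤ Fintype.card I)
    {b0 : I → ℤ} (hb0 : IsRoot cs h b0)
    (h0 : ∀ r s, IsRoot cs h r → IsRoot cs h s → Bf A r s = 0 → Bf A b0 r = 1 → Bf A b0 s = 1 →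
      ∃ c, IsRoot cs h c ∧ Bf A c r = 1 ∧ Bf A c s = 1 ∧ Bf A c b0 = 1) :
    ∀ r s b, IsRoot cs h r → IsRoot cs h s → IsRoot cs h b → Bf A r s = 0 → Bf A b r = 1 → Bf A b s = 1 →
    ∃ c, IsRoot cs h c ∧ Bf A c r = 1 ∧ Bf A c s = 1 ∧ Bf A c b = 1 := by
  have rt := roots cs h h4 h6
  intro r s b hr hs hb
  refine ind (cs := cs) (h := h) h4 h6 hirr hI (P := fun b => ∀ r s, IsRoot cs h r → IsRoot cs h s → Bf A r s = 0 →
    Bf A b r = 1 → Bf A b s = 1 → ∃ c, IsRoot cs h c ∧ Bf A c r = 1 ∧ Bf A c s = 1 ∧ Bf A c b = 1) hb0 h0 ?_ hb r s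
    hr hs
  clear hr hs hb r s b
  intro a b ha hb hab ih r s hr hs hrs hbr hbs
  -- the reflection in `d = a - b`
  obtain ⟨f, f1, f2, f3, f4⟩ : ∃ f : (I → ℤ) → (I → ℤ), (∀ x, IsRoot cs h x → IsRoot cs h (f x)) ∧
      (∀ x y, Bf A (f x) (f y) = Bf A x y) ∧ (∀ x, f (f x) = x) ∧ f b = a := by
    obtain ⟨d, hde⟩ : ∃ d, d = a - b := ⟨_, rfl⟩
    have hd : IsRoot cs h d := hde ▸ rt.sub_mem ha hb hab
    have hdd : Bf A d d = 2 := rt.two _ hd
    have smul_left : ∀ (c : ℤ) (x y : I → ℤ), Bf A (c • x) y = c * Bf A x y := bf_smul_left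
    refine ⟨fun x => x - Bf A x d • d, ?_, ?_, ?_, ?_⟩
    · intro x hx
      have := isRoot_refl cs h hx hd
      rwa [← bf_eq_cpr h4 h6 x hd] at this
    · intro x y
      show Bf A (x - Bf A x d • d) (y - Bf A y d • d) = Bf A x y
      rw [rt.sub_left, rt.sub_right, rt.sub_right, smul_left, smul_left, rt.symm x (Bf A y d • d),
        rt.symm d (Bf A y d • d), smul_left, smul_left, hdd, rt.symm d x, rt.symm d y]
      ring
    · intro x
      show (x - Bf A x d • d) - Bf A (x - Bf A x d • d) d • d = x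
      rw [rt.sub_left, smul_left, hdd]
      have : Bf A x d - Bf A x d * 2 = - Bf A x d := by ring
      rw [this, neg_smul]
      abel
    · show b - Bf A b d • d = a
      rw [hde, rt.sub_right, rt.symm b a, hab, rt.two b hb]
      norm_num
  obtain ⟨c, hc, h1, h2, h3⟩ := ih (f r) (f s) (f1 r hr) (f1 s hs) (by rw [f2]; exact hrs)
    (by rw [← f4, f2]; exact hbr) (by rw [← f4, f2]; exact hbs)
  refine ⟨f c, f1 c hc, ?_, ?_, ?_⟩
  · rw [← h1, ← f2 c (f r), f3]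
  · rw [← h2, ← f2 c (f s), f3]
  · rw [← h3, ← f4, ← f2 c (f b), f3]

end Gen

section Inst

open Cfsg.Agent.ChevalleyStructure.CoxeterGeomTypes Cfsg.Agent.Nodes.RGDChev Cfsg.Agent.KFacts.En.Roots

variable {D : ChevalleyDatum} {l : ℕ} {M : CoxeterMatrix (Fin l)}

/-- **`quad`.** -/
theorem quad (hp : IsType D l M) (hD : chkQuad D = true) (h4 : ∀ i j, M i j ≠ 4) (h6 : ∀ i j, M i j ≠ 6)
    (hirr : ∀ J : Set (Fin l), J.Nonempty → Jᶜ.Nonempty → ∃ i ∈ J, ∃ j ∈ Jᶜ, M i j ≠ 2) (hl : 2 ≤ l)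
    {W : Type*} [Group W] [Finite W] (cs : CoxeterSystem M W) :
    ∀ r s b, IsRoot cs hp.isCartan r → IsRoot cs hp.isCartan s → IsRoot cs hp.isCartan b →
    Bf (cartanOf D l) r s = 0 → Bf (cartanOf D l) b r = 1 → Bf (cartanOf D l) b s = 1 →
    ∃ c, IsRoot cs hp.isCartan c ∧ Bf (cartanOf D l) c r = 1 ∧ Bf (cartanOf D l) c s = 1 ∧
      Bf (cartanOf D l) c b = 1 := by
  have rt := roots cs hp.isCartan h4 h6
  have h0l : 0 < l := by omega
  have e0 : (sr ⟨0, h0l⟩ : Fin l → ℤ) = vec D l (D.simple 0) := (vec_simple hp ⟨0, h0l⟩).symm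
  have hsim : D.simple 0 < D.nroots := simple_lt hp.checked (lt_rank hp ⟨0, h0l⟩)
  have hb : ∀ x y, Bf (cartanOf D l) x y = bf D l x y := by
    intro x y
    rw [rt.symm x y]
    rfl
  have h0 : ∀ {t : ℕ}, t < D.nroots → Bf (cartanOf D l) (sr ⟨0, h0l⟩) (vec D l t) = D.cartan 0 t := by
    intro t ht
    rw [hb, bf_sr_left, pairing_vec hp ⟨0, h0l⟩ ht]
  refine quad_of_one h4 h6 hirr (by rw [Fintype.card_fin]; exact hl) (isRoot_sr cs hp.isCartan ⟨0, h0l⟩) ?_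
  intro x y hx hy hxy hx1 hy1
  obtain ⟨r, hr, rfl⟩ := (isRoot_iff hp cs x).1 hx
  obtain ⟨s, hs, rfl⟩ := (isRoot_iff hp cs y).1 hy
  rw [h0 hr] at hx1
  rw [h0 hs] at hy1
  rw [hb, bf_vec hp hs] at hxy
  obtain ⟨c, hc, h1, h2, h3⟩ := quad_tab hD hp.checked (lt_rank hp ⟨0, h0l⟩) hr hs hx1 hy1 hxy
  refine ⟨vec D l c, isRoot_vec hp cs hc, ?_, ?_, ?_⟩
  · rw [rt.symm, hb, bf_vec hp hc]; exact h2
  · rw [rt.symm, hb, bf_vec hp hc]; exact h3
  · rw [rt.symm, h0 hc]; exact h1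

end Inst

end Cfsg.Agent.OddHalf.D4.En2.QuadTab
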