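import Mathlib
import Cfsg.Agent.OddHalf.D4.En2.Kill
import Cfsg.Agent.OddHalf.D4.En2.FlM
import Cfsg.Agent.OddHalf.D4.En2.InstRE
import Cfsg.Agent.OddHalf.D4.En2.InstRA
import Cfsg.Agent.OddHalf.D4.En2.QuadTab
import Cfsg.Agent.OddHalf.D4.Start
import Cfsg.Agent.KFacts.SLRow.Chev
import Cfsg.Agent.KFacts.SLRow.Facts
import Cfsg.Agent.KFacts.ChevTwoSysInst
import Cfsg.Agent.KFacts.ChevTwoInstE

/-!
# ODD, D4: the rows `E_6(2)`, `E_7(2)`, `E_8(2)`
-/

set_option autoImplicit false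
set_option linter.unusedSectionVars false

namespace Cfsg.Agent.OddHalf.D4.En2.Row

universe u

open CoxeterSystem Cfsg.Lie Cfsg.Agent.ChevalleyStructure Cfsg.Agent.ChevalleyStructure.Elts
  Cfsg.Agent.ChevalleyStructure.RootVec Cfsg.Agent.ChevalleyStructure.RootVecTab
  Cfsg.Agent.ChevalleyStructure.CoxeterGeom Cfsg.Agent.ChevalleyStructure.CoxeterGeomTypes
  Cfsg.Agent.Tits.Roots Cfsg.Agent.Tits.Core Cfsg.Agent.Nodes.Reps Cfsg.Agent.Nodes.BNOf
  Cfsg.Agent.Nodes.RGDChev Cfsg.Agent.KFacts.SLRow.Def Cfsg.Agent.OddHalf.SL.Index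
  Cfsg.Agent.KFacts.En.Roots Cfsg.Agent.KFacts.En.Dir Cfsg.Agent.Nodes.Bruhat Cfsg.Agent.KFacts.RgdPar
  Cfsg.Agent.Nodes

section

variable {D : ChevalleyDatum} {l : ℕ} {M : CoxeterMatrix (Fin l)}

/-- positivity and heights -/
theorem htp (h : Ty D l M) {W : Type*} [Group W] (cs : CoxeterSystem M W) (x : Fin l → ℤ)
    (hx : IsRoot cs h.ty.isCartan x) : 0 < ht l x ↔ 0 ≤ x := by
  obtain ⟨r, hr, rfl⟩ := (isRoot_iff h.ty cs x).1 hx
  rw [← pos_iff_ht h hr, isPosRoot_iff h.ty.checked]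
  constructor
  · intro h1 i
    exact h1.2 i (lt_rank h.ty i)
  · intro h1
    refine ⟨hr, fun i hi => ?_⟩
    rw [h.ty.rank_eq] at hi
    exact h1 ⟨i, hi⟩

/-- the last root of the table is dominant -/
theorem high (h : Ty D l M) (hl : 0 < D.nroots)
    (hdom : allLT (fun k => Nat.ble 8 (cart D k (D.nroots - 1))) D.rank = true) {W : Type*} [Group W]
    (cs : CoxeterSystem M W) (c : Fin l → ℤ) (hc : IsRoot cs h.ty.isCartan c) (h0 : 0 < ht l c) :
    0 ≤ Bf (cartanOf D l) c (vec D l (D.nroots - 1)) := by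
  have e : Bf (cartanOf D l) c (vec D l (D.nroots - 1)) = bf D l c (vec D l (D.nroots - 1)) := by
    rw [bf_symm h]; rfl
  rw [e]
  unfold bf
  have hn : D.nroots - 1 < D.nroots := by omega
  refine Finset.sum_nonneg fun i _ => mul_nonneg ((htp h cs c hc).1 h0 i) ?_
  rw [pairing_vec h.ty i hn, cartan_eq_cart h.ty.checked (lt_rank h.ty i) hn]
  simp only [allLT_iff, ble_iff] at hdom
  have := hdom i (lt_rank h.ty i)
  omega

theorem center_eq_bot (hD : D ∈ [chevD4, chevF4, chevE6, chevE7, chevE8]) (K : Type) [Field K] [Finite K] :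
    Subgroup.center ↥(D.group K) = ⊥ := by
  obtain ⟨hs, hna⟩ := Cfsg.Agent.S1054.result (F := K) D hD
  rcases (inferInstance : (Subgroup.center ↥(D.group K)).Normal).eq_bot_or_eq_top with h | h
  · exact h
  · exfalso
    apply hna
    refine ⟨⟨fun a b => ?_⟩⟩
    have : b ∈ Subgroup.center ↥(D.group K) := by rw [h]; exact Subgroup.mem_top b
    rw [Subgroup.mem_center_iff] at this
    exact this a

/-- **No configuration in `D.group K`, `|K| = 2`.** -/
theorem noConf (h : Ty D l M) (hD : D ∈ [chevD4, chevF4, chevE6, chevE7, chevE8]) (h4 : ∀ i j, M i j ≠ 4)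
    (h6 : ∀ i j, M i j ≠ 6) (hc : Conn M) (h3 : 3 ≤ l) (hOK : Cfsg.Agent.KFacts.ChevTwoInst.TwoOK D)
    (hq : QuadTab.chkQuad D = true) (hl : 0 < D.nroots)
    (hdom : allLT (fun k => Nat.ble 8 (cart D k (D.nroots - 1))) D.rank = true)
    (hFl : FlOK (Bf (cartanOf D l)) {x | IsRoot M.toCoxeterSystem h.ty.isCartan x} (ht l) (vec D l (D.nroots - 1))
      (FlM.FlM M (cartanOf D l)))
    (K : Type) [Field K] [Finite K] [CharP K 2] (h2 : ∀ t : K, t = 0 ∨ t = 1) {α β : MulAut ↥(D.group K)}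
    {D' N : Subgroup ↥(D.group K)} (hconf : Conf α β D' N) : False := by
  have : Fact (Nat.Prime 2) := ⟨Nat.prime_two⟩
  have hW : Finite M.Group := finite_W h.ty M.toCoxeterSystem
  have hfin : Finite ↥(D.group K) := inferInstance
  have S := Cfsg.Agent.KFacts.ChevTwoInst.sys (K := K) h.ty hOK M.toCoxeterSystem
  have hN := Cfsg.Agent.KFacts.RgdCent.noCent_of_center (rgd (K := K) h.ty M.toCoxeterSystem 2)
    (G1_eq_top h.ty _) (center_eq_bot hD K)
  have hG : GG M.toCoxeterSystem h.ty.isCartan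
      ((D.diagonalSubgroup K).subgroupOf (D.group K)) (fun x => (XV D l K x).subgroupOf (D.group K)) = ⊤ := by
    rw [eq_top_iff, ← G1_eq_top (K := K) h.ty M.toCoxeterSystem]
    exact RGD.Sup_le fun x hx => X_le_GG (X := fun x => (XV D l K x).subgroupOf (D.group K)) hx
  have hre := InstRE.re S h2 hN hG h4 h6 hc (by simpa using h3) (ht := ht l)
    (fun x hx => ht_ne_zero h ((isRoot_iff h.ty _ x).1 hx))
    (fun x y hx hy => eq_of_ht h ((isRoot_iff h.ty _ x).1 hx) ((isRoot_iff h.ty _ y).1 hy))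
    (htp h _) (QuadTab.quad h.ty hq h4 h6 hc (by omega) M.toCoxeterSystem)
  have hra := InstRE.ra S h2 hN hG h4 h6 (htp h _) hre
    ((isRoot_iff h.ty _ _).2 ⟨D.nroots - 1, by omega, rfl⟩) (high h hl hdom _)
  exact false_of_conf hre hra hconf hFl

end

/-- **A row of `Cut.lean` from `AutFacts` and "no configuration".** -/
theorem row_of_noConf (h1173 : Start.P1173.{u}) {P : (K : Type u) → [Group K] → Prop}
    (hF : ∀ (X : Type u) [Group X] [Finite X] [IsSimpleGroup X], P X → AutFacts X)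
    (hno : ∀ (X : Type u) [Group X] [Finite X] [IsSimpleGroup X], P X →
      ∀ (α β : MulAut X) (D N : Subgroup X), Conf α β D N → False) : Cut.Row1.{u} P := by
  apply Start.row_of_pair h1173 hF
  intro G _ hG K L Q U _ hD hp hP
  have := hG.fin
  have := hD.simple
  have hrL : Rk2 L := by
    obtain ⟨g, _, rfl⟩ := hp.conj
    exact hD.rk.cj g
  obtain ⟨y, hy, u, hu, hy2, hu2, hyu, hne⟩ := hrL.exists_syl hp.sylU
  have hUK := hp.leU hD.loc.tight hD.loc.even
  exact hno ↥K hP _ _ _ _ (hp.conf hD.loc (hUK hy) (hUK hu) (hp.sylU.le hy) (hp.sylU.le hu) hy2 hu2 hyu hne)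

theorem two_of_card {F : Type*} [Field F] [Fintype F] (h : Fintype.card F = 2) (a : F) : a = 0 ∨ a = 1 := by
  classical
  by_contra hcon
  push Not at hcon
  have h3 : ({0, 1, a} : Finset F).card ≤ Fintype.card F := Finset.card_le_univ _
  rw [h, Finset.card_insert_of_notMem (by
    simp only [Finset.mem_insert, Finset.mem_singleton, not_or]
    exact ⟨zero_ne_one, hcon.1.symm⟩), Finset.card_insert_of_notMem (by
    simp only [Finset.mem_singleton]
    exact hcon.2.symm), Finset.card_singleton] at h3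
  omega

theorem charP_of_card {F : Type*} [Field F] [Fintype F] (h : Fintype.card F = 2) : CharP F 2 := by
  have h1 : (2 : F) = 0 := by
    have := FiniteField.cast_card_eq_zero F
    rw [h] at this
    exact_mod_cast this
  exact CharTwo.of_one_ne_zero_of_two_eq_zero one_ne_zero h1

open Cfsg.Agent.KFacts.SLRow.Chev

theorem row_e62 (h1173 : Start.P1173.{u}) : Cut.Row1.{u} (fun K _ => Cut.E62 K) := by
  apply row_of_noConf h1173
  · rintro X _ _ _ ⟨F, _, _, hF, ⟨e⟩⟩
    have := charP_of_card hF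
    have h1 := isSL_E6 F
    rw [Nat.card_eq_fintype_card, hF] at h1
    exact Cfsg.Agent.KFacts.SLRow.Facts.autFacts (h1.of_equiv e.symm)
  · rintro X _ _ _ ⟨F, _, _, hF, ⟨e⟩⟩ α β D N hc
    have := charP_of_card hF
    exact noConf ty_E6 (by simp) (by intro i; fin_cases i <;> decide) (by intro i; fin_cases i <;> decide)
      (conn_of_parent ![0, 3, 1, 2, 3, 4] ![0, 3, 0, 2, 3, 4] (by decide) (by decide) (by decide)) (by norm_num)
      Cfsg.Agent.KFacts.ChevTwoInst.twoOK_E6 QuadTab.chk_E6 (by decide +kernel) (by decide +kernel)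
      (FlM.flOK_E6 (htp ty_E6 _)) F (two_of_card hF) (hc.map e)

theorem row_e72 (h1173 : Start.P1173.{u}) : Cut.Row1.{u} (fun K _ => Cut.E72 K) := by
  apply row_of_noConf h1173
  · rintro X _ _ _ ⟨F, _, _, hF, ⟨e⟩⟩
    have := charP_of_card hF
    have h1 := isSL_E7 F
    rw [Nat.card_eq_fintype_card, hF] at h1
    exact Cfsg.Agent.KFacts.SLRow.Facts.autFacts (h1.of_equiv e.symm)
  · rintro X _ _ _ ⟨F, _, _, hF, ⟨e⟩⟩ α β D N hc
    have := charP_of_card hF
    exact noConf ty_E7 (by simp) (by intro i; fin_cases i <;> decide) (by intro i; fin_cases i <;> decide)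
      (conn_of_parent ![0, 3, 1, 2, 3, 4, 5] ![0, 3, 0, 2, 3, 4, 5] (by decide) (by decide) (by decide)) (by norm_num)
      Cfsg.Agent.KFacts.ChevTwoInst.twoOK_E7 QuadTab.chk_E7 (by decide +kernel) (by decide +kernel)
      (FlM.flOK_E7 (htp ty_E7 _)) F (two_of_card hF) (hc.map e)

theorem row_e82 (h1173 : Start.P1173.{u}) : Cut.Row1.{u} (fun K _ => Cut.E82 K) := by
  apply row_of_noConf h1173
  · rintro X _ _ _ ⟨F, _, _, hF, ⟨e⟩⟩
    have := charP_of_card hF
    have h1 := isSL_E8 F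
    rw [Nat.card_eq_fintype_card, hF] at h1
    exact Cfsg.Agent.KFacts.SLRow.Facts.autFacts (h1.of_equiv e.symm)
  · rintro X _ _ _ ⟨F, _, _, hF, ⟨e⟩⟩ α β D N hc
    have := charP_of_card hF
    exact noConf ty_E8 (by simp) (by intro i; fin_cases i <;> decide) (by intro i; fin_cases i <;> decide)
      (conn_of_parent ![0, 3, 1, 2, 3, 4, 5, 6] ![0, 3, 0, 2, 3, 4, 5, 6] (by decide) (by decide) (by decide))
      (by norm_num) Cfsg.Agent.KFacts.ChevTwoInst.twoOK_E8 QuadTab.chk_E8 (by decide +kernel) (by decide +kernel)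
      (FlM.flOK_E8 (htp ty_E8 _)) F (two_of_card hF) (hc.map e)

end Cfsg.Agent.OddHalf.D4.En2.Row
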